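import Cfsg.Agent.PSpFourRec.Types
import Cfsg.Agent.S3333

/-!
# The centralizer of a sign change when the basis vector has a small centralizer
-/

set_option autoImplicit false
set_option maxRecDepth 100000
set_option synthInstance.maxSize 100000
set_option linter.style.haveILetI false
set_option linter.unusedSectionVars false

namespace CfsgLib.PSpFourRec

open CfsgLib.AltNine CfsgLib.PSpFourThree Subgroup
open CfsgLib.ThreeSymNine (Mat app mm pmat dmat mono pa pm pinv dig sm nv_nv pa_table app_pmat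
  app_one ext_app allSigns dx du db pd bc mono_tables nineTab nineDih)

attribute [local instance 10000] List.decidableBAll List.decidableBEx

universe u

/-- The matrices induced by the centralizer of the sign change. -/
def flipTab : List Mat :=
  (nineTab.map Prod.fst) ++ (nineTab.map fun p => mm p.1 (mono 4 0))

/-- The action on the fixed plane. -/
def flipDih (M : Mat) : DihedralGroup 4 :=
  if M ∈ nineTab.map Prod.fst then nineDih M else nineDih (mm M (mono 4 0))

theorem flip_el_table : ∀ v : Fin 27, ∀ d : Fin 8, ∀ a : Fin 6,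
    av v (app (dmat d) (pa a 0)) = av 0 (app (dmat 4) (pa 0 v)) →
    dx d (pd a 4) = dx 4 (pd 0 d) →
    app (mono 4 0) v = v ∧ mono d a ∈ flipTab ∧
      (mono d a = pmat 0 → d = 0 ∧ a = 0) ∧ (mono d a = mono 4 0 → d = 4 ∧ a = 0) := by
  decide +kernel

theorem flip_dih_tables : (∀ A ∈ flipTab, ∀ B ∈ flipTab, flipDih (mm A B) = flipDih A * flipDih B) ∧
    (∀ A ∈ flipTab, flipDih A = 1 → A = pmat 0 ∨ A = mono 4 0) ∧
    (∀ k, ∃ A ∈ flipTab, flipDih A = k) ∧
    (∀ A ∈ flipTab, ∃ d : Fin 8, ∃ a : Fin 6, A = mono d a ∧ pd a 4 = 4) ∧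
    (∀ A ∈ flipTab, app A 1 = 1 → app A 3 = 3 → A = pmat 0 ∨ A = mono 4 0) ∧
    flipDih (pmat 0) = 1 ∧ flipDih (mono 4 0) = 1 := by decide +kernel

theorem flip_lines : app (mono 4 0) 1 = 1 ∧ app (mono 4 0) 3 = 3 ∧
    (∀ v, app (mono 4 0) v = v → v ≠ 0 → ∃ d ∈ allSigns, ∃ a : Fin 6,
      app (mono d a) 9 = v ∨ app (mono d a) 4 = v) := by decide +kernel

namespace Hyp

variable {G : Type u} [Group G] [Finite G] {H : Hyp G} {D : Fin 8 → G}

theorem Flips.el_flip (h : H.Flips D) {v : Fin 27} {d : Fin 8} {a : Fin 6}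
    (hc : H.el D v d a * D 4 = D 4 * H.el D v d a) :
    app (mono 4 0) v = v ∧ mono d a ∈ flipTab ∧
      (mono d a = pmat 0 → d = 0 ∧ a = 0) ∧ (mono d a = mono 4 0 → d = 4 ∧ a = 0) := by
  have hD : D 4 = H.el D 0 4 0 := by rw [el, H.emb_zero, H.S_zero, one_mul, mul_one]
  rw [hD, h.el_mul, h.el_mul] at hc
  obtain ⟨e1, e2, -⟩ := h.el_inj hc
  exact flip_el_table v d a e1 e2

/-- The order of the centralizer of the sign change. -/
theorem Flips.cent_flip_two_part (h : H.Flips D) (h9 : H.C [9] ≤ H.N) :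
    ¬ 64 ∣ Nat.card (centralizer ({D 4} : Set G)) := by
  classical
  haveI : Fact (Nat.Prime 3) := ⟨Nat.prime_three⟩
  let X := centralizer ({D 4} : Set G)
  obtain ⟨Q, hQ, hQN⟩ : ∃ Q : Sylow 3 X, (Q : Subgroup X) = (H.Fix (D 4)).subgroupOf X ∧
      ∀ n ∈ normalizer ((Q : Subgroup X) : Set X), (n : G) ∈ H.N :=
    h.sylow_plane (d := 4) (a := 0) (by decide) h.named.2.1
  have hfX : D 4 ∈ X := mem_centralizer_singleton_iff.2 rfl
  set f₀ : X := ⟨D 4, hfX⟩
  set Z : Subgroup X := zpowers f₀ with hZ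
  haveI hZn : Z.Normal := ⟨fun n hn g => by
    obtain ⟨i, rfl⟩ := mem_zpowers_iff.1 hn
    have hc : Commute g f₀ := Subtype.ext (mem_centralizer_singleton_iff.1 g.2)
    rw [(hc.zpow_right i).eq, mul_inv_cancel_right]
    exact zpow_mem (mem_zpowers _) i⟩
  have hf2 : f₀ * f₀ = 1 := Subtype.ext (h.sq 4)
  have hZel : ∀ y : X, y ∈ Z → y = 1 ∨ y = f₀ := by
    intro y hy
    obtain ⟨i, rfl⟩ := mem_zpowers_iff.1 hy
    rcases Int.even_or_odd' i with ⟨k, rfl | rfl⟩
    · left; rw [zpow_mul, zpow_two, hf2, one_zpow]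
    · right; rw [zpow_add, zpow_mul, zpow_two, hf2, one_zpow, one_mul, zpow_one]
  have hZcard : Nat.card Z = 2 := by
    rw [Nat.card_zpowers, orderOf_mk]
    exact h.orderOf_flip (by decide)
  set π := QuotientGroup.mk' Z with hπ
  have hπs : Function.Surjective π := QuotientGroup.mk'_surjective Z
  -- lifts of elements of order three are unique
  have hlift3 : ∀ x y : X, x ^ 3 = 1 → y ^ 3 = 1 → π x = π y → x = y := by
    intro x y hx hy hxy
    have hc : Commute y f₀ := Subtype.ext (mem_centralizer_singleton_iff.1 y.2)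
    rcases hZel _ (QuotientGroup.eq.1 hxy) with e | e
    · exact inv_mul_eq_one.1 e
    · exfalso
      rw [inv_mul_eq_iff_eq_mul] at e
      rw [e] at hy
      have hcx : Commute x f₀ := Subtype.ext (mem_centralizer_singleton_iff.1 x.2)
      rw [hcx.mul_pow, hx, one_mul, pow_succ, pow_two, hf2, one_mul] at hy
      have := congrArg Subtype.val hy
      exact absurd (h.orderOf_flip (d := 4) (by decide))
        (by rw [show D 4 = 1 from this, orderOf_one]; norm_num)
  have hmemQ : ∀ {x : X}, x ∈ (Q : Subgroup X) ↔ (x : G) ∈ H.Fix (D 4) := fun {x} => by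
    rw [hQ]; exact mem_subgroupOf
  have hQ3 : ∀ x ∈ (Q : Subgroup X), x ^ 3 = 1 := fun x hx =>
    Subtype.ext (H.J_cube (hmemQ.1 hx).1)
  set P := Q.mapSurjective hπs with hP
  have hPm : ∀ {y : X ⧸ Z}, y ∈ (P : Subgroup (X ⧸ Z)) ↔ ∃ x ∈ (Q : Subgroup X), π x = y := by
    intro y
    rw [hP, Sylow.coe_mapSurjective]
    exact Iff.rfl
  have hcard : Nat.card (P : Subgroup (X ⧸ Z)) = 9 := by
    rw [hP, Sylow.coe_mapSurjective]
    have e : Nat.card (Q : Subgroup X) = 9 := by
      have hle : H.Fix (D 4) ≤ X := fun g hg => hg.2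
      rw [hQ, Nat.card_congr (subgroupOfEquivOfLe hle).toEquiv, H.card_Fix h.named.2.1,
        type_tables.2.2.1]
    rw [← e]
    exact Nat.card_image_of_injOn (f := π) (s := ((Q : Subgroup X) : Set X))
      fun a ha b hb hab => hlift3 a b (hQ3 a ha) (hQ3 b hb) hab
  -- the normalizer
  set N' := normalizer ((P : Subgroup (X ⧸ Z)) : Set (X ⧸ Z)) with hN'
  have hconj : ∀ (x : X), π x ∈ N' → ∀ y ∈ (Q : Subgroup X), x * y * x⁻¹ ∈ (Q : Subgroup X) := by
    intro x hx y hy
    obtain ⟨w, hw, hwe⟩ := hPm.1 ((mem_normalizer_iff.1 hx (π y)).1 (hPm.2 ⟨y, hy, rfl⟩))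
    rw [hlift3 (x * y * x⁻¹) w (by rw [conj_pow, hQ3 y hy, mul_one, mul_inv_cancel]) (hQ3 w hw)
      (by rw [hwe, map_mul, map_mul, map_inv])]
    exact hw
  have hnlift : ∀ x : X, π x ∈ N' → (x : G) ∈ H.N := by
    intro x hx
    refine hQN x (mem_normalizer_iff.2 fun y => ⟨hconj x hx y, fun hy => ?_⟩)
    have := hconj x⁻¹ (by rw [map_inv]; exact inv_mem hx) _ hy
    simpa [mul_assoc] using this
  have hNmem : ∀ x : X, (x : G) ∈ H.N → π x ∈ N' := by
    intro x hx
    refine mem_normalizer_iff.2 fun y => ?_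
    have key : ∀ (x : X), (x : G) ∈ H.N → ∀ y ∈ (P : Subgroup (X ⧸ Z)),
        π x * y * (π x)⁻¹ ∈ (P : Subgroup (X ⧸ Z)) := by
      intro x hx y hy
      obtain ⟨w, hw, rfl⟩ := hPm.1 hy
      refine hPm.2 ⟨x * w * x⁻¹, hmemQ.2 ⟨(mem_normalizer_iff.1 hx _).1 (hmemQ.1 hw).1, ?_⟩,
        by rw [map_mul, map_mul, map_inv]⟩
      exact (x * w * x⁻¹).2
    refine ⟨key x hx y, fun hy => ?_⟩
    have := key x⁻¹ (inv_mem hx) _ hy
    simpa [map_inv, mul_assoc] using this
  have hel : ∀ x : X, π x ∈ N' → ∃ v d a, (x : G) = H.el D v d a ∧ app (mono 4 0) v = v ∧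
      mono d a ∈ flipTab ∧ (mono d a = pmat 0 → d = 0 ∧ a = 0) ∧
      (mono d a = mono 4 0 → d = 4 ∧ a = 0) := by
    intro x hx
    obtain ⟨v, d, a, hxe⟩ := h.mem_N_iff.1 (hnlift x hx)
    exact ⟨v, d, a, hxe, h.el_flip (hxe ▸ mem_centralizer_singleton_iff.1 x.2)⟩
  -- an element inducing the identity or the sign change lies in the Sylow subgroup
  have hsmall : ∀ x : X, ∀ v d a, (x : G) = H.el D v d a → app (mono 4 0) v = v →
      (mono d a = pmat 0 → d = 0 ∧ a = 0) → (mono d a = mono 4 0 → d = 4 ∧ a = 0) →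
      (mono d a = pmat 0 ∨ mono d a = mono 4 0) → π x ∈ (P : Subgroup (X ⧸ Z)) := by
    intro x v d a hx hv i1 i2 hM
    have hvF : H.emb v ∈ H.Fix (D 4) := (H.mem_Fix h.named.2.1).2 ⟨v, hv, rfl⟩
    let w : X := ⟨H.emb v, hvF.2⟩
    refine hPm.2 ⟨w, hmemQ.2 hvF, ?_⟩
    rcases hM with hM | hM
    · obtain ⟨rfl, rfl⟩ := i1 hM
      refine congrArg π (Subtype.ext ?_)
      rw [hx, el, h.zero, H.S_zero, mul_one, mul_one]
    · obtain ⟨rfl, rfl⟩ := i2 hM
      rw [show x = w * f₀ from Subtype.ext (by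
        rw [hx, el, H.S_zero, mul_one]; rfl), map_mul,
        show π f₀ = 1 from (QuotientGroup.eq_one_iff _).2 (mem_zpowers _), mul_one]
  -- the self-centralizing property
  have hC : centralizer ((P : Subgroup (X ⧸ Z)) : Set (X ⧸ Z)) = (P : Subgroup (X ⧸ Z)) := by
    refine le_antisymm (fun y hy => ?_) fun y hy => mem_centralizer_iff.2 fun w hw => ?_
    · obtain ⟨x, rfl⟩ := hπs y
      have hxN : π x ∈ N' := centralizer_le_normalizer _ hy
      obtain ⟨v, d, a, hx, hv, hT, i1, i2⟩ := hel x hxN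
      refine hsmall x v d a hx hv i1 i2 (flip_dih_tables.2.2.2.2.1 _ hT ?_ ?_) <;>
      · refine H.emb_inj ?_
        rw [← h.el_ind v d a, ← hx]
        first
          | (have hF : H.emb 1 ∈ H.Fix (D 4) := (H.mem_Fix h.named.2.1).2 ⟨1, flip_lines.1, rfl⟩
             let w : X := ⟨H.emb 1, hF.2⟩
             have hwQ : w ∈ (Q : Subgroup X) := hmemQ.2 hF
             have e := mem_centralizer_iff.1 hy (π w) (hPm.2 ⟨w, hwQ, rfl⟩)
             exact congrArg Subtype.val (hlift3 (x * w * x⁻¹) w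
               (by rw [conj_pow, hQ3 w hwQ, mul_one, mul_inv_cancel]) (hQ3 w hwQ)
               (by rw [map_mul, map_mul, map_inv, ← e, mul_inv_cancel_right])))
          | (have hF : H.emb 3 ∈ H.Fix (D 4) := (H.mem_Fix h.named.2.1).2 ⟨3, flip_lines.2.1, rfl⟩
             let w : X := ⟨H.emb 3, hF.2⟩
             have hwQ : w ∈ (Q : Subgroup X) := hmemQ.2 hF
             have e := mem_centralizer_iff.1 hy (π w) (hPm.2 ⟨w, hwQ, rfl⟩)
             exact congrArg Subtype.val (hlift3 (x * w * x⁻¹) w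
               (by rw [conj_pow, hQ3 w hwQ, mul_one, mul_inv_cancel]) (hQ3 w hwQ)
               (by rw [map_mul, map_mul, map_inv, ← e, mul_inv_cancel_right])))
    · obtain ⟨x, hx, rfl⟩ := hPm.1 hy
      obtain ⟨x', hx', rfl⟩ := hPm.1 hw
      rw [← map_mul, ← map_mul]
      exact congrArg π (Subtype.ext (H.J_comm (hmemQ.1 hx').1 (hmemQ.1 hx).1))
  -- the quotient of the normalizer
  let W : Subgroup X := N'.comap π
  have hWM : ∀ x : W, ∃ M : Mat, M ∈ flipTab ∧ H.Induces ((x : X) : G) M := fun x => by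
    obtain ⟨v, d, a, hx, -, hT, -, -⟩ := hel x x.2
    exact ⟨_, hT, hx ▸ h.el_ind v d a⟩
  choose mat hmat hind using hWM
  let ρ : W →* DihedralGroup 4 :=
    { toFun := fun x => flipDih (mat x)
      map_one' := by
        have h1 : mat 1 = pmat 0 := (hind 1).unique (H.induces_J (one_mem _))
        show flipDih (mat 1) = 1
        rw [h1]
        exact flip_dih_tables.2.2.2.2.2.1
      map_mul' := fun x y => by
        show flipDih (mat (x * y)) = _
        rw [(hind (x * y)).unique ((hind x).mul (hind y))]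
        exact flip_dih_tables.1 _ (hmat x) _ (hmat y) }
  have hρs : Function.Surjective ρ := by
    intro k
    obtain ⟨A, hA, hAk⟩ := flip_dih_tables.2.2.1 k
    obtain ⟨d, a, rfl, hpd⟩ := flip_dih_tables.2.2.2.1 A hA
    have hxC : H.el D 0 d a ∈ X := by
      have hS : H.S a * D 4 = D 4 * H.S a := by
        have := h.conj a 4
        rw [hpd, mul_inv_eq_iff_eq_mul] at this
        exact this
      rw [mem_centralizer_singleton_iff, el, H.emb_zero, one_mul, mul_assoc, hS, ← mul_assoc,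
        ← mul_assoc, h.comm]
    let x : X := ⟨_, hxC⟩
    refine ⟨⟨x, hNmem x (h.el_mem 0 d a)⟩, ?_⟩
    show flipDih (mat _) = k
    rw [← hAk, (hind _).unique (h.el_ind 0 d a)]
  let σ : W →* N' := (π.comp W.subtype).codRestrict N' fun x => x.2
  have hσs : Function.Surjective σ := fun y => by
    obtain ⟨x, hx⟩ := hπs y
    exact ⟨⟨x, mem_comap.2 (hx ▸ y.2)⟩, Subtype.ext hx⟩
  let PN := (P : Subgroup (X ⧸ Z)).subgroupOf N'
  have hker : ρ.ker = PN.comap σ := by
    ext x
    rw [MonoidHom.mem_ker, mem_comap, mem_subgroupOf]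
    constructor
    · intro hx
      obtain ⟨v, d, a, hxe, hv, hT, i1, i2⟩ := hel x x.2
      refine hsmall x v d a hxe hv i1 i2 ?_
      rw [(h.el_ind v d a).unique (hxe ▸ hind x)]
      exact flip_dih_tables.2.1 _ (hmat x) hx
    · intro hx
      obtain ⟨w, hw, hwe⟩ := hPm.1 hx
      show flipDih (mat x) = 1
      have hwI : H.Induces (w : G) (pmat 0) := H.induces_J (hmemQ.1 hw).1
      rcases hZel _ (QuotientGroup.eq.1 hwe) with e | e
      · rw [inv_mul_eq_one] at e
        rw [(hind x).unique (e ▸ hwI)]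
        exact flip_dih_tables.2.2.2.2.2.1
      · rw [inv_mul_eq_iff_eq_mul] at e
        have h4' := hwI.mul (h.ind_flip 4)
        rw [show mm (pmat 0) (mono 4 0) = mono 4 0 from (CfsgLib.ThreeSymNine.mm_one _).1] at h4'
        rw [(hind x).unique (show H.Induces ((x : X) : G) (mono 4 0) by
          rw [show ((x : X) : G) = (w : G) * D 4 from congrArg Subtype.val e]; exact h4')]
        exact flip_dih_tables.2.2.2.2.2.2
  haveI hPn : PN.Normal := normal_subgroupOf_of_le_normalizer le_rfl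
  have eN : N' ⧸ PN ≃* DihedralGroup 4 := by
    let τ : W →* N' ⧸ PN := (QuotientGroup.mk' PN).comp σ
    have hτs : Function.Surjective τ := (QuotientGroup.mk'_surjective PN).comp hσs
    have hτk : τ.ker = ρ.ker := by
      rw [hker]
      ext x
      exact (QuotientGroup.eq_one_iff _)
    exact (QuotientGroup.quotientKerEquivOfSurjective τ hτs).symm.trans
      ((QuotientGroup.quotientMulEquivOfEq hτk).trans
        (QuotientGroup.quotientKerEquivOfSurjective ρ hρs))
  have hcent : ∀ t ∈ (P : Subgroup (X ⧸ Z)), t ≠ 1 → centralizer ({t} : Set (X ⧸ Z)) ≤ N' := by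
    intro t ht ht1 y hy
    obtain ⟨w, hw, rfl⟩ := hPm.1 ht
    obtain ⟨x, rfl⟩ := hπs y
    obtain ⟨v, hv, hwv⟩ := (H.mem_Fix h.named.2.1).1 (hmemQ.1 hw)
    have hv0 : v ≠ 0 := by
      rintro rfl
      exact ht1 (by rw [show w = 1 from Subtype.ext (hwv.trans H.emb_zero), map_one])
    refine hNmem x ?_
    have hc : x * w * x⁻¹ = w := hlift3 _ _ (by rw [conj_pow, hQ3 w hw, mul_one, mul_inv_cancel])
      (hQ3 w hw) (by
        rw [map_mul, map_mul, map_inv, mem_centralizer_singleton_iff.1 hy, mul_inv_cancel_right])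
    have hxc : (x : G) ∈ centralizer ({H.emb v} : Set G) := by
      rw [mem_centralizer_singleton_iff, ← hwv]
      exact congrArg Subtype.val (mul_inv_eq_iff_eq_mul.1 hc)
    obtain ⟨d, hd, a, e⟩ := flip_lines.2.2 v hv hv0
    rcases e with e | e <;> rw [← e] at hxc
    · exact H.cent_le_transport (h.signs.mem hd a) (H.C_singleton 9 ▸ h9) hxc
    · exact h.signs.C_four_of hd rfl hxc
  have hmul := ((P : Subgroup (X ⧸ Z)).subgroupOf N').card_mul_index
  have hX2 : Nat.card X = Nat.card (X ⧸ Z) * 2 := by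
    rw [card_eq_card_quotient_mul_card_subgroup Z, hZcard]
  intro h64
  rcases Cfsg.Agent.S3333.result P (P : Subgroup (X ⧸ Z)) rfl hcard hC eN hcent with hn | ⟨⟨e⟩⟩
  · have htop : N' = ⊤ := by rw [hN']; exact normalizer_eq_top_iff.2 hn
    rw [index, Nat.card_congr eN.toEquiv, DihedralGroup.nat_card,
      Nat.card_congr (subgroupOfEquivOfLe le_normalizer).toEquiv, hcard] at hmul
    rw [hX2, ← card_top (G := X ⧸ Z), ← htop, ← hmul] at h64
    norm_num at h64
  · rw [hX2, Nat.card_congr e.toEquiv, Nat.card_perm, Nat.card_fin] at h64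
    norm_num [Nat.factorial] at h64

end Hyp

end CfsgLib.PSpFourRec
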