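import Cfsg.Agent.ThreeSymNine.Tools
import Cfsg.Agent.Solvable.Basics
import Cfsg.Agent.Solvable.CoprimeAbelian
import Cfsg.Agent.Coprime.Sylow
import Cfsg.Agent.S3331

/-!
# A Sylow three-subgroup of order nine with a fixed line and a self-centralizing inverted element

If, in addition, no centralizer of an element of the Sylow subgroup has order divisible by five or
seven, a subgroup containing the normalizer of the Sylow subgroup and all these centralizers is the
whole group.
-/

set_option autoImplicit false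
set_option linter.style.haveILetI false

namespace CfsgLib.PSpFourRec

open Subgroup

universe u

variable {Y : Type u} [Group Y] [Finite Y]

theorem order_nine_not_cyclic {P : Subgroup Y} (hP : Nat.card P = 9) (h3 : ∀ a ∈ P, a ^ 3 = 1) :
    ¬ IsCyclic P := by
  intro hc
  obtain ⟨g, hg⟩ := hc.exists_generator
  have h1 : orderOf g = 9 := (orderOf_eq_card_of_forall_mem_zpowers hg).trans hP
  have h2 : orderOf g ∣ 3 := orderOf_dvd_of_pow_eq_one (Subtype.ext (h3 g g.2))
  rw [h1] at h2
  norm_num at h2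

/-- An abelian group of order nine and exponent three acting on a subgroup of prime order `r`, where
`9` does not divide `r - 1`, has a nontrivial element centralizing it. -/
theorem exists_centralizing {P Q : Subgroup Y} (hP : Nat.card P = 9)
    (hn : P ≤ normalizer (Q : Set Y)) {r : ℕ} [Fact r.Prime] (hQ : Nat.card Q = r)
    (hr : ¬ 9 ∣ r - 1) : ∃ d ∈ P, d ≠ 1 ∧ Q ≤ centralizer ({d} : Set Y) := by
  haveI : IsCyclic Q := isCyclic_of_prime_card hQ
  let f : P →* MulAut Q := MonoidHom.comp (Subgroup.normalizerMonoidHom Q) (Subgroup.inclusion hn)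
  have hne : f.ker ≠ ⊥ := by
    intro h
    have hd : Nat.card P ∣ Nat.card (MulAut Q) := card_dvd_of_injective f (f.ker_eq_bot_iff.1 h)
    rw [hP, IsCyclic.card_mulAut, hQ, Nat.totient_prime Fact.out] at hd
    exact hr hd
  obtain ⟨d, hd, hd1⟩ := (bot_or_exists_ne_one f.ker).resolve_left hne
  refine ⟨d, d.2, fun e => hd1 (Subtype.ext e), fun q hq => mem_centralizer_singleton_iff.2 ?_⟩
  have h := congrArg (fun φ : MulAut Q => ((φ ⟨q, hq⟩ : Q) : Y)) (MonoidHom.mem_ker.1 hd)
  exact (mul_inv_eq_iff_eq_mul.1 (show (d : Y) * q * (d : Y)⁻¹ = q from h)).symm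

/-- The case of a trivial core. -/
theorem normal_of_core_bot (P : Sylow 3 Y) (hcard : Nat.card (P : Subgroup Y) = 9)
    (hc : ∀ a ∈ (P : Subgroup Y), ∀ b ∈ (P : Subgroup Y), a * b = b * a)
    (h3 : ∀ a ∈ (P : Subgroup Y), a ^ 3 = 1)
    {e u : Y} (he : e ∈ (P : Subgroup Y)) (he1 : e ≠ 1) (hu : u ∈ (P : Subgroup Y)) (hu1 : u ≠ 1)
    (hfix : ∀ n ∈ normalizer ((P : Subgroup Y) : Set Y), n * e * n⁻¹ = e)
    (hinv : ∃ n : Y, n * u * n⁻¹ = u⁻¹)
    (hCu : centralizer ({u} : Set Y) ≤ P)
    (h57 : ∀ d ∈ (P : Subgroup Y), d ≠ 1 → ¬ 5 ∣ Nat.card (centralizer ({d} : Set Y)) ∧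
      ¬ 7 ∣ Nat.card (centralizer ({d} : Set Y)))
    (hO : Cfsg.pPrimeCore 3 Y = ⊥) : (P : Subgroup Y).Normal := by
  classical
  haveI : Fact (Nat.Prime 3) := ⟨Nat.prime_three⟩
  obtain ⟨φ, hφfix, hφinv⟩ := CfsgLib.ThreeSymNine.exists_transfer P hc
  set K := φ.ker with hKdef
  have hφe : φ e ≠ 1 := by
    intro h
    have h1 : e ^ (P : Subgroup Y).index = 1 := by
      rw [← hφfix e he hfix, h, OneMemClass.coe_one]
    exact he1 (orderOf_eq_one_iff.1 (Nat.eq_one_of_dvd_coprimes
      (Nat.prime_three.coprime_iff_not_dvd.2 P.not_dvd_index).symm (orderOf_dvd_of_pow_eq_one h1)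
      (orderOf_dvd_of_pow_eq_one (h3 e he))))
  have huK : u ∈ K := by
    obtain ⟨n, hn⟩ := hinv
    have h2 := hφinv u n hn
    have h3' : φ u ^ 3 = 1 := by rw [← map_pow, h3 u hu, map_one]
    rw [pow_succ, pow_two, h2, one_mul] at h3'
    exact h3'
  have hsq : ∀ x ∈ (P : Subgroup Y), x ∈ K → x ∈ zpowers u := by
    intro x hx hxK
    by_contra hxu
    have hu3 : orderOf u = 3 := orderOf_eq_prime (h3 u hu) hu1
    have hlt : zpowers u < zpowers u ⊔ zpowers x :=
      lt_of_le_of_ne le_sup_left fun h => hxu (h.symm ▸ mem_sup_right (mem_zpowers x))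
    have hle : zpowers u ⊔ zpowers x ≤ (P : Subgroup Y) := sup_le (zpowers_le.2 hu) (zpowers_le.2 hx)
    have hd := card_dvd_of_le hle
    have h1 := CfsgLib.Solvable.card_lt_of_lt hlt
    rw [Nat.card_zpowers, hu3] at h1
    rw [hcard] at hd
    have heq : zpowers u ⊔ zpowers x = (P : Subgroup Y) := Subgroup.eq_of_le_of_card_ge hle (by
      rw [hcard]
      rcases (Nat.dvd_prime_pow Nat.prime_three (m := 2)).1 hd with ⟨k, hk, hk'⟩
      rw [hk'] at h1 ⊢
      interval_cases k <;> omega)
    exact hφe (MonoidHom.mem_ker.1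
      ((show zpowers u ⊔ zpowers x ≤ K from sup_le (zpowers_le.2 huK) (zpowers_le.2 hxK))
        (heq ▸ he)))
  let u' : K := ⟨u, huK⟩
  have hu' : orderOf u' = 3 := by rw [Subgroup.orderOf_mk, orderOf_eq_prime (h3 u hu) hu1]
  have hX : Nat.card (zpowers u') = 3 := by rw [Nat.card_zpowers, hu']
  have hC : centralizer ((zpowers u' : Subgroup K) : Set K) = zpowers u' := by
    refine le_antisymm (fun y hy => ?_) fun y hy => mem_centralizer_iff.2 fun z hz => ?_
    · have h := congrArg Subtype.val (mem_centralizer_iff.1 hy u' (mem_zpowers u'))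
      obtain ⟨k, hk⟩ := hsq y (hCu (mem_centralizer_singleton_iff.2 h.symm)) y.2
      exact ⟨k, Subtype.ext (by simpa using hk)⟩
    · obtain ⟨i, rfl⟩ := hy
      obtain ⟨j, rfl⟩ := hz
      exact ((Commute.refl u').zpow_zpow j i).eq
  haveI hKn : K.Normal := φ.normal_ker
  have hcore : ∀ N : Subgroup K, N.Normal → (Nat.card N).Coprime 3 → N = ⊥ := by
    intro N hN hcN
    have hR := CfsgLib.Solvable.coprime_card_pPrimeCore (G := K) 3
    set R := Cfsg.pPrimeCore 3 K with hRdef
    have hnorm : (R.map K.subtype).Normal := by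
      refine ⟨?_⟩
      rintro _ ⟨r, hr, rfl⟩ y
      let f : MulAut K := MulAut.conjNormal (H := K) y
      have hM := CfsgLib.Solvable.le_pPrimeCore (p := 3) (N := R.map f.toMonoidHom)
        ((CfsgLib.Solvable.pPrimeCore_normal 3 : R.Normal).map _ f.surjective)
        (Nat.card_congr (R.equivMapOfInjective f.toMonoidHom f.injective).toEquiv ▸ hR)
      exact ⟨f r, hM ⟨r, hr, rfl⟩, MulAut.conjNormal_apply y r⟩
    have hbot : R.map K.subtype = ⊥ := by
      rw [eq_bot_iff, ← hO]
      exact CfsgLib.Solvable.le_pPrimeCore 3 hnorm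
        (Nat.card_congr (R.equivMapOfInjective K.subtype K.subtype_injective).toEquiv ▸ hR)
    rw [map_eq_bot_iff_of_injective _ K.subtype_injective] at hbot
    exact eq_bot_iff.2 (hbot ▸ CfsgLib.Solvable.le_pPrimeCore 3 hN hcN)
  have hP9 : ∀ {M : Type u} [Group M] (f : (P : Subgroup Y) →* M), ¬ 9 ∣ Nat.card M →
      ∃ d : (P : Subgroup Y), d ≠ 1 ∧ f d = 1 := by
    intro M _ f hM
    by_contra hno
    push Not at hno
    refine hM (hcard ▸ card_dvd_of_injective f ((injective_iff_map_eq_one f).2 fun d hd => ?_))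
    by_contra hd1
    exact hno d hd1 hd
  rcases Cfsg.Agent.S3331.result (zpowers u') hX hC with
    ⟨N, hN, -, hcN, hq⟩ | ⟨N, hN, -, hN2, ⟨iso⟩⟩ | ⟨⟨iso⟩⟩
  · -- the group has order at most eighteen
    have hbot := hcore N hN hcN
    have hcardK : Nat.card K = 3 ∨ Nat.card K = 6 := by
      have h := Subgroup.card_eq_card_quotient_mul_card_subgroup N
      have h1 : Nat.card N = 1 := by rw [hbot, Subgroup.card_bot]
      rw [h1, mul_one] at h
      rcases hq with h3' | ⟨⟨iso⟩⟩
      · exact Or.inl (h.trans h3')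
      · right
        rw [h, Nat.card_congr iso.toEquiv, Nat.card_eq_fintype_card, Fintype.card_perm]
        rfl
    have hidx : K.index ∣ 9 := by
      rw [hKdef, index_ker, ← hcard]; exact card_subgroup_dvd_card _
    have hY := K.card_mul_index
    have hPY := (P : Subgroup Y).card_mul_index
    rw [hcard] at hPY
    have hnd : ¬ 3 ∣ (P : Subgroup Y).index := P.not_dvd_index
    have hP2 : (P : Subgroup Y).index = 1 ∨ (P : Subgroup Y).index = 2 := by
      rcases (Nat.dvd_prime_pow Nat.prime_three (m := 2)).1 hidx with ⟨k, hk, hk'⟩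
      rw [hk'] at hY
      rw [← hY] at hPY
      rcases hcardK with h | h <;> rw [h] at hPY <;> interval_cases k <;> omega
    rcases hP2 with h | h
    · rw [index_eq_one.1 h]; infer_instance
    · exact Subgroup.normal_of_index_eq_two h
  · -- the alternating group of degree five
    exfalso
    haveI := alternatingGroup.isSimpleGroup (α := Fin 5) (by simp)
    have hcN : (Nat.card N).Coprime 3 :=
      (Nat.prime_three.coprime_iff_not_dvd.2 fun h => by
        obtain ⟨y, hy⟩ := exists_prime_orderOf_dvd_card' (G := N) 3 h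
        have h2 : y ^ 2 = 1 := Subtype.ext (hN2 y y.2)
        have := orderOf_dvd_of_pow_eq_one h2
        rw [hy] at this; norm_num at this).symm
    have hbot := hcore N hN hcN
    let eK : K ≃* alternatingGroup (Fin 5) :=
      ((QuotientGroup.quotientBot (G := K)).symm.trans
        (QuotientGroup.quotientMulEquivOfEq hbot.symm)).trans iso
    haveI hsimple : IsSimpleGroup K := eK.isSimpleGroup
    haveI : Fact (Nat.Prime 2) := ⟨Nat.prime_two⟩
    -- the action on the five Sylow two-subgroups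
    set Q : Sylow 2 K := default
    have hcK : Nat.card K = 60 := by
      rw [Nat.card_congr eK.toEquiv, Nat.card_eq_fintype_card]; decide
    have hns : ¬ Subsingleton (Sylow 2 K) := fun hsub => by
      haveI := hsub
      haveI := Q.normal_of_subsingleton
      have hc4 : Nat.card (Q : Subgroup K) = 4 := by
        rw [CfsgLib.SmallSimple.card_sylow_eq Q (k := 2) (m := 15) (by rw [hcK]; norm_num)
          (by norm_num)]; norm_num
      rcases (inferInstance : (Q : Subgroup K).Normal).eq_bot_or_eq_top with h | h <;>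
        simp [h, hcK] at hc4
    have h5 : Nat.card (Sylow 2 K) = 5 := by
      have hd : Nat.card (Sylow 2 K) ∣ 15 := by
        have h1 := Q.card_dvd_index
        have h2 := (Q : Subgroup K).card_mul_index
        rw [hcK, CfsgLib.SmallSimple.card_sylow_eq Q (k := 2) (m := 15) (by rw [hcK]; norm_num)
          (by norm_num)] at h2
        rwa [show (Q : Subgroup K).index = 15 by omega] at h1
      have h3d : ¬ 3 ∣ Nat.card (Sylow 2 K) := by
        rw [CfsgLib.ThreeSymNine.card_sylow_congr eK]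
        exact CfsgLib.ThreeSymNine.card_sylow_two_alt5
      have h1 : Nat.card (Sylow 2 K) ≠ 1 := fun h => hns ((Nat.card_eq_one_iff_unique.1 h).1)
      have : Nat.card (Sylow 2 K) ∈ Nat.divisors 15 := Nat.mem_divisors.2 ⟨hd, by norm_num⟩
      rw [show Nat.divisors 15 = {1, 3, 5, 15} by decide] at this
      simp only [Finset.mem_insert, Finset.mem_singleton] at this
      omega
    let ψ : Y →* Equiv.Perm (Sylow 2 K) :=
      (MulAction.toPermHom (MulAut K) (Sylow 2 K)).comp MulAut.conjNormal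
    obtain ⟨d, hd1, hd⟩ := hP9 (ψ.comp (P : Subgroup Y).subtype) (by
      rw [Nat.card_perm, h5]; decide)
    have hinter : ψ.ker.subgroupOf K = ⊥ := by
      refine ((inferInstance : (ψ.ker.subgroupOf K).Normal).eq_bot_or_eq_top).resolve_right
        fun h => ?_
      -- `K` would normalize each of its Sylow subgroups
      refine hns ?_
      haveI : (Q : Subgroup K).Normal := normalizer_eq_top_iff.1 (eq_top_iff.2 fun k _ => by
        refine Sylow.smul_eq_iff_mem_normalizer.1 ?_
        have hk : ψ k = 1 := MonoidHom.mem_ker.1 (mem_subgroupOf.1 (h ▸ mem_top k))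
        have h1 : MulAut.conjNormal (H := K) (k : Y) • Q = Q := Equiv.Perm.congr_fun hk Q
        rwa [MulAut.conjNormal_val, ← Sylow.smul_def] at h1)
      exact (Q.unique_of_normal inferInstance).instSubsingleton
    have hdk : ∀ k ∈ K, k ∈ centralizer ({(d : Y)} : Set Y) := fun k hk => by
      refine mem_centralizer_singleton_iff.2 ?_
      have hc1 : k * d * k⁻¹ * (d : Y)⁻¹ ∈ (ψ.ker.subgroupOf K).map K.subtype := by
        refine ⟨⟨k * d * k⁻¹ * (d : Y)⁻¹, ?_⟩, ?_, rfl⟩
        · rw [show k * d * k⁻¹ * (d : Y)⁻¹ = k * ((d : Y) * k⁻¹ * (d : Y)⁻¹) by group]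
          exact mul_mem hk (hKn.conj_mem _ (inv_mem hk) _)
        · exact mem_subgroupOf.2 (mul_mem (ψ.normal_ker.conj_mem _ (MonoidHom.mem_ker.2 hd) k)
            (inv_mem (MonoidHom.mem_ker.2 hd)))
      rw [hinter, Subgroup.map_bot, mem_bot, mul_inv_eq_one, mul_inv_eq_iff_eq_mul] at hc1
      exact hc1
    exact (h57 d d.2 fun e => hd1 (Subtype.ext e)).1
      ((show 5 ∣ Nat.card K by rw [hcK]; norm_num).trans (card_dvd_of_le hdk))
  · -- the linear group of order 168
    exfalso
    haveI : Fact (Nat.Prime 7) := ⟨by norm_num⟩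
    have hE : IsPGroup 3 (P : Subgroup Y) := P.2
    obtain ⟨Q, hQ⟩ := CfsgLib.ThreeSymNine.exists_fixed_sylow (r := 7) hE
      ((le_top : (P : Subgroup Y) ≤ ⊤).trans (normalizer_eq_top_iff.2 hKn).ge) (by
        rw [CfsgLib.ThreeSymNine.card_sylow_congr iso]
        exact CfsgLib.ThreeSymNine.card_sylow_seven_psl)
    have hcardK : Nat.card K = 7 ^ 1 * 24 := by
      rw [Nat.card_congr iso.toEquiv]
      have h1 := CfsgLib.Linear.card_PSL_mul (F := ZMod 7) (ZMod.card 7) 2 (by norm_num)
      norm_num [Nat.gcd] at h1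
      simp_all [Finset.prod_range_succ]
      omega
    have hQc := CfsgLib.SmallSimple.card_sylow_eq Q hcardK (by norm_num)
    set Q' := (Q : Subgroup K).map K.subtype
    have hQ' : Nat.card Q' = 7 := by
      rw [← Nat.card_congr ((Q : Subgroup K).equivMapOfInjective _ K.subtype_injective).toEquiv,
        hQc]; norm_num
    obtain ⟨d, hd, hd1, hle⟩ := exists_centralizing (r := 7) hcard hQ hQ' (by norm_num)
    exact (h57 d hd hd1).2 (hQ' ▸ card_dvd_of_le hle)

/-- The main criterion. -/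
theorem eq_top_of_transfer (P : Sylow 3 Y) (hcard : Nat.card (P : Subgroup Y) = 9)
    (hc : ∀ a ∈ (P : Subgroup Y), ∀ b ∈ (P : Subgroup Y), a * b = b * a)
    (h3 : ∀ a ∈ (P : Subgroup Y), a ^ 3 = 1)
    {e u : Y} (he : e ∈ (P : Subgroup Y)) (he1 : e ≠ 1) (hu : u ∈ (P : Subgroup Y)) (hu1 : u ≠ 1)
    (hfix : ∀ n ∈ normalizer ((P : Subgroup Y) : Set Y), n * e * n⁻¹ = e)
    (hinv : ∃ n : Y, n * u * n⁻¹ = u⁻¹)
    (hCu : centralizer ({u} : Set Y) ≤ P)
    (h57 : ∀ d ∈ (P : Subgroup Y), d ≠ 1 → ¬ 5 ∣ Nat.card (centralizer ({d} : Set Y)) ∧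
      ¬ 7 ∣ Nat.card (centralizer ({d} : Set Y)))
    (M : Subgroup Y) (hN : normalizer ((P : Subgroup Y) : Set Y) ≤ M)
    (hM : ∀ d ∈ (P : Subgroup Y), d ≠ 1 → centralizer ({d} : Set Y) ≤ M) : M = ⊤ := by
  classical
  haveI : Fact (Nat.Prime 3) := ⟨Nat.prime_three⟩
  set O := Cfsg.pPrimeCore 3 Y with hOdef
  haveI hOn : O.Normal := CfsgLib.Solvable.pPrimeCore_normal 3
  have hcop : (Nat.card O).Coprime 3 := CfsgLib.Solvable.coprime_card_pPrimeCore 3
  have hcopP : (Nat.card (P : Subgroup Y)).Coprime (Nat.card O) := by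
    rw [hcard]; exact (Nat.Coprime.pow_left 2 hcop.symm : (3 ^ 2).Coprime _)
  set f := QuotientGroup.mk' O with hf
  have hfs : Function.Surjective f := QuotientGroup.mk'_surjective O
  have hPint : ∀ x ∈ (P : Subgroup Y), f x = 1 → x = 1 := fun x hx hx1 =>
    congrArg Subtype.val (orderOf_eq_one_iff.1 (Nat.eq_one_of_dvd_coprimes hcop
      (orderOf_dvd_natCard (⟨x, (QuotientGroup.eq_one_iff x).1 hx1⟩ : O))
      (orderOf_dvd_of_pow_eq_one (Subtype.ext (h3 x hx)))))
  set P' : Sylow 3 (Y ⧸ O) := P.mapSurjective hfs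
  have hP' : (P' : Subgroup (Y ⧸ O)) = (P : Subgroup Y).map f := P.coe_mapSurjective hfs
  -- lifting centralizers
  have hlift : ∀ d ∈ (P : Subgroup Y), centralizer ({f d} : Set (Y ⧸ O)) ≤
      (centralizer ({d} : Set Y)).map f := by
    intro d hd q hq
    obtain ⟨g, rfl⟩ := hfs q
    haveI : IsMulCommutative (zpowers d) := inferInstance
    haveI : Group.IsSolvable (zpowers d) := Group.isSolvable_of_comm fun a b => mul_comm' a b
    obtain ⟨c, hc1, hc2⟩ := CfsgLib.Coprime.exists_commute_mem_coset (zpowers d) O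
      le_normalizer_of_normal (hcopP.coprime_dvd_left (card_dvd_of_le (zpowers_le.2 hd))) g
      (fun r hr => by
        obtain ⟨i, rfl⟩ := hr
        rw [← QuotientGroup.ker_mk' O, MonoidHom.mem_ker]
        have hq' : f g * f d = f d * f g := mem_centralizer_singleton_iff.1 hq
        have hq'' : f (d ^ i) * f g = f g * f (d ^ i) := by
          rw [map_zpow]; exact ((show Commute (f g) (f d) from hq').zpow_right i).eq.symm
        rw [map_mul, map_mul, map_mul, map_inv, map_inv, hq'', mul_inv_cancel_right,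
          inv_mul_cancel])
    refine ⟨c, mem_centralizer_singleton_iff.2 (hc1 d (mem_zpowers d)).symm, ?_⟩
    have : f (g⁻¹ * c) = 1 := (QuotientGroup.eq_one_iff _).2 hc2
    rw [map_mul, map_inv, inv_mul_eq_one] at this
    exact this.symm
  -- the normalizer of the image
  have hfrat : ∀ g : Y, f g ∈ normalizer (((P : Subgroup Y).map f : Subgroup _) : Set (Y ⧸ O)) →
      ∃ p ∈ (P : Subgroup Y), ∃ n ∈ normalizer ((P : Subgroup Y) : Set Y), f g = f p * f n := by
    intro g hg
    set X := (P : Subgroup Y) ⊔ O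
    have hgX : ∀ x ∈ (P : Subgroup Y), g * x * g⁻¹ ∈ X := fun x hx => by
      have h := (mem_normalizer_iff.1 hg (f x)).1 ⟨x, hx, rfl⟩
      rw [← map_inv, ← map_mul, ← map_mul, ← Subgroup.mem_comap,
        comap_map_eq, QuotientGroup.ker_mk'] at h
      exact h
    have hPX : ((g • P : Sylow 3 Y) : Subgroup Y) ≤ X := by
      rintro _ ⟨x, hx, rfl⟩
      exact hgX x hx
    obtain ⟨o, ho⟩ := MulAction.exists_smul_eq X ((g • P).subtype hPX) (P.subtype le_sup_left)
    have hon : (o : Y) • g • P = P := by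
      rw [Sylow.smul_subtype] at ho
      exact Sylow.subtype_injective ho
    rw [← mul_smul, Sylow.smul_eq_iff_mem_normalizer] at hon
    obtain ⟨p, hp, oo, hoo, hpo⟩ : ∃ p ∈ (P : Subgroup Y), ∃ oo ∈ O, p * oo = o :=
      Subgroup.mem_sup_of_normal_right.1 o.2
    refine ⟨p⁻¹, inv_mem hp, _, hon, ?_⟩
    rw [map_mul, ← hpo, map_mul, show f oo = 1 from (QuotientGroup.eq_one_iff _).2 hoo, mul_one,
      map_inv, inv_mul_cancel_left]
  have hnormal := normal_of_core_bot P'
    (by
      rw [hP', ← hcard]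
      refine (Nat.card_image_of_injOn (f := f) (s := ((P : Subgroup Y) : Set Y)) ?_ : _)
      intro a ha b hb hab
      exact mul_inv_eq_one.1 (hPint (a * b⁻¹) (mul_mem ha (inv_mem hb))
        (by rw [map_mul, map_inv, hab, mul_inv_cancel])))
    (by rw [hP']; rintro _ ⟨a, ha, rfl⟩ _ ⟨b, hb, rfl⟩; rw [← map_mul, ← map_mul, hc a ha b hb])
    (by rw [hP']; rintro _ ⟨a, ha, rfl⟩; rw [← map_pow, h3 a ha, map_one])
    (e := f e) (u := f u) (by rw [hP']; exact ⟨e, he, rfl⟩) (fun h => he1 (hPint e he h))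
    (by rw [hP']; exact ⟨u, hu, rfl⟩) (fun h => hu1 (hPint u hu h))
    (fun q hq => by
      obtain ⟨g, rfl⟩ := hfs q
      rw [hP'] at hq
      obtain ⟨p, hp, n, hn, hgn⟩ := hfrat g hq
      rw [hgn, mul_inv_rev, show f p * f n * f e * ((f n)⁻¹ * (f p)⁻¹) =
        f p * (f (n * e * n⁻¹)) * (f p)⁻¹ by rw [map_mul, map_mul, map_inv]; group, hfix n hn,
        ← map_mul, hc p hp e he, map_mul, mul_inv_cancel_right])
    (hinv.elim fun n hn => ⟨f n, by rw [← map_inv, ← map_mul, ← map_mul, hn, map_inv]⟩)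
    (by rw [hP']; exact (hlift u hu).trans (map_mono hCu))
    (by
      rw [hP']
      rintro _ ⟨d, hd, rfl⟩ hd1
      obtain ⟨h5, h7⟩ := h57 d hd fun e => hd1 (by rw [e, map_one])
      have hdv := (card_dvd_of_le (hlift d hd)).trans (card_map_dvd (f := f) _)
      exact ⟨fun h => h5 (h.trans hdv), fun h => h7 (h.trans hdv)⟩)
    (CfsgLib.Fitting.pPrimeCore_quotient_eq_bot 3)
  haveI : IsMulCommutative (P : Subgroup Y) := ⟨⟨fun a b => Subtype.ext (hc a a.2 b b.2)⟩⟩
  have hOM : O ≤ M := by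
    rw [← CfsgLib.CoprimeAct.generated_by_centralizers (order_nine_not_cyclic hcard h3)
      le_normalizer_of_normal hcopP]
    exact iSup₂_le fun a ha => inf_le_right.trans (hM a ha.1 ha.2)
  refine eq_top_iff.2 fun g _ => ?_
  obtain ⟨p, hp, n, hn, hgn⟩ := hfrat g (by
    rw [← hP', normalizer_eq_top_iff.2 hnormal]; exact mem_top _)
  have ho : (p * n)⁻¹ * g ∈ O := (QuotientGroup.eq_one_iff _).1 (by
    show f _ = 1
    rw [map_mul, map_inv, map_mul, hgn, inv_mul_cancel])
  have := mul_mem (mul_mem (hN (le_normalizer hp)) (hN hn)) (hOM ho)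
  rwa [mul_inv_cancel_left] at this

end CfsgLib.PSpFourRec
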