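import Cfsg.Agent.PSpFourRec.Inv
import Cfsg.Agent.PSpFourRec.TransferKill

/-!
# The centralizer of an involution with a fixed subgroup of order nine, modulo the involution
-/

set_option autoImplicit false
set_option maxRecDepth 100000
set_option linter.style.haveILetI false

namespace CfsgLib.PSpFourRec

open CfsgLib.AltNine CfsgLib.PSpFourThree Subgroup
open CfsgLib.ThreeSymNine (Mat app mm pmat dmat mono pa pm pinv dig sm nv_nv pa_table app_pmat
  app_one ext_app)

universe u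

namespace Hyp

variable {G : Type u} [Group G] [Finite G] (H : Hyp G)

/-- An involution centralizer is in a subgroup containing its part in the normalizer and the
centralizers of the fixed elements. -/
theorem centralizer_le_of_transfer {t : G} {T : Mat} (hT : H.Induces t T) (ht : orderOf t = 2)
    (h9 : (Finset.univ.filter fun v => app T v = v).card = 9)
    (h4 : ∀ M, H.W M → (∀ v, app M (app T v) = app T (app M v)) →
      ∀ v, app M (app M (app M (app M v))) = v)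
    {e u : Fin 27} (he : app T e = e) (he0 : e ≠ 0) (heN : H.C [e] ≤ H.N)
    (hefix : ∀ M, H.W M → (∀ v, app M (app T v) = app T (app M v)) → app M e = e)
    (hu : app T u = u) (hu0 : u ≠ 0)
    (hinv : ∃ n : G, n * t = t * n ∧ n * H.emb u * n⁻¹ = (H.emb u)⁻¹)
    (hCu : ∀ g : G, g * t = t * g → g * H.emb u = H.emb u * g →
      ∃ f ∈ H.Fix t, g = f ∨ g = f * t)
    (K : Subgroup G) (htK : t ∈ K) (hNK : centralizer ({t} : Set G) ⊓ H.N ≤ K)
    (hd' : ∀ v, app T v = v → v ≠ 0 →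
      centralizer ({t} : Set G) ⊓ centralizer ({H.emb v} : Set G) ≤ K ∧
        ¬ 5 ∣ Nat.card (centralizer ({t} : Set G) ⊓ centralizer ({H.emb v} : Set G) : Subgroup G) ∧
        ¬ 7 ∣ Nat.card (centralizer ({t} : Set G) ⊓ centralizer ({H.emb v} : Set G) : Subgroup G)) :
    centralizer ({t} : Set G) ≤ K := by
  classical
  haveI : Fact (Nat.Prime 3) := ⟨Nat.prime_three⟩
  obtain ⟨Q, hQ, hQN⟩ := H.sylow_centralizer hT ⟨e, he, heN⟩ h4
  let X := centralizer ({t} : Set G)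
  have htX : t ∈ X := mem_centralizer_singleton_iff.2 rfl
  set Z : Subgroup X := zpowers ⟨t, htX⟩ with hZ
  haveI hZn : Z.Normal := ⟨fun n hn g => by
    obtain ⟨i, rfl⟩ := mem_zpowers_iff.1 hn
    have hc : Commute g (⟨t, htX⟩ : X) :=
      Subtype.ext (mem_centralizer_singleton_iff.1 g.2)
    rw [(hc.zpow_right i).eq, mul_inv_cancel_right]
    exact zpow_mem (mem_zpowers _) i⟩
  have hZel : ∀ x : X, x ∈ Z → x = 1 ∨ (x : G) = t := by
    intro x hx
    have h2 : (⟨t, htX⟩ : X) * ⟨t, htX⟩ = 1 :=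
      Subtype.ext (show t * t = 1 by rw [← pow_two, ← ht, pow_orderOf_eq_one])
    obtain ⟨i, rfl⟩ := mem_zpowers_iff.1 hx
    rcases Int.even_or_odd' i with ⟨k, rfl | rfl⟩
    · left
      rw [zpow_mul, zpow_two, h2, one_zpow]
    · right
      rw [zpow_add, zpow_mul, zpow_two, h2, one_zpow, one_mul, zpow_one]
  set f := QuotientGroup.mk' Z with hf
  have hfs : Function.Surjective f := QuotientGroup.mk'_surjective Z
  have hker : ∀ x : X, f x = 1 → x = 1 ∨ (x : G) = t := fun x hx =>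
    hZel x ((QuotientGroup.eq_one_iff x).1 hx)
  have ht3 : ∀ g : G, g ^ 3 = 1 → g ≠ t := by
    rintro g h3 rfl
    have := orderOf_dvd_of_pow_eq_one h3
    rw [ht] at this
    norm_num at this
  have hFix : ∀ x : X, x ∈ (Q : Subgroup X) ↔ (x : G) ∈ H.Fix t := fun x => by
    rw [hQ]; exact mem_subgroupOf
  have hemb : ∀ v, app T v = v → H.emb v ∈ X ∧
      ∀ hv : H.emb v ∈ X, (⟨H.emb v, hv⟩ : X) ∈ (Q : Subgroup X) := fun v hv =>
    ⟨((H.mem_Fix hT).2 ⟨v, hv, rfl⟩).2,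
      fun _ => (hFix _).2 ((H.mem_Fix hT).2 ⟨v, hv, rfl⟩)⟩
  have hQ3 : ∀ x ∈ (Q : Subgroup X), x ^ 3 = 1 := fun x hx =>
    Subtype.ext (H.J_cube ((hFix x).1 hx).1)
  have hQc : ∀ x ∈ (Q : Subgroup X), ∀ y ∈ (Q : Subgroup X), x * y = y * x := fun x hx y hy =>
    Subtype.ext (H.J_comm ((hFix x).1 hx).1 ((hFix y).1 hy).1)
  have hQint : ∀ x ∈ (Q : Subgroup X), f x = 1 → x = 1 := fun x hx h =>
    (hker x h).resolve_right (ht3 _ (congrArg Subtype.val (hQ3 x hx)))
  set P := Q.mapSurjective hfs with hP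
  have hPe : (P : Subgroup (X ⧸ Z)) = (Q : Subgroup X).map f := Q.coe_mapSurjective hfs
  have hcardP : Nat.card (P : Subgroup (X ⧸ Z)) = 9 := by
    rw [hPe, show 9 = Nat.card (Q : Subgroup X) by
      have hFX : H.Fix t ≤ centralizer ({t} : Set G) := fun g hg => hg.2
      rw [hQ, Nat.card_congr (subgroupOfEquivOfLe hFX).toEquiv, H.card_Fix hT, h9]]
    refine (Nat.card_image_of_injOn (f := f) (s := ((Q : Subgroup X) : Set X)) ?_ : _)
    intro a ha b hb hab
    exact mul_inv_eq_one.1 (hQint (a * b⁻¹) (mul_mem ha (inv_mem hb))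
      (by rw [map_mul, map_inv, hab, mul_inv_cancel]))
  -- lifting centralizers
  have hlift : ∀ d ∈ (Q : Subgroup X), centralizer ({f d} : Set (X ⧸ Z)) ≤
      (centralizer ({d} : Set X)).map f := by
    intro d hd y hy
    obtain ⟨g, rfl⟩ := hfs y
    refine ⟨g, mem_centralizer_singleton_iff.2 ?_, rfl⟩
    have h1 : f (g * d * g⁻¹ * d⁻¹) = 1 := by
      rw [map_mul, map_mul, map_mul, mem_centralizer_singleton_iff.1 hy, map_inv, map_inv,
        mul_inv_cancel_right, mul_inv_cancel]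
    refine mul_inv_eq_iff_eq_mul.1 (mul_inv_eq_one.1 ((hker _ h1).resolve_right fun h => ?_))
    have h3 : (g * d * g⁻¹) ^ 3 = 1 := by rw [conj_pow, hQ3 d hd, mul_one, mul_inv_cancel]
    have hgt : g * d * g⁻¹ = ⟨t, htX⟩ * d := by
      rw [← show g * d * g⁻¹ * d⁻¹ = ⟨t, htX⟩ from Subtype.ext h, inv_mul_cancel_right]
    have hc : Commute (⟨t, htX⟩ : X) d :=
      Subtype.ext (mem_centralizer_singleton_iff.1 d.2).symm
    rw [hgt, hc.mul_pow, hQ3 d hd, mul_one] at h3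
    exact ht3 t (congrArg Subtype.val h3) rfl
  have hnlift : ∀ g : X, f g ∈ normalizer (((Q : Subgroup X).map f : Subgroup _) : Set (X ⧸ Z)) →
      g ∈ normalizer ((Q : Subgroup X) : Set X) := by
    intro g hg
    have key : ∀ d ∈ (Q : Subgroup X), ∀ c : X, f c ∈ (Q : Subgroup X).map f → c ^ 3 = 1 →
        c ∈ (Q : Subgroup X) := by
      rintro d hd c ⟨q, hq, hqc⟩ h3
      have h1 : f (c * q⁻¹) = 1 := by rw [map_mul, map_inv, hqc, mul_inv_cancel]
      rcases hker _ h1 with h | h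
      · rw [mul_inv_eq_one.1 h]; exact hq
      · exfalso
        have hcq : c = ⟨t, htX⟩ * q := by
          rw [← show c * q⁻¹ = ⟨t, htX⟩ from Subtype.ext h, inv_mul_cancel_right]
        have hc : Commute (⟨t, htX⟩ : X) q :=
          Subtype.ext (mem_centralizer_singleton_iff.1 q.2).symm
        rw [hcq, hc.mul_pow, hQ3 q hq, mul_one] at h3
        exact ht3 t (congrArg Subtype.val h3) rfl
    refine mem_normalizer_iff.2 fun d => ⟨fun hd => key d hd _ ?_ ?_, fun hd => ?_⟩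
    · rw [map_mul, map_mul, map_inv]
      exact (mem_normalizer_iff.1 hg _).1 ⟨d, hd, rfl⟩
    · rw [conj_pow, hQ3 d hd, mul_one, mul_inv_cancel]
    · refine key _ hd d ((mem_normalizer_iff.1 hg _).2 ?_) ?_
      · rw [← map_inv, ← map_mul, ← map_mul]
        exact ⟨_, hd, rfl⟩
      · have := hQ3 _ hd
        rwa [conj_pow, conj_eq_one_iff] at this
  have hinduce : ∀ n : X, n ∈ normalizer ((Q : Subgroup X) : Set X) →
      ∃ M, H.Induces (n : G) M ∧ ∀ v, app M (app T v) = app T (app M v) := fun n hn => by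
    obtain ⟨M, hM⟩ := H.exists_induces_of_mem (hQN n hn)
    exact ⟨M, hM, fun v => H.emb_inj (by
      rw [← hM.comp hT, ← hT.comp hM, mem_centralizer_singleton_iff.1 n.2])⟩
  have hdle : ∀ d ∈ (Q : Subgroup X), d ≠ 1 → ∀ g : X, g ∈ centralizer ({d} : Set X) →
      (g : G) ∈ K := by
    intro d hd hd1 g hg
    obtain ⟨v, hv, hdv⟩ := (H.mem_Fix hT).1 ((hFix d).1 hd)
    refine (hd' v hv ?_).1 ⟨g.2, mem_centralizer_singleton_iff.2 ?_⟩
    · rintro rfl
      exact hd1 (Subtype.ext (hdv.trans H.emb_zero))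
    · rw [← hdv]
      exact congrArg Subtype.val (mem_centralizer_singleton_iff.1 hg)
  have hMtop := eq_top_of_transfer P hcardP ?_ ?_
    (e := f ⟨H.emb e, (hemb e he).1⟩) (u := f ⟨H.emb u, (hemb u hu).1⟩) ?_ ?_ ?_ ?_ ?_ ?_ ?_ ?_
    ((K.subgroupOf X).map f) ?_ ?_
  · intro g hg
    obtain ⟨c, hc, hcg⟩ := (show f ⟨g, hg⟩ ∈ (K.subgroupOf X).map f from hMtop ▸ mem_top _)
    rcases hker _ (show f (c⁻¹ * ⟨g, hg⟩) = 1 by rw [map_mul, map_inv, hcg, inv_mul_cancel]) with
      h | h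
    · rw [inv_mul_eq_one] at h
      rw [show g = (c : G) from (congrArg Subtype.val h).symm]
      exact mem_subgroupOf.1 hc
    · rw [show g = (c : G) * t by rw [← h]; simp]
      exact mul_mem (mem_subgroupOf.1 hc) htK
  · rw [hPe]; rintro _ ⟨a, ha, rfl⟩ _ ⟨b, hb, rfl⟩; rw [← map_mul, ← map_mul, hQc a ha b hb]
  · rw [hPe]; rintro _ ⟨a, ha, rfl⟩; rw [← map_pow, hQ3 a ha, map_one]
  · rw [hPe]; exact ⟨_, (hemb e he).2 _, rfl⟩
  · intro h
    have h1 := congrArg Subtype.val (hQint _ ((hemb e he).2 _) h)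
    exact he0 (H.emb_inj (h1.trans H.emb_zero.symm))
  · rw [hPe]; exact ⟨_, (hemb u hu).2 _, rfl⟩
  · intro h
    have h1 := congrArg Subtype.val (hQint _ ((hemb u hu).2 _) h)
    exact hu0 (H.emb_inj (h1.trans H.emb_zero.symm))
  · intro y hy
    obtain ⟨g, rfl⟩ := hfs y
    rw [hPe] at hy
    obtain ⟨M, hM, hcomm⟩ := hinduce g (hnlift g hy)
    rw [← map_inv, ← map_mul, ← map_mul]
    refine congrArg f (Subtype.ext ?_)
    show (g : G) * H.emb e * (g : G)⁻¹ = _
    rw [hM, hefix M ⟨g, hM⟩ hcomm]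
  · obtain ⟨n, hn, hnu⟩ := hinv
    exact ⟨f ⟨n, mem_centralizer_singleton_iff.2 hn⟩, by
      rw [← map_inv, ← map_inv, ← map_mul, ← map_mul]
      exact congrArg f (Subtype.ext hnu)⟩
  · rw [hPe]
    refine (hlift _ ((hemb u hu).2 _)).trans ?_
    rintro _ ⟨g, hg, rfl⟩
    obtain ⟨v, hv, hgv⟩ := hCu g (mem_centralizer_singleton_iff.1 g.2)
      (congrArg Subtype.val (mem_centralizer_singleton_iff.1 hg))
    obtain ⟨w, hw, rfl⟩ := (H.mem_Fix hT).1 hv
    rcases hgv with h | h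
    · exact ⟨g, (hFix g).2 (h ▸ hv), rfl⟩
    · refine ⟨⟨H.emb w, (hemb w hw).1⟩, (hemb w hw).2 _, ?_⟩
      have e1 : f ⟨t, htX⟩ = 1 := (QuotientGroup.eq_one_iff _).2 (mem_zpowers _)
      rw [show g = ⟨H.emb w, (hemb w hw).1⟩ * ⟨t, htX⟩ from Subtype.ext h, map_mul, e1, mul_one]
  · rw [hPe]
    rintro _ ⟨d, hd, rfl⟩ hd1
    have hne : d ≠ 1 := fun e => hd1 (by rw [e, map_one])
    obtain ⟨v, hv, hdv⟩ := (H.mem_Fix hT).1 ((hFix d).1 hd)
    have hv0 : v ≠ 0 := by
      rintro rfl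
      exact hne (Subtype.ext (hdv.trans H.emb_zero))
    obtain ⟨-, h5, h7⟩ := hd' v hv hv0
    have hdvd : Nat.card (centralizer ({d} : Set X)) ∣
        Nat.card (X ⊓ centralizer ({H.emb v} : Set G) : Subgroup G) := by
      rw [Nat.card_congr ((centralizer ({d} : Set X)).equivMapOfInjective X.subtype
        X.subtype_injective).toEquiv]
      refine card_dvd_of_le ?_
      rintro _ ⟨g, hg, rfl⟩
      exact ⟨g.2, mem_centralizer_singleton_iff.2 (hdv ▸
        congrArg Subtype.val (mem_centralizer_singleton_iff.1 hg))⟩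
    have hdv' := ((card_dvd_of_le (hlift d hd)).trans (card_map_dvd (f := f) _)).trans hdvd
    exact ⟨fun h => h5 (h.trans hdv'), fun h => h7 (h.trans hdv')⟩
  · intro y hy
    obtain ⟨g, rfl⟩ := hfs y
    rw [hPe] at hy
    exact ⟨g, mem_subgroupOf.2 (hNK ⟨g.2, hQN g (hnlift g hy)⟩), rfl⟩
  · rw [hPe]
    rintro _ ⟨d, hd, rfl⟩ hd1
    refine (hlift d hd).trans ?_
    rintro _ ⟨g, hg, rfl⟩
    exact ⟨g, mem_subgroupOf.2 (hdle d hd (fun e => hd1 (by rw [e, map_one])) g hg), rfl⟩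

end Hyp

end CfsgLib.PSpFourRec
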