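import Cfsg.Agent.PSpFourInvol.Recognition

/-!
# Involutions of `PSp₄(3)` with centralizer of order divisible by nine
-/

set_option autoImplicit false
set_option linter.style.haveILetI false

namespace CfsgLib.PSpFourRec

open Subgroup CfsgLib.PSpFourInvol

universe u

variable {P : Type u} [Group P] [Finite P] (φ : Concrete.P0 ≃* P)

include φ in
theorem psp_no_index_two (H : Subgroup P) : H.index ≠ 2 := fun h =>
  no_index_two (H.comap φ.toMonoidHom)
    ((index_comap_of_surjective _ (show Function.Surjective φ.toMonoidHom from φ.surjective)).trans h)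

include φ in
theorem psp_card : Nat.card P = 25920 := by
  obtain ⟨D, hD⟩ := (Concrete.setup.transport φ).exists_good (psp_no_index_two φ)
  exact Setup.card_G hD

include φ in
/-- Such an involution is central in a Sylow two-subgroup. -/
theorem psp_central_invol {z : P} (hz : orderOf z = 2)
    (h9 : 9 ∣ Nat.card (centralizer ({z} : Set P))) :
    Nat.card (centralizer ({z} : Set P)) = 576 ∧
      ∃ U : Sylow 2 P, z ∈ (U : Subgroup P) ∧ ∀ u ∈ (U : Subgroup P), u * z = z * u := by
  haveI : Fact (Nat.Prime 2) := ⟨Nat.prime_two⟩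
  obtain ⟨D, hD⟩ := (Concrete.setup.transport φ).exists_good (psp_no_index_two φ)
  rcases Setup.all_invol hD z hz with h | h <;> obtain ⟨g, rfl⟩ := isConj_iff.1 h
  · have hmap : centralizer ({g * D.t * g⁻¹} : Set P) =
        (centralizer ({D.t} : Set P)).map (MulAut.conj g).toMonoidHom := by
      ext y
      rw [mem_map_equiv, mem_centralizer_singleton_iff, mem_centralizer_singleton_iff,
        MulAut.conj_symm_apply]
      constructor
      · intro e
        calc g⁻¹ * y * g * D.t = g⁻¹ * (y * (g * D.t * g⁻¹)) * g := by group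
          _ = g⁻¹ * (g * D.t * g⁻¹ * y) * g := by rw [e]
          _ = _ := by group
      · intro e
        calc y * (g * D.t * g⁻¹) = g * (g⁻¹ * y * g * D.t) * g⁻¹ := by group
          _ = g * (D.t * (g⁻¹ * y * g)) * g⁻¹ := by rw [e]
          _ = _ := by group
    refine ⟨by rw [hmap, ← Nat.card_congr
      ((centralizer ({D.t} : Set P)).equivMapOfInjective _ (MulAut.conj g).injective).toEquiv,
      D.card_cent], ?_⟩
    obtain ⟨S, hS⟩ := D.exists_sylow
    refine ⟨g • S, ?_, ?_⟩
    · exact ⟨D.t, hS ▸ D.t_mem_T, rfl⟩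
    · rintro _ ⟨y, hy, rfl⟩
      show MulAut.conj g y * MulAut.conj g D.t = MulAut.conj g D.t * MulAut.conj g y
      rw [← map_mul, ← map_mul, mem_centralizer_singleton_iff.1 (D.T_le_cent (hS ▸ hy))]
  · exfalso
    have hmap : centralizer ({g * D.v 9 * g⁻¹} : Set P) =
        (centralizer ({D.v 9} : Set P)).map (MulAut.conj g).toMonoidHom := by
      ext y
      rw [mem_map_equiv, mem_centralizer_singleton_iff, mem_centralizer_singleton_iff,
        MulAut.conj_symm_apply]
      constructor
      · intro e
        calc g⁻¹ * y * g * D.v 9 = g⁻¹ * (y * (g * D.v 9 * g⁻¹)) * g := by group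
          _ = g⁻¹ * (g * D.v 9 * g⁻¹ * y) * g := by rw [e]
          _ = _ := by group
      · intro e
        calc y * (g * D.v 9 * g⁻¹) = g * (g⁻¹ * y * g * D.v 9) * g⁻¹ := by group
          _ = g * (D.v 9 * (g⁻¹ * y * g)) * g⁻¹ := by rw [e]
          _ = _ := by group
    rw [hmap, ← Nat.card_congr
      ((centralizer ({D.v 9} : Set P)).equivMapOfInjective _ (MulAut.conj g).injective).toEquiv,
      Setup.card_cent_nine hD] at h9
    norm_num at h9

end CfsgLib.PSpFourRec
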