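import Cfsg.Agent.PSpFourRec.Hyp

/-!
# The hypotheses in a subgroup containing the centralizer of the centre
-/

set_option autoImplicit false
set_option linter.style.haveILetI false

namespace CfsgLib.PSpFourRec

open CfsgLib.AltNine CfsgLib.PSpFourThree Subgroup
open CfsgLib.ThreeSymNine (Mat app mm pmat dmat mono pa pm pinv dig sm)

universe u

namespace Hyp

variable {G : Type u} [Group G] (H : Hyp G) {K : Subgroup G}
  (hK : centralizer ({H.x} : Set G) ≤ K)

/-- The hypotheses in a subgroup containing the centralizer of the centre. -/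
def restrict : Hyp K where
  par t := ⟨H.par t, hK (H.par_mem_centralizer t)⟩
  par_mul x y := Subtype.ext (H.par_mul x y)
  par_inj x y e := H.par_inj (congrArg Subtype.val e)
  par_cent g := by
    simp only [Subtype.ext_iff, Subgroup.coe_mul]
    exact H.par_cent g
  sig L hL hn := by
    refine (map_eq_bot_iff_of_injective L K.subtype_injective).1 (H.sig (L.map K.subtype) ?_ ?_)
    · rwa [← Nat.card_congr (L.equivMapOfInjective _ K.subtype_injective).toEquiv]
    · rintro v _ ⟨k, hk, rfl⟩
      exact ⟨_, hn v k hk, rfl⟩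

theorem restrict_emb (v : Fin 27) : ((H.restrict hK).emb v : G) = H.emb v := rfl

theorem restrict_S (a : Fin 6) : ((H.restrict hK).S a : G) = H.S a := rfl

theorem restrict_x : ((H.restrict hK).x : G) = H.x := rfl

theorem restrict_induces {g : K} {M : Mat} :
    (H.restrict hK).Induces g M ↔ H.Induces g M :=
  forall_congr' fun _ => Subtype.ext_iff

theorem restrict_W {M : Mat} : (H.restrict hK).W M ↔ ∃ g ∈ K, H.Induces g M :=
  ⟨fun ⟨g, hg⟩ => ⟨g, g.2, (H.restrict_induces hK).1 hg⟩,
    fun ⟨g, hgK, hg⟩ => ⟨⟨g, hgK⟩, (H.restrict_induces hK).2 hg⟩⟩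

theorem restrict_mem_J {g : K} : g ∈ (H.restrict hK).J ↔ (g : G) ∈ H.J :=
  ⟨fun ⟨v, hv⟩ => ⟨v, congrArg Subtype.val hv⟩, fun ⟨v, hv⟩ => ⟨v, Subtype.ext hv⟩⟩

theorem restrict_mem_N [Finite G] {g : K} : g ∈ (H.restrict hK).N ↔ (g : G) ∈ H.N := by
  constructor
  · intro hg
    obtain ⟨M, hM⟩ := (H.restrict hK).exists_induces_of_mem hg
    exact ((H.restrict_induces hK).1 hM).mem_N
  · intro hg
    obtain ⟨M, hM⟩ := H.exists_induces_of_mem hg
    exact Induces.mem_N (H := H.restrict hK) ((H.restrict_induces hK).2 hM)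

end Hyp

end CfsgLib.PSpFourRec
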