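import Cfsg.Agent.PSpFourRec.Frame
import Cfsg.Agent.PSpFourRec.Restrict
import Cfsg.Agent.PSpFourRec.CentInvol
import Cfsg.Agent.PSpFourRec.PSpFacts
import Cfsg.Agent.ThreeSymNine.Lifts
import Cfsg.Agent.S3221

/-!
# The automizer with an even number of signs gives `PSp₄(3)`
-/

set_option autoImplicit false
set_option maxRecDepth 100000
set_option linter.style.haveILetI false

namespace CfsgLib.PSpFourRec

open CfsgLib.AltNine CfsgLib.PSpFourThree Subgroup
open CfsgLib.ThreeSymNine (Mat app mm pmat dmat mono pa pm pinv dig sm nv_nv pa_table app_pmat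
  app_one ext_app evenSigns)

attribute [local instance 10000] List.decidableBAll List.decidableBEx

universe u w

theorem mono_twelve : ∀ d : Fin 8, ∀ a : Fin 6, ∀ v : Fin 27,
    (app (mono d a))^[12] v = v := by decide +kernel

theorem swap_facts : (Finset.univ.filter fun v => app (pmat 1) v = v).card = 9 ∧
    app (pmat 1) 9 = 9 ∧ app (pmat 1) 4 = 4 ∧ app (mono 3 0) 4 = nv 4 ∧
    mm (pmat 1) (pmat 1) = pmat 0 ∧ mm (mono 3 0) (mono 3 0) = pmat 0 ∧
    mm (mm (pmat 1) (mono 3 0)) (mm (pmat 1) (mono 3 0)) = pmat 0 ∧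
    mm (mm (mm (mm (mono 3 0) (pmat 1)) (mono 3 0)) (pmat 1)) (mono 3 0) = mono 3 0 := by
  decide +kernel

theorem swap_even : ∀ d ∈ evenSigns, ∀ a : Fin 6,
    (∀ v ∈ ([1, 3, 9] : List (Fin 27)),
      app (mono d a) (app (pmat 1) v) = app (pmat 1) (app (mono d a) v)) →
      app (mono d a) 9 = 9 ∧ (∀ v, app (mono d a) (app (mono d a) (app (mono d a) (app (mono d a) v))) = v) ∧
      (app (mono d a) 4 = 4 → mono d a = pmat 0 ∨ mono d a = pmat 1) := by decide +kernel

theorem even_avoid : (∀ d ∈ evenSigns, ∀ a : Fin 6, ∀ r ∈ ([13, 26] : List (Fin 27)),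
      app (mono d a) r ≠ 9) ∧
    (∀ d ∈ evenSigns, ∀ a : Fin 6, ∀ r ∈ ([13, 26] : List (Fin 27)), app (mono d a) r ≠ 4) ∧
    nv 13 = (26 : Fin 27) := by decide +kernel

namespace Hyp

variable {G : Type u} [Group G] [Finite G] (H : Hyp G)

/-- Elements of the normalizer have order dividing thirty-six. -/
theorem pow_of_mem_N {Ds : List (Fin 8)} (hs : H.Signs Ds) {g : G} (hg : g ∈ H.N) : g ^ 36 = 1 := by
  obtain ⟨M, hM⟩ := H.exists_induces_of_mem hg
  obtain ⟨d, -, a, rfl⟩ := (hs M).1 ⟨g, hM⟩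
  have h : ∀ n : ℕ, ∀ v, g ^ n * H.emb v * (g ^ n)⁻¹ = H.emb ((app (mono d a))^[n] v) := by
    intro n
    induction n with
    | zero => intro v; simp
    | succ n ih =>
      intro v
      rw [Function.iterate_succ_apply', pow_succ', ← hM, ← ih]
      group
  have hJ : g ^ 12 ∈ H.J := H.mem_J_of_induces_one fun v => by
    rw [h, mono_twelve, app_pmat, pa_table.1]
  rw [show (36 : ℕ) = 12 * 3 from rfl, pow_mul, H.J_cube hJ]

/-- Subgroups of the normalizer have order prime to five and seven. -/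
theorem card_le_N {Ds : List (Fin 8)} (hs : H.Signs Ds) {R : Subgroup G} (hR : R ≤ H.N) :
    ¬ 5 ∣ Nat.card R ∧ ¬ 7 ∣ Nat.card R := by
  have key : ∀ p : ℕ, p.Prime → ¬ p ∣ 36 → ¬ p ∣ Nat.card R := by
    intro p hp h36 h
    haveI := Fact.mk hp
    obtain ⟨g, hg⟩ := exists_prime_orderOf_dvd_card' (G := R) p h
    refine h36 (hg ▸ orderOf_dvd_of_pow_eq_one (Subtype.ext ?_))
    exact H.pow_of_mem_N hs (hR g.2)
  exact ⟨key 5 (by norm_num) (by norm_num), key 7 (by norm_num) (by norm_num)⟩

theorem cent_x_inv : centralizer ({H.emb 26} : Set G) = centralizer ({H.x} : Set G) := by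
  rw [← even_avoid.2.2, H.emb_nv]
  ext g
  simp only [mem_centralizer_singleton_iff]
  exact Commute.inv_right_iff

/-- The centralizers of the fixed elements in the subgroup generated by the two local subgroups. -/
theorem even_cent_le (hs : H.Signs evenSigns) {K : Subgroup G} (hN : H.N ≤ K)
    (hC : centralizer ({H.x} : Set G) ≤ K) {v : Fin 27} (hv : v ≠ 0) :
    centralizer ({H.emb v} : Set G) ≤ K ∧
      ¬ 5 ∣ Nat.card (centralizer ({H.emb v} : Set G)) ∧
      ¬ 7 ∣ Nat.card (centralizer ({H.emb v} : Set G)) := by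
  by_cases h : ∀ d ∈ evenSigns, ∀ a : Fin 6, ∀ r ∈ ([13, 26] : List (Fin 27)), app (mono d a) r ≠ v
  · have hle := H.C_le_N_even hs hv h
    exact ⟨hle.trans hN, H.card_le_N hs hle⟩
  · push Not at h
    obtain ⟨d, hd, a, r, hr, rfl⟩ := h
    obtain ⟨n, hn⟩ := hs.mem hd a
    have hCr : centralizer ({H.emb r} : Set G) = centralizer ({H.x} : Set G) := by
      simp only [List.mem_cons, List.not_mem_nil, or_false] at hr
      rcases hr with rfl | rfl
      · rfl
      · exact H.cent_x_inv
    have e : centralizer ({H.emb (app (mono d a) r)} : Set G) =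
        (centralizer ({H.x} : Set G)).map (MulAut.conj n).toMonoidHom := by
      rw [← hCr, ← hn]
      ext y
      rw [mem_map_equiv, mem_centralizer_singleton_iff, mem_centralizer_singleton_iff,
        MulAut.conj_symm_apply]
      constructor
      · intro e
        calc n⁻¹ * y * n * H.emb r = n⁻¹ * (y * (n * H.emb r * n⁻¹)) * n := by group
          _ = n⁻¹ * (n * H.emb r * n⁻¹ * y) * n := by rw [e]
          _ = _ := by group
      · intro e
        calc y * (n * H.emb r * n⁻¹) = n * (n⁻¹ * y * n * H.emb r) * n⁻¹ := by group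
          _ = n * (H.emb r * (n⁻¹ * y * n)) * n⁻¹ := by rw [e]
          _ = _ := by group
    refine ⟨?_, ?_⟩
    · rw [e]
      rintro _ ⟨y, hy, rfl⟩
      exact mul_mem (mul_mem (hN hn.mem_N) (hC hy)) (inv_mem (hN hn.mem_N))
    · rw [e, ← Nat.card_congr ((centralizer ({H.x} : Set G)).equivMapOfInjective _
        (MulAut.conj n).injective).toEquiv, H.card_centralizer_x]
      norm_num

theorem orderOf_S_one : orderOf (H.S 1) = 2 := by
  refine orderOf_eq_prime ?_ fun h => ?_
  · rw [pow_two, H.S_mul, show pm 1 1 = (0 : Fin 6) by decide +kernel, H.S_zero]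
  · rw [← H.S_zero] at h
    have := H.mk_inj (v := 0) (w := 0) (congrArg (H.emb 0 * ·) h)
    exact absurd this.2 (by decide)

/-- The centralizer of the transposition lies in the subgroup generated by the two local
subgroups. -/
theorem cent_swap_le (hs : H.Signs evenSigns) (K : Subgroup G) (hN : H.N ≤ K)
    (hC : centralizer ({H.x} : Set G) ≤ K) : centralizer ({H.S 1} : Set G) ≤ K := by
  obtain ⟨h9, he, hu, hinv, hA2, hB2, hAB, hB'⟩ := swap_facts
  have hT := H.induces_S 1
  have htN : H.S 1 ∈ H.N := hT.mem_N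
  have hcomm : ∀ M, H.W M → (∀ v, app M (app (pmat 1) v) = app (pmat 1) (app M v)) →
      app M 9 = 9 ∧ (∀ v, app M (app M (app M (app M v))) = v) ∧
      (app M 4 = 4 → M = pmat 0 ∨ M = pmat 1) := by
    intro M hM hc
    obtain ⟨d, hd, a, rfl⟩ := (hs M).1 hM
    exact swap_even d hd a fun v _ => hc v
  have hCe : H.C [9] ≤ H.N := H.C_singleton 9 ▸ H.C_le_N_even hs (by decide) even_avoid.1
  refine H.centralizer_le_of_transfer hT H.orderOf_S_one h9 (fun M hM hc => (hcomm M hM hc).2.1)
    he (by decide) hCe (fun M hM hc => (hcomm M hM hc).1) hu (by decide) ?_ ?_ K (hN htN)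
    (inf_le_right.trans hN) fun v hv hv0 => ?_
  · obtain ⟨b, hb, -, hab⟩ := CfsgLib.ThreeSymNine.Hyp.W.exists_commuting (H := H.nine)
      (a := (⟨H.S 1, htN⟩ : H.N)) (fun v => Subtype.ext (hT v))
      (Subtype.ext (show H.S 1 * H.S 1 = 1 by
        rw [← pow_two, ← H.orderOf_S_one, pow_orderOf_eq_one]))
      ((H.nine_W _).2 (hs.mem (by decide) 0)) hB2 hAB hB'
    refine ⟨b, (congrArg Subtype.val hab).symm, ?_⟩
    rw [← H.emb_nv, ← hinv]
    exact congrArg Subtype.val (hb 4)
  · intro g hg hg4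
    have hgN : g ∈ H.N := H.C_le_N_even hs (by decide) even_avoid.2.1
      (mem_centralizer_singleton_iff.2 hg4)
    obtain ⟨M, hM⟩ := H.exists_induces_of_mem hgN
    have hc : ∀ v, app M (app (pmat 1) v) = app (pmat 1) (app M v) := fun v => H.emb_inj (by
      rw [← hM.comp hT, ← hT.comp hM, hg])
    have h44 : app M 4 = 4 := H.emb_inj (by rw [← hM, hg4, mul_inv_cancel_right])
    rcases (hcomm M ⟨g, hM⟩ hc).2.2 h44 with rfl | rfl
    · exact ⟨g, ⟨H.mem_J_of_induces_one hM, mem_centralizer_singleton_iff.2 hg⟩, Or.inl rfl⟩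
    · refine ⟨g * (H.S 1)⁻¹, ⟨?_, mem_centralizer_singleton_iff.2 ?_⟩,
        Or.inr (inv_mul_cancel_right g (H.S 1)).symm⟩
      · have := hM.mul_inv_mem hT
        rw [show g * (H.S 1)⁻¹ = (H.S 1)⁻¹ * g from (Commute.inv_right (show Commute g (H.S 1) from hg)).eq]
        exact this
      · rw [inv_mul_cancel_right, show g * (H.S 1)⁻¹ = (H.S 1)⁻¹ * g from
          (Commute.inv_right (show Commute g (H.S 1) from hg)).eq, mul_inv_cancel_left] <;> simp
  · obtain ⟨h1, h5, h7⟩ := H.even_cent_le hs hN hC hv0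
    have hdvd := card_dvd_of_le (inf_le_right : centralizer ({H.S 1} : Set G) ⊓
      centralizer ({H.emb v} : Set G) ≤ _)
    exact ⟨inf_le_right.trans h1, fun h => h5 (h.trans hdvd), fun h => h7 (h.trans hdvd)⟩

/-- With an even number of signs the group is `PSp₄(3)`. -/
theorem iso_psp (hs : H.Signs evenSigns) (F : Type w) [Field F] [Fintype F]
    (hF : Fintype.card F = 3) : Nonempty (G ≃* Cfsg.PSp 2 F) := by
  haveI : Fact (Nat.Prime 2) := ⟨Nat.prime_two⟩
  haveI : Fact (Nat.Prime 3) := ⟨Nat.prime_three⟩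
  set K := H.N ⊔ centralizer ({H.x} : Set G) with hKdef
  have hN : H.N ≤ K := le_sup_left
  have hC : centralizer ({H.x} : Set G) ≤ K := le_sup_right
  set r := H.restrict hC with hr
  have hrs : r.Signs evenSigns := fun M => (H.restrict_W hC).trans
    ⟨fun ⟨g, _, hg⟩ => (hs M).1 ⟨g, hg⟩, fun h => by
      obtain ⟨g, hg⟩ := (hs M).2 h
      exact ⟨g, hN hg.mem_N, hg⟩⟩
  obtain ⟨φ⟩ := r.iso_of_gen hrs (by
    have h1 : r.N = H.N.subgroupOf K :=
      Subgroup.ext fun g => (H.restrict_mem_N hC).trans mem_subgroupOf.symm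
    have h2 : centralizer ({r.x} : Set K) = (centralizer ({H.x} : Set G)).subgroupOf K :=
      Subgroup.ext fun g => by
        rw [mem_subgroupOf, mem_centralizer_singleton_iff, mem_centralizer_singleton_iff,
          Subtype.ext_iff]
        rfl
    rw [h1, h2, ← subgroupOf_sup hN hC, subgroupOf_self]) F hF
  obtain ⟨ψ⟩ := CfsgLib.PSpFourInvol.exists_field_iso F hF
  -- the involution
  have hzK : H.S 1 ∈ K := hN (H.induces_S 1).mem_N
  set z : K := ⟨H.S 1, hzK⟩
  have hz : orderOf z = 2 := by rw [orderOf_mk, H.orderOf_S_one]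
  have hCz := H.cent_swap_le hs K hN hC
  have h9 : 9 ∣ Nat.card (centralizer ({z} : Set K)) := by
    have hle : H.Fix (H.S 1) ≤ centralizer ({H.S 1} : Set G) := fun g hg => hg.2
    have := (card_dvd_of_le (Subgroup.comap_mono (f := K.subtype) hle) : _)
    rw [show (centralizer ({H.S 1} : Set G)).comap K.subtype = centralizer ({z} : Set K) from
      Subgroup.ext fun g => by
        rw [mem_comap, mem_centralizer_singleton_iff, mem_centralizer_singleton_iff, Subtype.ext_iff]
        rfl] at this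
    refine dvd_trans ?_ this
    rw [show (H.Fix (H.S 1)).comap K.subtype = (H.Fix (H.S 1)).subgroupOf K from rfl,
      Nat.card_congr (subgroupOfEquivOfLe (hle.trans hCz)).toEquiv,
      H.card_Fix (H.induces_S 1), swap_facts.1]
  obtain ⟨-, U, hzU, hUc⟩ := psp_central_invol (ψ.trans φ.symm) hz h9
  have h2 : ∀ X : Subgroup G, X.index ≠ 2 := by
    intro X hX
    haveI := normal_of_index_eq_two hX
    have hKX : K ≤ X := by
      by_contra hne
      refine psp_no_index_two (ψ.trans φ.symm) (X.subgroupOf K) ?_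
      have hd : (X.subgroupOf K).index ∣ 2 := hX ▸ relIndex_dvd_index_of_normal X K
      exact ((Nat.dvd_prime Nat.prime_two).1 hd).resolve_left fun h => hne (relIndex_eq_one.1 h)
    obtain ⟨S, hS⟩ := H.sylow_exists
    have hSX : (S : Subgroup G) ≤ X := by rw [hS]; exact (H.P_le.trans hC).trans hKX
    have hNS : normalizer ((S : Subgroup G) : Set G) ≤ X := fun n hn => hKX (hN
      (H.mem_N_of_conj H.isPGroup_P H.J_le_P fun v => hS ▸
        (mem_normalizer_iff.1 hn _).1 (hS.symm ▸ H.J_le_P (H.emb_mem v))))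
    have htop : normalizer ((((S.subtype hSX : Sylow 3 X) : Subgroup X).map X.subtype : Subgroup G) : Set G) ⊔ X = ⊤ :=
      Sylow.normalizer_sup_eq_top _
    rw [Sylow.coe_subtype, subgroupOf_map_subtype, inf_eq_left.2 hSX,
      sup_eq_right.2 hNS] at htop
    rw [htop, index_top] at hX
    omega
  let ω := φ
  have hev : Even (Nat.card G) :=
    even_iff_two_dvd.2 ((hz ▸ orderOf_dvd_natCard z).trans (card_subgroup_dvd_card K))
  let e₁ : centralizer ({(z : G)} : Set G) ≃* centralizer ({ω z} : Set (Cfsg.PSp 2 F)) :=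
    ((subgroupOfEquivOfLe hCz).symm.trans (MulEquiv.subgroupCongr (Subgroup.ext fun g => by
      rw [mem_subgroupOf, mem_centralizer_singleton_iff, mem_centralizer_singleton_iff,
        Subtype.ext_iff]
      rfl))).trans ((ω.subgroupMap (centralizer ({z} : Set K))).trans
      (MulEquiv.subgroupCongr (Subgroup.ext fun g => by
        obtain ⟨k, rfl⟩ := ω.surjective g
        rw [show ω k ∈ (centralizer ({z} : Set K)).map (ω : K →* Cfsg.PSp 2 F) ↔
            k ∈ centralizer ({z} : Set K) from mem_map_iff_mem ω.injective,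
          mem_centralizer_singleton_iff, mem_centralizer_singleton_iff, ← map_mul, ← map_mul,
          ω.injective.eq_iff])))
  refine Cfsg.Agent.S3221.result hev h2 hF (U.mapSurjective (f := ω.toMonoidHom) (show Function.Surjective ω.toMonoidHom from ω.surjective))
    (ω z) ((ω.orderOf_eq z).trans hz) ?_ ?_ (H.S 1) H.orderOf_S_one e₁
  · rw [Sylow.coe_mapSurjective]; exact ⟨z, hzU, rfl⟩
  · rw [Sylow.coe_mapSurjective]
    rintro _ ⟨u, hu, rfl⟩
    exact (map_mul ω _ _).symm.trans ((congrArg ω (hUc u hu)).trans (map_mul ω _ _))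

end Hyp

end CfsgLib.PSpFourRec
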