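import Cfsg.Agent.PSpFourRec.TwoLocal
import Cfsg.Agent.PSpFourRec.CentFlip
import Cfsg.Agent.PSpFourRec.NonRealPSp
import Cfsg.Agent.U62Cent.AutReduce

/-!
# All signs and a small centralizer of the basis vector: the automorphism group of `PSp₄(3)`
-/

set_option autoImplicit false
set_option maxRecDepth 100000
set_option synthInstance.maxSize 100000
set_option linter.style.haveILetI false
set_option linter.unusedSectionVars false

namespace CfsgLib.PSpFourRec

open CfsgLib.AltNine CfsgLib.PSpFourThree Subgroup TwoModel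
open CfsgLib.ThreeSymNine (Mat app mm pmat dmat mono pa pm pinv dig sm nv_nv pa_table app_pmat app_one
  ext_app allSigns dx du db pd bc mono_tables evenSigns)

attribute [local instance 10000] List.decidableBAll List.decidableBEx

universe u w

theorem sl_squares : ∀ g : S23, ∃ a b : S23, g = a * a * (b * b) := by decide +kernel

theorem par_split : ∀ (h : PSpFourThree.H) (g : S23), tmul (h, 1) ((0, 0), g) = (h, g) := by
  decide +kernel

theorem heis_cube : ∀ h : PSpFourThree.H, tmul (h, (1 : S23)) (tmul (h, 1) (h, 1)) = t1 := by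
  decide +kernel

theorem lift_square : ∀ a b : S23,
    tmul (tmul ((0, 0), a) ((0, 0), a)) (tmul ((0, 0), b) ((0, 0), b)) =
      (((0, 0), a * a * (b * b)) : T) := by decide +kernel

theorem even_fixed : ∀ v : Fin 27, app (mono 3 0) v = v → app (mono 5 0) v = v → v = 0 := by
  decide +kernel

theorem signs_perm : pd 4 4 = 1 ∨ pd 5 4 = 1 := by decide +kernel

theorem signs_split : (∀ d : Fin 8, d ∈ evenSigns ∨ dx d 4 ∈ evenSigns) ∧ dx 1 4 = 5 ∧
    (∀ d : Fin 8, d ∈ evenSigns → d = 0 ∨ d = 3 ∨ d = 5 ∨ d = 6) ∧ dx 3 5 = 6 ∧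
    (∀ d : Fin 8, dx (dx d 4) 4 = d) ∧ dx 1 2 = 3 := by decide +kernel

theorem rot_tables : app (mono 4 0) 22 = 13 ∧ app (mono 4 0) 13 = 22 ∧ nv 13 = (26 : Fin 27) ∧
    (4 : Fin 27) ≠ 0 := by decide +kernel

namespace Hyp

variable {G : Type u} [Group G] [Finite G] {H : Hyp G} {D : Fin 8 → G}

theorem cent_x_le_index_two {M : Subgroup G} (hM : M.index = 2) :
    centralizer ({H.x} : Set G) ≤ M := by
  intro g hg
  obtain ⟨⟨hh, s⟩, rfl⟩ := H.commute_x_iff.1 (mem_centralizer_singleton_iff.1 hg)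
  obtain ⟨a, b, rfl⟩ := sl_squares s
  rw [← par_split hh, H.par_mul]
  refine mul_mem ?_ ?_
  · have h2 := mul_self_mem_of_index_two hM (H.par (hh, 1))
    have h3 : H.par (hh, 1) = (H.par (hh, 1) * H.par (hh, 1))⁻¹ := by
      refine eq_inv_of_mul_eq_one_left ?_
      rw [← H.par_mul, ← H.par_mul, heis_cube, H.par_one]
    rw [h3]
    exact inv_mem h2
  · rw [← lift_square, H.par_mul, H.par_mul, H.par_mul]
    exact mul_mem (mul_self_mem_of_index_two hM _) (mul_self_mem_of_index_two hM _)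

variable {q : Fin 4 → G}

/-- The data of the two-subgroup when the quaternion groups commute. -/
theorem Core.two_zero {O : Subgroup G} (hC : H.Core D O) (hq : H.Reps D q)
    (hO : H.Q2 D ≤ O) : H.Two D [0] q (fun _ => 1) where
  reps := hq
  vs := by simp [vsList]
  comm a b := (mem_centralizer_iff.1 (hC.le (hO (hC.flips.mem_Q2.2 (by
    rw [hC.flips.conj_four]; exact hq.mem b)))) _ (hq.mem a))
  e_zero := rfl
  e_z _ := by rw [one_mul, mul_one]
  e_add _ _ := Or.inl (one_mul 1)
  e_q _ _ := Commute.one_left _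
  e_four _ := Commute.one_right _
  e_three _ := Or.inl (by rw [mul_one, hC.flips.sq])
  e_inj v hv _ := List.mem_singleton.1 hv
  e_conj v hv hv0 := absurd (List.mem_singleton.1 hv) hv0

/-- A small centralizer of the basis vector gives a subgroup of index two. -/
theorem Flips.exists_index_two (h : H.Flips D) (h9 : H.C [9] ≤ H.N) :
    ∃ M : Subgroup G, M.Normal ∧ M.index = 2 ∧ D 4 ∉ M := by
  classical
  haveI : Fact (Nat.Prime 2) := ⟨Nat.prime_two⟩
  obtain ⟨O, hC⟩ := h.exists_core'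
  obtain ⟨q, hq⟩ := h.exists_reps
  have hO : H.Q2 D = O := hC.Q2_le (hC.part_nine_le h9)
  have hT : H.Two D [0] q (fun _ => 1) := hC.two_zero hq hO.le
  have hNK : hT.NK := hT.nk_of_core hC hO
  have hodd := hT.index_odd hNK
  have hmk : Function.Surjective (QuotientGroup.mk' H.zq) := QuotientGroup.mk'_surjective _
  set T0 : Subgroup G := (hT.Tb.comap (QuotientGroup.mk' H.zq)).map H.Cz.subtype with hT0
  have hm0 : ∀ {g : G}, g ∈ T0 ↔ g ∈ H.Cz ∧ H.bar g ∈ hT.Tb := by
    intro g
    constructor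
    · rintro ⟨c, hc, rfl⟩
      exact ⟨c.2, (bar_mk c).symm ▸ hc⟩
    · rintro ⟨hg, hgT⟩
      refine ⟨⟨g, hg⟩, ?_, rfl⟩
      show (QuotientGroup.mk ⟨g, hg⟩ : H.Xq) ∈ hT.Tb
      rw [← bar_mk]
      exact hgT
  have hzz : H.zq ≤ hT.Tb.comap (QuotientGroup.mk' H.zq) := fun c hc =>
    show QuotientGroup.mk' H.zq c ∈ hT.Tb by
      rw [show QuotientGroup.mk' H.zq c = 1 from (QuotientGroup.eq_one_iff c).2 hc]
      exact one_mem _
  have hcardz : Nat.card H.zq = 2 := by
    rw [zq, Nat.card_zpowers, orderOf_mk]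
    exact orderOf_eq_prime ((pow_two _).trans S_sq) S_ne_one
  have hcardT : Nat.card hT.Tb = 64 := by
    rw [Two.Tb, hT.card_sub]
    decide
  have hcard0 : Nat.card T0 = 128 := by
    rw [hT0, ← Nat.card_congr ((hT.Tb.comap (QuotientGroup.mk' H.zq)).equivMapOfInjective _
      H.Cz.subtype_injective).toEquiv, card_eq_card_quotient_mul_card_subgroup
      (H.zq.subgroupOf (hT.Tb.comap (QuotientGroup.mk' H.zq))),
      Nat.card_congr (subgroupOfEquivOfLe hzz).toEquiv, hcardz]
    let f := (QuotientGroup.mk' H.zq).subgroupComap hT.Tb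
    have hf : Function.Surjective f :=
      (QuotientGroup.mk' H.zq).subgroupComap_surjective_of_surjective _ hmk
    have hk : f.ker = H.zq.subgroupOf (hT.Tb.comap (QuotientGroup.mk' H.zq)) := by
      ext c
      rw [MonoidHom.mem_ker, mem_subgroupOf, ← QuotientGroup.eq_one_iff, Subtype.ext_iff]
      rfl
    have e := (QuotientGroup.quotientMulEquivOfEq hk.symm).trans
      (QuotientGroup.quotientKerEquivOfSurjective f hf)
    rw [Nat.card_congr e.toEquiv, hcardT]
  have hp0 : IsPGroup 2 T0 := IsPGroup.of_card (n := 7) (hcard0.trans rfl)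
  have hqT : ∀ a, q a ∈ T0 ∧ D 4 * q a * D 4 ∈ T0 := fun a => by
    obtain ⟨e1, e2⟩ := hT.bar_Q1_mem (hq.mem a)
    exact ⟨hm0.2 ⟨hT.q_mem a, hT.Kb_le_Tb e1⟩, hm0.2 ⟨mul_mem (mul_mem (h.mem_Cz' (by decide))
      (hT.q_mem a)) (h.mem_Cz' (by decide)), hT.Kb_le_Tb e2⟩⟩
  have hzT : H.S 1 ∈ T0 := hm0.2 ⟨mem_Cz.2 rfl, bar_z (H := H) ▸ one_mem _⟩
  have hF4 : D 4 ∈ T0 := hm0.2 ⟨h.mem_Cz' (by decide), hT.bsig_mem 1⟩
  -- the centre
  have hcentre : ∀ c ∈ T0, (∀ t ∈ T0, c * t = t * c) → c = 1 ∨ c = H.S 1 := by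
    intro c hc hcc
    obtain ⟨hcC, hcT⟩ := hm0.1 hc
    obtain ⟨⟨k, s⟩, hk, -, hy⟩ := hcT
    have hall : ∀ a b : Fin 4, mmul (k, s) ((a, b, 0), 0) = mmul ((a, b, 0), 0) (k, s) := by
      intro a b
      have hw : q a * (D 4 * q b * D 4) ∈ T0 := mul_mem (hqT a).1 (hqT b).2
      have e := congrArg H.bar (hcc _ hw)
      rw [bar_mul hcC (hm0.1 hw).1, bar_mul (hm0.1 hw).1 hcC, ← hy] at e
      have hb : H.bar (q a * (D 4 * q b * D 4)) = H.phi D q (fun _ => 1) ((a, b, 0), 0) := by
        have := hT.kap_eq (a, b, 0)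
        simp only [mul_one] at this
        rw [← this]
        simp [phi, bsig]
      rw [hb, hT.phi_mul, hT.phi_mul] at e
      exact hT.phi_inj (mmul_last _ hT.vs _ _ _ hk (List.mem_singleton_self _))
        (mmul_last _ hT.vs _ _ _ (List.mem_singleton_self _) hk) e
    have hs : s = 0 := centre_vec (k, s) hall
    subst hs
    obtain ⟨a, b, v⟩ := k
    rw [List.mem_singleton] at hk
    simp only at hk
    subst hk
    rw [show H.phi D q (fun _ => 1) ((a, b, 0), 0) = H.kap D q (fun _ => 1) (a, b, 0) by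
      simp [phi, bsig]] at hy
    by_cases hab : a = 0 ∧ b = 0
    · obtain ⟨rfl, rfl⟩ := hab
      rw [hT.kap_eq] at hy
      simp only [hq.one, mul_one, h.sq, bar_one] at hy
      exact (bar_eq_one hcC).1 hy.symm
    · exfalso
      have hzc : ∀ {w : G}, w ∈ H.Cz → Commute (H.S 1) w := fun hw => (mem_Cz.1 hw).symm
      have hex : ∀ c : Fin 4, c ≠ 0 → ∃ d : Fin 4, d ≠ 0 ∧ d ≠ c := by decide
      have hmem := hT.lift_mem (a, b, 0)
      simp only [mul_one] at hmem
      have hce : H.ZEq c (q a * (D 4 * q b * D 4)) := by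
        have := (bar_eq hcC (hT.lift_mem (a, b, 0))).1 (hy.symm.trans (hT.kap_eq _))
        simpa only [mul_one] using this
      have hcw : ∀ t ∈ T0, Commute t (q a * (D 4 * q b * D 4)) := by
        intro t ht
        have hct : Commute t c := (hcc t ht).symm
        rcases hce with e | e
        · exact e ▸ hct
        · rw [e] at hct
          have h2 := hct.mul_right (hzc (hm0.1 ht).1).symm
          rwa [mul_assoc _ (H.S 1) (H.S 1), S_sq, mul_one] at h2
      rcases not_and_or.1 hab with ha | hb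
      · obtain ⟨d, hd, hda⟩ := hex a ha
        have e1 := (hcw _ (hqT d).1).mul_right (hT.comm d b).inv_right
        rw [mul_inv_cancel_right] at e1
        have e2 := hq.noncomm d a hd ha (Ne.symm hda)
        rw [e1.eq] at e2
        exact S_ne_one (mul_eq_left.1 e2.symm)
      · obtain ⟨d, hd, hdb⟩ := hex b hb
        have e1 := ((hT.comm a d).symm.inv_right).mul_right (hcw _ (hqT d).2)
        rw [inv_mul_cancel_left] at e1
        have e2 := hq.noncomm d b hd hb (Ne.symm hdb)
        have e3 : q d * q b = q b * q d := by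
          have := congrArg (fun y => D 4 * y * D 4) e1.eq
          simp only [← mul_assoc] at this
          calc q d * q b = D 4 * D 4 * q d * (D 4 * D 4) * q b * (D 4 * D 4) := by
                rw [h.sq, one_mul, mul_one, mul_one]
            _ = D 4 * D 4 * q b * (D 4 * D 4) * q d * (D 4 * D 4) := by
                simp only [← mul_assoc]; exact this
            _ = _ := by rw [h.sq, one_mul, mul_one, mul_one]
        rw [e3] at e2
        exact S_ne_one (mul_eq_left.1 e2.symm)
  -- a Sylow subgroup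
  obtain ⟨R, hR⟩ := hp0.exists_le_sylow
  have hRC : ∀ g ∈ (R : Subgroup G), g ∈ H.Cz → g ∈ T0 := by
    intro g hgR hgC
    by_contra hg
    set A : Subgroup H.Xq := (((R : Subgroup G).subgroupOf H.Cz).map (QuotientGroup.mk' H.zq))
    have hAT : hT.Tb ≤ A := fun x hx => by
      obtain ⟨c, rfl⟩ := hmk x
      exact ⟨c, mem_subgroupOf.2 (hR ⟨c, hx, rfl⟩), rfl⟩
    have hA2 : IsPGroup 2 A := (R.2.comap_subtype (K := H.Cz)).map _
    obtain ⟨n, hn⟩ := hA2.exists_card_eq
    have hd : Nat.card A = Nat.card hT.Tb := by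
      have e1 := (hT.Tb.subgroupOf A).card_mul_index
      rw [Nat.card_congr (subgroupOfEquivOfLe hAT).toEquiv] at e1
      have e2 : (hT.Tb.subgroupOf A).index ∣ hT.Tb.index := relIndex_dvd_index_of_le hAT
      obtain ⟨m, hm⟩ : ∃ m, (hT.Tb.subgroupOf A).index = 2 ^ m := by
        obtain ⟨m, -, hm⟩ := (Nat.dvd_prime_pow Nat.prime_two).1
          (show (hT.Tb.subgroupOf A).index ∣ 2 ^ n by rw [← hn, ← e1]; exact dvd_mul_left _ _)
        exact ⟨m, hm⟩
      rcases Nat.eq_zero_or_pos m with rfl | hm0'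
      · rw [← e1, hm, pow_zero, mul_one]
      · exfalso
        exact Nat.not_even_iff_odd.2 hodd (even_iff_two_dvd.2
          ((dvd_pow_self 2 hm0'.ne').trans (hm ▸ e2)))
    have hAeq : hT.Tb = A := eq_of_le_of_card_ge hAT hd.le
    refine hg (hm0.2 ⟨hgC, ?_⟩)
    rw [hAeq]
    exact ⟨⟨g, hgC⟩, mem_subgroupOf.2 hgR, (bar_mk ⟨g, hgC⟩).symm⟩
  have hRT : (R : Subgroup G) ≤ T0 := by
    by_contra hne
    have hlt : T0.subgroupOf (R : Subgroup G) < ⊤ :=
      lt_top_iff_ne_top.2 fun e => hne (subgroupOf_eq_top.1 e)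
    haveI := R.2.isNilpotent
    obtain ⟨⟨n, hnR⟩, hnn, hnT⟩ := SetLike.exists_of_lt
      (Group.normalizerCondition_of_isNilpotent _ hlt)
    have hconj : ∀ t ∈ T0, n * t * n⁻¹ ∈ T0 := fun t ht =>
      ((mem_normalizer_iff.1 hnn) ⟨t, hR ht⟩).1 ht
    have hconj' : ∀ t ∈ T0, n⁻¹ * t * n ∈ T0 := fun t ht => by
      have := ((mem_normalizer_iff.1 (inv_mem hnn)) ⟨t, hR ht⟩).1 ht
      simpa [mem_subgroupOf] using this
    refine hnT (mem_subgroupOf.2 (hRC n hnR (mem_Cz.2 ?_)))
    rcases hcentre _ (hconj _ hzT) (fun t ht => by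
      have e : H.S 1 * (n⁻¹ * t * n) = n⁻¹ * t * n * H.S 1 :=
        (mem_Cz.1 (hm0.1 (hconj' t ht)).1).symm
      calc n * H.S 1 * n⁻¹ * t = n * (H.S 1 * (n⁻¹ * t * n)) * n⁻¹ := by group
        _ = n * (n⁻¹ * t * n * H.S 1) * n⁻¹ := by rw [e]
        _ = _ := by group) with e | e
    · rw [conj_eq_one_iff] at e
      exact absurd e S_ne_one
    · exact mul_inv_eq_iff_eq_mul.1 e
  have hindex : Odd T0.index := by
    rw [← le_antisymm hRT hR]
    exact Nat.not_even_iff_odd.1 fun hev => R.not_dvd_index (even_iff_two_dvd.1 hev)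
  -- the subgroup of index two
  set T1 := hT.sub [0, 2] (by decide) with hT1
  set Q0 : Subgroup G := (T1.comap (QuotientGroup.mk' H.zq)).map H.Cz.subtype with hQ0
  have hm1 : ∀ {g : G}, g ∈ Q0 ↔ g ∈ H.Cz ∧ H.bar g ∈ T1 := by
    intro g
    constructor
    · rintro ⟨c, hc, rfl⟩
      exact ⟨c.2, (bar_mk c).symm ▸ hc⟩
    · rintro ⟨hg, hgT⟩
      refine ⟨⟨g, hg⟩, ?_, rfl⟩
      show (QuotientGroup.mk ⟨g, hg⟩ : H.Xq) ∈ T1
      rw [← bar_mk]
      exact hgT
  have hle1 : T1 ≤ hT.Tb := fun _ ⟨y, hy, _, e⟩ =>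
    ⟨y, hy, (show ∀ s : Fin 4, s ∈ ([0, 1, 2, 3] : List (Fin 4)) by decide) _, e⟩
  have hrel : Q0.relIndex T0 = 2 := by
    rw [hQ0, hT0, relIndex_map_map_of_injective _ _ H.Cz.subtype_injective,
      relIndex_comap, map_comap_eq_self_of_surjective hmk]
    have e1 := (T1.subgroupOf hT.Tb).card_mul_index
    rw [Nat.card_congr (subgroupOfEquivOfLe hle1).toEquiv, hcardT, hT1, hT.card_sub,
      show 16 * ([0] : List (Fin 4)).length *
        (Finset.univ.filter fun s : Fin 4 => s ∈ ([0, 2] : List (Fin 4))).card = 32 by decide] at e1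
    exact Nat.eq_of_mul_eq_mul_left (n := 32) (by norm_num) e1
  refine (CfsgLib.ThompsonTransfer.thompson_transfer T0 Q0 hindex hrel (h.sq 4)).resolve_right ?_
  rintro ⟨g, hg⟩
  obtain ⟨cfg, cfj, czf, -, -, -, -, -, -, cgz⟩ := h.class_facts
  obtain ⟨hyC, ⟨⟨k, s⟩, hk, hs, hy⟩⟩ := hm1.1 hg
  set y := g * D 4 * g⁻¹ with hydef
  have hcy : IsConj (D 4) y := isConj_iff.2 ⟨g, rfl⟩
  have hy2 : y * y = 1 := by
    calc y * y = g * (D 4 * D 4) * g⁻¹ := by rw [hydef]; group
      _ = 1 := by rw [h.sq, mul_one, mul_inv_cancel]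
  have hphi2 : H.phi D q (fun _ => 1) (k, s) * H.phi D q (fun _ => 1) (k, s) = 1 := by
    rw [hy, ← bar_mul hyC hyC, hy2, bar_one]
  simp only [List.mem_cons, List.not_mem_nil, or_false] at hs
  rcases hs with rfl | rfl
  · obtain ⟨a, b, v⟩ := k
    rw [List.mem_singleton] at hk
    simp only at hk
    subst hk
    rw [show H.phi D q (fun _ => 1) ((a, b, 0), 0) = H.kap D q (fun _ => 1) (a, b, 0) by
      simp [phi, bsig]] at hy
    have hyw : H.ZEq y (q a * (D 4 * q b * D 4)) := by
      have := (bar_eq hyC (hT.lift_mem (a, b, 0))).1 (hy.symm.trans (hT.kap_eq _))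
      simpa only [mul_one] using this
    have hbb : ∀ b : Fin 4, b ≠ 0 → D 4 * q b * D 4 * (D 4 * q b * D 4) = H.S 1 := fun b hb => by
      calc D 4 * q b * D 4 * (D 4 * q b * D 4) = D 4 * (q b * (D 4 * D 4) * q b) * D 4 := by group
        _ = D 4 * H.S 1 * D 4 := by rw [h.sq, mul_one, hq.sq b hb]
        _ = _ := by rw [h.four_z.1, mul_assoc, h.sq, mul_one]
    have hsq : y * y = q a * (D 4 * q b * D 4) * (q a * (D 4 * q b * D 4)) := by
      rcases hyw with e | e <;> rw [e]
      have hcm : Commute (q a * (D 4 * q b * D 4)) (H.S 1) := by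
        have := mem_Cz.1 (hT.lift_mem (a, b, 0))
        simp only [mul_one] at this
        exact this
      rw [hcm.symm.mul_mul_mul_comm, S_sq, mul_one]
    by_cases ha : a = 0 <;> by_cases hb : b = 0
    · subst ha hb
      rw [hq.one, one_mul, mul_one, h.sq] at hyw
      rcases hyw with e | e
      · rw [hydef, conj_eq_one_iff] at e
        have := h.orderOf_flip (d := 4) (by decide)
        rw [e, orderOf_one] at this
        omega
      · rw [one_mul] at e
        exact czf (e ▸ hcy).symm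
    · subst ha
      rw [hsq, hq.one, one_mul, hbb b hb] at hy2
      exact S_ne_one hy2
    · subst hb
      rw [hsq, hq.one, mul_one, h.sq, mul_one, hq.sq a ha] at hy2
      exact S_ne_one hy2
    · -- move the classes to the fixed one
      have h22 := plane_comm (H := H) plane_tables.1
      have h13 : H.emb 13 * H.S 1 = H.S 1 * H.emb 13 :=
        (plane_comm (H := H) (v := 13) (by decide +kernel)).2
      have c1 : ∀ z a b, IsConj z y → H.bar z = H.kap D q (fun _ => 1) (a, b, 0) → z ∈ H.Cz →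
          ∃ z', IsConj z' y ∧ H.bar z' = H.kap D q (fun _ => 1) (rho a, b, 0) ∧ z' ∈ H.Cz := by
        intro z a b hz hzb hzC
        have hA : H.emb 22 ∈ H.Cz := mem_Cz.2 h22.2
        refine ⟨H.emb 22 * z * (H.emb 22)⁻¹,
          (isConj_iff.2 ⟨H.emb 22, rfl⟩ : IsConj z _).symm.trans hz, ?_,
          mul_mem (mul_mem hA hzC) (inv_mem hA)⟩
        have hc22 : Commute (H.emb 22) (D 4 * q b * D 4) := by
          have e1 : Commute (H.emb 13) (q b) := (Q1_cent (hq.mem b)).1.symm
          have e2 : D 4 * H.emb 13 * D 4 = H.emb 22 := by rw [h.four_emb, rot_tables.2.1]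
          rw [← e2]
          have e3 := e1.map (MulAut.conj (D 4)).toMonoidHom
          simpa [MulAut.conj_apply, h.inv] using e3
        rw [bar_mul (mul_mem hA hzC) (inv_mem hA), bar_mul hA hzC, bar_inv hA, hzb, hT.kap_eq,
          ← bar_inv hA, ← bar_mul hA (hT.lift_mem _),
          ← bar_mul (mul_mem hA (hT.lift_mem _)) (inv_mem hA), hT.kap_eq]
        refine (bar_eq (mul_mem (mul_mem hA (hT.lift_mem _)) (inv_mem hA)) (hT.lift_mem _)).2 ?_
        simp only [mul_one]
        have e4 : H.emb 22 * (q a * (D 4 * q b * D 4)) * (H.emb 22)⁻¹ =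
            H.emb 22 * q a * (H.emb 22)⁻¹ * (D 4 * q b * D 4) := by
          calc H.emb 22 * (q a * (D 4 * q b * D 4)) * (H.emb 22)⁻¹
              = H.emb 22 * q a * ((D 4 * q b * D 4) * (H.emb 22)⁻¹) := by group
            _ = _ := by rw [← hc22.inv_left.eq]; group
        rw [e4]
        rcases hq.rot a with e | e <;> rw [e]
        · exact Or.inl rfl
        · refine Or.inr ?_
          have hcz : Commute (H.S 1) (D 4 * q b * D 4) := by
            refine (show Commute (D 4 * q b * D 4) (H.S 1) from ?_).symm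
            exact mem_Cz.1 (mul_mem (mul_mem (h.mem_Cz' (by decide)) (hT.q_mem b))
              (h.mem_Cz' (by decide)))
          rw [mul_assoc (q (rho a)) (H.S 1), hcz.eq, ← mul_assoc]
      have c2 : ∀ z a b, IsConj z y → H.bar z = H.kap D q (fun _ => 1) (a, b, 0) → z ∈ H.Cz →
          ∃ z', IsConj z' y ∧ H.bar z' = H.kap D q (fun _ => 1) (a, rho b, 0) ∧ z' ∈ H.Cz := by
        intro z a b hz hzb hzC
        have h4 := h.mem_Cz' (d := 4) (by decide)
        have hswap : ∀ w, w ∈ H.Cz → ∀ a b, H.bar w = H.kap D q (fun _ => 1) (a, b, 0) →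
            H.bar (D 4 * w * D 4) = H.kap D q (fun _ => 1) (b, a, 0) := fun w hw a b e => by
          rw [bar_mul (mul_mem h4 hw) h4, bar_mul h4 hw, e, hT.four_kap]
        obtain ⟨z', hz', hzb', hzC'⟩ := c1 (D 4 * z * D 4) b a
          ((isConj_iff.2 ⟨D 4, by rw [h.inv]⟩ : IsConj z _).symm.trans hz) (hswap z hzC a b hzb)
          (mul_mem (mul_mem h4 hzC) h4)
        exact ⟨D 4 * z' * D 4, (isConj_iff.2 ⟨D 4, by rw [h.inv]⟩ : IsConj z' _).symm.trans hz',
          hswap z' hzC' _ _ hzb', mul_mem (mul_mem h4 hzC') h4⟩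
      obtain ⟨z1, hz1, hb1, hC1⟩ : ∃ z1, IsConj z1 y ∧
          H.bar z1 = H.kap D q (fun _ => 1) (1, b, 0) ∧ z1 ∈ H.Cz := by
        rcases rho_trans a ha with e | e | e
        · exact ⟨y, IsConj.refl _, e ▸ hy.symm, hyC⟩
        · obtain ⟨z', h1, h2, h3⟩ := c1 y a b (IsConj.refl _) hy.symm hyC
          exact ⟨z', h1, e ▸ h2, h3⟩
        · obtain ⟨z', h1, h2, h3⟩ := c1 y a b (IsConj.refl _) hy.symm hyC
          obtain ⟨z'', h1', h2', h3'⟩ := c1 z' _ b h1 h2 h3
          exact ⟨z'', h1', e ▸ h2', h3'⟩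
      obtain ⟨z2, hz2, hb2, hC2⟩ : ∃ z2, IsConj z2 y ∧
          H.bar z2 = H.kap D q (fun _ => 1) (1, 1, 0) ∧ z2 ∈ H.Cz := by
        rcases rho_trans b hb with e | e | e
        · exact ⟨z1, hz1, e ▸ hb1, hC1⟩
        · obtain ⟨z', h1, h2, h3⟩ := c2 z1 1 b hz1 hb1 hC1
          exact ⟨z', h1, e ▸ h2, h3⟩
        · obtain ⟨z', h1, h2, h3⟩ := c2 z1 1 b hz1 hb1 hC1
          obtain ⟨z'', h1', h2', h3'⟩ := c2 z' 1 _ h1 h2 h3
          exact ⟨z'', h1', e ▸ h2', h3'⟩
      -- the centralizer of the fixed one is too large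
      have hpm : ∀ t ∈ T0, t * z2 * t⁻¹ = z2 ∨ t * z2 * t⁻¹ = z2 * H.S 1 := by
        intro t ht
        obtain ⟨htC, ⟨k, s'⟩, hk', -, hty⟩ := hm0.1 ht
        refine (bar_eq (mul_mem (mul_mem htC hC2) (inv_mem htC)) hC2).1 ?_
        rw [bar_mul (mul_mem htC hC2) (inv_mem htC), bar_mul htC hC2, bar_inv htC, ← hty, hb2,
          mul_inv_eq_iff_eq_mul, show H.kap D q (fun _ => 1) (1, 1, 0) =
            H.phi D q (fun _ => 1) ((1, 1, 0), 0) by simp [phi, bsig], hT.phi_mul, hT.phi_mul,
          central_pair]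
      have hz2T : z2 ∈ T0 := hm0.2 ⟨hC2, hb2 ▸ hT.Kb_le_Tb (hT.kap_mem (List.mem_singleton_self _))⟩
      set C := T0 ⊓ centralizer ({z2} : Set G)
      have h64 : 64 ∣ Nat.card C := by
        have hle : Nat.card T0 ≤ 2 * Nat.card C := by
          by_cases hall : T0 ≤ centralizer ({z2} : Set G)
          · rw [show C = T0 from inf_eq_left.2 hall]
            omega
          obtain ⟨t₀, ht₀, ht₀'⟩ := Set.not_subset.1 hall
          let f : T0 → C × Bool := fun t =>
            if hc : (t : G) ∈ centralizer ({z2} : Set G) then (⟨t, t.2, hc⟩, true)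
            else (⟨(t : G) * t₀, mul_mem t.2 ht₀, by
              rw [mem_centralizer_singleton_iff] at hc
              refine mem_centralizer_singleton_iff.2 ?_
              replace ht₀' : ¬ t₀ * z2 = z2 * t₀ := fun e =>
                ht₀' (mem_centralizer_singleton_iff.2 e)
              have e1 := (hpm t t.2).resolve_left fun e => hc (mul_inv_eq_iff_eq_mul.1 e)
              have e2 := (hpm t₀ ht₀).resolve_left fun e => ht₀' (mul_inv_eq_iff_eq_mul.1 e)
              refine mul_inv_eq_iff_eq_mul.1 ?_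
              calc (t : G) * t₀ * z2 * ((t : G) * t₀)⁻¹
                  = (t : G) * (t₀ * z2 * t₀⁻¹) * (t : G)⁻¹ := by group
                _ = (t : G) * z2 * (H.S 1 * (t : G)⁻¹) := by rw [e2]; group
                _ = (t : G) * z2 * (t : G)⁻¹ * H.S 1 := by
                    rw [← (show Commute (t : G) (H.S 1) from
                      mem_Cz.1 (hm0.1 t.2).1).inv_left.eq]
                    group
                _ = z2 := by rw [e1, mul_assoc, S_sq, mul_one]⟩, false)
          have hf : Function.Injective f := by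
            intro t t' e
            simp only [f] at e
            split_ifs at e
            · exact Subtype.ext (congrArg (fun p : C × Bool => (p.1 : G)) e)
            · exact Bool.noConfusion (congrArg Prod.snd e)
            · exact Bool.noConfusion (congrArg Prod.snd e)
            · exact Subtype.ext (mul_right_cancel (congrArg (fun p : C × Bool => (p.1 : G)) e))
          refine (Nat.card_le_card_of_injective f hf).trans ?_
          rw [Nat.card_prod, Nat.card_eq_fintype_card (α := Bool), Fintype.card_bool, mul_comm]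
        obtain ⟨m, hm⟩ := (hp0.to_le (inf_le_left : C ≤ T0)).exists_card_eq
        rw [hcard0, hm] at hle
        have h6 : 2 ^ 6 ∣ 2 ^ m := pow_dvd_pow 2 (by
          by_contra h6
          have : 2 ^ m ≤ 2 ^ 5 := Nat.pow_le_pow_right (by norm_num) (by omega)
          omega)
        rw [hm]
        exact h6
      obtain ⟨c, hc⟩ := isConj_iff.1 (hcy.trans hz2.symm)
      refine h.cent_flip_two_part h9 (h64.trans ((card_dvd_of_le inf_le_right).trans ?_))
      rw [← hc, Nat.card_congr ((MulAut.conj c).toEquiv.subtypeEquiv (p := fun w =>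
        w ∈ centralizer ({D 4} : Set G)) (q := fun w =>
        w ∈ centralizer ({c * D 4 * c⁻¹} : Set G)) fun w => ?_)]
      show w ∈ centralizer ({D 4} : Set G) ↔ c * w * c⁻¹ ∈ centralizer ({c * D 4 * c⁻¹} : Set G)
      rw [mem_centralizer_singleton_iff, mem_centralizer_singleton_iff]
      constructor
      · intro e
        calc c * w * c⁻¹ * (c * D 4 * c⁻¹) = c * (w * D 4) * c⁻¹ := by group
          _ = c * (D 4 * w) * c⁻¹ := by rw [e]
          _ = _ := by group
      · intro e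
        calc w * D 4 = c⁻¹ * (c * w * c⁻¹ * (c * D 4 * c⁻¹)) * c := by group
          _ = c⁻¹ * (c * D 4 * c⁻¹ * (c * w * c⁻¹)) * c := by rw [e]
          _ = _ := by group
  · obtain ⟨x', v, -, hv0, hx'⟩ := hT.invol_rep hk (show (2 : Fin 4) ≠ 0 by decide) hphi2
    rw [bar_one, one_mul, hy, show H.bsig D 2 = H.bar (D 3) from rfl] at hx'
    rcases bar_pairs hyC (h.mem_Cz' (by decide)) hx' with ⟨p, -⟩ | ⟨p, -⟩
    · exact cfg (hcy.trans p)
    · exact czf ((hcy.trans p).trans cgz).symm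

/-- All signs with a small centralizer of the basis vector: the automorphism group. -/
theorem Flips.iso_aut (h : H.Flips D) (h9 : H.C [9] ≤ H.N) (F : Type w) [Field F] [Fintype F]
    (hF : Fintype.card F = 3) : Nonempty (G ≃* MulAut (Cfsg.PSp 2 F)) := by
  classical
  obtain ⟨M, hMn, hM2, hMf⟩ := h.exists_index_two h9
  haveI := hMn
  have hC : centralizer ({H.x} : Set G) ≤ M := cent_x_le_index_two hM2
  have hS : ∀ a, H.S a ∈ M := fun a => hC (H.par_mem_centralizer _)
  have hJ : ∀ v, H.emb v ∈ M := fun v => hC (H.par_mem_centralizer _)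
  have hmul : ∀ {x y : G}, x * y ∈ M ↔ (x ∈ M ↔ y ∈ M) := fun {x y} =>
    mul_mem_iff_of_index_two hM2
  have hconjM : ∀ a d, D (pd a d) ∈ M ↔ D d ∈ M := fun a d => by
    rw [← h.conj a d]
    constructor
    · intro e
      have := hMn.conj_mem _ e (H.S a)⁻¹
      rwa [show (H.S a)⁻¹ * (H.S a * D d * (H.S a)⁻¹) * (H.S a)⁻¹⁻¹ = D d by group] at this
    · exact fun e => hMn.conj_mem _ e _
  obtain ⟨hsp, h14, hev, h35, h44, h12⟩ := signs_split
  have h1 : D 1 ∉ M := fun e => hMf (by
    rcases signs_perm with p | p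
    · exact (hconjM 4 4).1 (p ▸ e)
    · exact (hconjM 5 4).1 (p ▸ e))
  have h5 : D 5 ∈ M := by
    rw [← h14, ← h.mul]
    exact hmul.2 ⟨fun e => absurd e h1, fun e => absurd e hMf⟩
  have h2 : D 2 ∉ M := by
    rw [← flip_tables.2.2.2.2.2.2.1]
    exact fun e => h1 ((hconjM 1 1).1 e)
  have h3 : D 3 ∈ M := by
    rw [← h12, ← h.mul]
    exact hmul.2 ⟨fun e => absurd e h1, fun e => absurd e h2⟩
  have heven : ∀ d ∈ evenSigns, D d ∈ M := fun d hd => by
    rcases hev d hd with rfl | rfl | rfl | rfl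
    · rw [h.zero]; exact one_mem _
    · exact h3
    · exact h5
    · rw [← h35, ← h.mul]; exact mul_mem h3 h5
  set r := H.restrict hC
  have hrs : r.Signs evenSigns := fun A => (H.restrict_W hC).trans
    ⟨fun ⟨g, hgM, hg⟩ => by
      obtain ⟨v, d, a, rfl⟩ := h.mem_N_iff.1 hg.mem_N
      refine ⟨d, ?_, a, hg.unique (h.el_ind v d a)⟩
      rcases hsp d with hd | hd
      · exact hd
      · exfalso
        have hdM : D d ∈ M := by
          have := (hmul (x := H.emb v * D d) (y := H.S a)).1 hgM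
          exact (hmul.1 (this.2 (hS a))).1 (hJ v)
        refine hMf ?_
        have h' := heven _ hd
        rw [← h.mul] at h'
        exact (hmul.1 h').1 hdM,
    fun ⟨d, hd, a, e⟩ => ⟨H.el D 0 d a, mul_mem (mul_mem (hJ 0) (heven d hd)) (hS a),
      e ▸ h.el_ind 0 d a⟩⟩
  obtain ⟨φ⟩ := r.iso_psp hrs F hF
  -- the action
  let α : G →* MulAut M := MulAut.conjNormal
  have hα : Function.Injective α := by
    refine (injective_iff_map_eq_one α).2 fun g hg => ?_
    have hc : ∀ m ∈ M, g * m = m * g := fun m hm => by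
      have := congrArg (fun f : MulAut M => (f ⟨m, hm⟩ : G)) hg
      simp only [α, MulAut.conjNormal_apply, MulAut.one_apply] at this
      exact mul_inv_eq_iff_eq_mul.1 this
    obtain ⟨v, rfl⟩ : ∃ v, H.emb v = g := H.mem_J_of_centralizes fun j hj => by
      obtain ⟨v, rfl⟩ := hj
      exact hc _ (hJ v)
    have hfix : ∀ d ∈ evenSigns, app (mono d 0) v = v := fun d hd => H.emb_inj (by
      rw [← h.ind_flip d, ← hc _ (heven d hd), mul_inv_cancel_right])
    rw [even_fixed v (hfix 3 (by decide)) (hfix 5 (by decide)), H.emb_zero]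
  let ψ : MulAut M ≃* MulAut (Cfsg.PSp 2 F) := MulAut.congr φ
  have hinj : Function.Injective (ψ.toMonoidHom.comp α) := ψ.injective.comp hα
  have hcardG : Nat.card G = Nat.card (Cfsg.PSp 2 F) * 2 := by
    rw [← M.card_mul_index, hM2, Nat.card_congr φ.toEquiv]
  have hcardA : Nat.card (MulAut (Cfsg.PSp 2 F)) = Nat.card (Cfsg.PSp 2 F) * 2 := by
    rw [← (Cfsg.Inn (Cfsg.PSp 2 F)).card_mul_index, CfsgLib.U62Cent.inn_index_two hF]
    congr 1
    haveI := CfsgLib.U62Cent.psp_simple hF
    refine (Nat.card_congr (MonoidHom.ofInjective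
      (f := (MulAut.conj : Cfsg.PSp 2 F →* MulAut (Cfsg.PSp 2 F))) ?_).toEquiv).symm
    refine (MonoidHom.ker_eq_bot_iff _).1
      ((IsSimpleGroup.eq_bot_or_eq_top_of_normal _ inferInstance).resolve_right fun e => ?_)
    have hab : ∀ a b : Cfsg.PSp 2 F, a * b = b * a := fun a b => by
      have := congrArg (fun f : MulAut (Cfsg.PSp 2 F) => f b) (MonoidHom.mem_ker.1 (e ▸ mem_top a :
        a ∈ (MulAut.conj : Cfsg.PSp 2 F →* MulAut (Cfsg.PSp 2 F)).ker))
      exact mul_inv_eq_iff_eq_mul.1 this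
    have hJ2 : (H.emb 1 : G) * H.S 1 = H.S 1 * H.emb 1 := by
      have := congrArg φ.symm (hab (φ ⟨_, hJ 1⟩) (φ ⟨_, hS 1⟩))
      simpa [← map_mul] using this
    have := H.S_act 1 1
    rw [← hJ2, mul_inv_cancel_right] at this
    exact absurd (H.emb_inj this) (by decide +kernel)
  haveI : Finite (MulAut (Cfsg.PSp 2 F)) := Finite.of_injective (fun f => (f : Cfsg.PSp 2 F → Cfsg.PSp 2 F))
    DFunLike.coe_injective
  exact ⟨MulEquiv.ofBijective _ (hinj.bijective_of_nat_card_le (by rw [hcardG, hcardA]))⟩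

end Hyp

end CfsgLib.PSpFourRec
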