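import Cfsg.Agent.PSpFourRec.CaseBLocal
import Cfsg.Agent.S3805

/-!
# A symmetric group of degree six in the centralizer of the basis vector: the normalizer of the
# elementary group of the centralizer of the transposition
-/

set_option autoImplicit false
set_option maxRecDepth 100000
set_option synthInstance.maxSize 100000
set_option linter.style.haveILetI false
set_option linter.unusedSectionVars false

namespace CfsgLib.PSpFourRec

open CfsgLib.AltNine CfsgLib.PSpFourThree Subgroup TwoModel Equiv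
open CfsgLib.ThreeSymNine (Mat app mm pmat dmat mono pa pm pinv dig sm nv_nv pa_table app_pmat app_one
  ext_app allSigns dx du db pd bc mono_tables)
open CfsgLib.ThreeLocalNine (p2 p3)
open CfsgLib.ThreeSymNine.Six (tp)

attribute [local instance 10000] List.decidableBAll List.decidableBEx

universe u

theorem norm_tables : (∀ τ : Perm (Fin 6), veP τ → ∃ v : Fin 4, τ = vrep v ∨ τ = vrep v * tp) ∧
    (∀ i : Fin 3, ∀ v : Fin 4, veP ((p2 * p3) ^ (i : ℕ) * vrep v * ((p2 * p3) ^ (i : ℕ))⁻¹)) ∧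
    (∀ σ : Perm (Fin 6), σ * tp = tp * σ → ∃ v : Fin 4, ∃ b c : Fin 2, ∃ i : Fin 3,
      σ = vrep v * tp ^ (c : ℕ) * (p2 * p3) ^ (i : ℕ) * (swap 0 1 * swap 3 4) ^ (b : ℕ)) ∧
    (∀ v, app (mono 0 1) v = v → ∃ i j : Fin 3, v = av (sm i 13) (sm j 9)) ∧
    av 9 4 = 13 ∧ app (mono 0 1) 13 = 13 ∧ app (mono 0 1) 9 = 9 ∧
    app (mono 4 0) 13 ≠ 13 ∧ app (mono 3 0) 13 ≠ 13 ∧ app (mono 7 0) 13 ≠ 13 ∧
    (∀ k i : Fin 3, app (mono 0 1) (av (sm k 9) (sm i 4)) = av (sm k 9) (sm i 4)) := by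
  decide +kernel

theorem mem_normalizer_of_finite {X : Type u} [Group X] [Finite X] {K : Subgroup X} {g : X}
    (h : ∀ k ∈ K, g * k * g⁻¹ ∈ K) : g ∈ normalizer (K : Set X) := by
  refine mem_normalizer_iff.2 fun k => ⟨h k, fun hk => ?_⟩
  let f : K → K := fun y => ⟨g * y * g⁻¹, h _ y.2⟩
  have hf : Function.Injective f := fun a b e => Subtype.ext
    (mul_left_cancel (mul_right_cancel (congrArg Subtype.val e)))
  obtain ⟨w, hw⟩ := Finite.surjective_of_injective hf ⟨g * k * g⁻¹, hk⟩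
  have e : g * (w : X) * g⁻¹ = g * k * g⁻¹ := congrArg Subtype.val hw
  exact mul_left_cancel (mul_right_cancel e) ▸ w.2

/-- Adjusting an element of order three modulo an elementary abelian group. -/
theorem adjust {X : Type u} [Group X] {K : Subgroup X} {c d : X} (hc : c ∈ K)
    (hdc : d * c * d⁻¹ ∈ K) (hd : d * d * d = 1) (hcd : c * d * (c * d) * (c * d) = 1)
    (hK : ∀ a ∈ K, ∀ b ∈ K, a * b = b * a) (hK2 : ∀ a ∈ K, a * a = 1) :
    d * c * d⁻¹ * (c * d) * (d * c * d⁻¹)⁻¹ = d := by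
  set k := d * c * d⁻¹ with hk
  have hki : k⁻¹ = k := inv_eq_of_mul_eq_one_right (hK2 k hdc)
  have h0 : c * k * (d * k * d⁻¹) = 1 := by
    calc c * k * (d * k * d⁻¹) = c * d * (c * d) * (c * d) * (d * d * d)⁻¹ := by rw [hk]; group
      _ = 1 := by rw [hcd, hd, inv_one, mul_one]
  rw [hki]
  calc k * (c * d) * k = k * c * (d * k * d⁻¹) * d := by group
    _ = c * k * (d * k * d⁻¹) * d := by rw [hK k hdc c hc]
    _ = d := by rw [h0, one_mul]

namespace Hyp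

variable {G : Type u} [Group G] [Finite G] {H : Hyp G} {D : Fin 8 → G} {L : Subgroup G}
  {φ : L ≃* Perm (Fin 6)} {q : Fin 4 → G}

/-- The product of the elementary group, the plane and the four group. -/
def TD (H : Hyp G) (D : Fin 8 → G) (q : Fin 4 → G) (φ : L ≃* Perm (Fin 6))
    (h : H.Two D [0, 1, 2, 3] q (fun v => lf φ (vrep v))) (x : H.Xq) : Prop :=
  ∃ k ∈ h.Kb, ∃ d ∈ H.Fix (H.S 1), ∃ s, x = k * H.bar d * H.bsig D s

theorem Six.ve_bar (hX : H.Six D L φ) (h : H.Two D [0, 1, 2, 3] q (fun v => lf φ (vrep v)))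
    {τ : Perm (Fin 6)} (hτ : veP τ) : H.bar (lf φ τ) ∈ h.Kb := by
  obtain ⟨v, hv⟩ := norm_tables.1 τ hτ
  have e : H.bar (lf φ τ) = H.bar (lf φ (vrep v)) := by
    rcases hv with rfl | rfl
    · rfl
    · exact (bar_eq (hX.lf_ve_Cz hτ) (h.e_mem v)).2 (Or.inr (by
        rw [lf_mul, hX.lf_vals.2.2.2.2.1]))
  refine h.mem_Kb.2 ⟨(0, 0, v), (show ∀ v : Fin 4, v ∈ ([0, 1, 2, 3] : List (Fin 4)) by decide) v, ?_⟩
  rw [e, h.kap_eq, h.reps.one, mul_one, h.flips.sq, one_mul, one_mul]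

theorem Six.x_pow_conj (hX : H.Six D L φ) (i : ℕ) (σ : Perm (Fin 6)) :
    H.emb 13 ^ i * lf φ σ * (H.emb 13 ^ i)⁻¹ =
      lf φ ((p2 * p3) ^ i * σ * ((p2 * p3) ^ i)⁻¹) := by
  have hx : H.emb 13 = H.emb 9 * lf φ (p2 * p3) := by
    rw [hX.lf_vals.2.2.2.2.2.2, ← H.emb_add, norm_tables.2.2.2.2.1]
  have hc : Commute (H.emb 9) (lf φ (p2 * p3)) := (hX.lf_nine _).symm
  rw [hx, hc.mul_pow, ← lf_pow]
  have h9 : Commute (H.emb 9 ^ i) (lf φ ((p2 * p3) ^ i * σ * ((p2 * p3) ^ i)⁻¹)) :=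
    (show Commute (H.emb 9) _ from (hX.lf_nine _).symm).pow_left _
  rw [lf_conj] at h9 ⊢
  calc H.emb 9 ^ i * lf φ ((p2 * p3) ^ i) * lf φ σ * (H.emb 9 ^ i * lf φ ((p2 * p3) ^ i))⁻¹
      = H.emb 9 ^ i * (lf φ ((p2 * p3) ^ i) * lf φ σ * (lf φ ((p2 * p3) ^ i))⁻¹) *
          (H.emb 9 ^ i)⁻¹ := by group
    _ = _ := by rw [h9.eq, mul_inv_cancel_right]

/-- The plane normalizes the elementary group. -/
theorem Six.fix_conj_Kb (hX : H.Six D L φ) (h : H.Two D [0, 1, 2, 3] q (fun v => lf φ (vrep v)))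
    {d : G} (hd : d ∈ H.Fix (H.S 1)) {x : H.Xq} (hx : x ∈ h.Kb) :
    H.bar d * x * (H.bar d)⁻¹ ∈ h.Kb := by
  have hF := hX.flips
  obtain ⟨⟨a, b, v⟩, -, rfl⟩ := h.mem_Kb.1 hx
  have hdC := Fix_le_Cz hd
  obtain ⟨w, hw, hdw⟩ := mem_Fix_swap hF hd
  obtain ⟨hdx, hdz⟩ := plane_comm (H := H) hw
  rw [← hdw] at hdx hdz
  obtain ⟨hdx', hdz'⟩ : (D 4 * d * D 4) * H.x = H.x * (D 4 * d * D 4) ∧
      (D 4 * d * D 4) * H.S 1 = H.S 1 * (D 4 * d * D 4) := by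
    rw [hdw, hF.four_emb]
    exact plane_comm (qP_conj_four w hw).1
  have h4 := hF.mem_Cz' (d := 4) (by decide)
  have hbC : D 4 * q b * D 4 ∈ H.Cz := mul_mem (mul_mem h4 (h.q_mem b)) h4
  have hqa : d * q a * d⁻¹ ∈ H.Q1 := conj_Q1 hdx hdz (h.reps.mem a)
  have hqb : D 4 * d * D 4 * q b * (D 4 * d * D 4)⁻¹ ∈ H.Q1 := conj_Q1 hdx' hdz' (h.reps.mem b)
  have he : H.bar (d * lf φ (vrep v) * d⁻¹) ∈ h.Kb := by
    obtain ⟨i, j, rfl⟩ := norm_tables.2.2.2.1 w hw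
    have e : d * lf φ (vrep v) * d⁻¹ = H.emb 13 ^ (i : ℕ) * lf φ (vrep v) * (H.emb 13 ^ (i : ℕ))⁻¹ := by
      rw [hdw, H.emb_add, H.emb_sm, H.emb_sm]
      have hc : Commute (H.emb 9 ^ (j : ℕ)) (lf φ (vrep v)) :=
        (show Commute (H.emb 9) _ from (hX.lf_nine _).symm).pow_left _
      calc H.emb 13 ^ (i : ℕ) * H.emb 9 ^ (j : ℕ) * lf φ (vrep v) *
            (H.emb 13 ^ (i : ℕ) * H.emb 9 ^ (j : ℕ))⁻¹
          = H.emb 13 ^ (i : ℕ) * (H.emb 9 ^ (j : ℕ) * lf φ (vrep v)) * (H.emb 9 ^ (j : ℕ))⁻¹ *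
              (H.emb 13 ^ (i : ℕ))⁻¹ := by group
        _ = _ := by rw [hc.eq]; group
    rw [e, hX.x_pow_conj]
    exact hX.ve_bar h (norm_tables.2.1 i v)
  have hB := (h.bar_Q1_mem hqb).2
  rw [show D 4 * (D 4 * d * D 4 * q b * (D 4 * d * D 4)⁻¹) * D 4 =
      d * (D 4 * q b * D 4) * d⁻¹ by
    simp only [mul_inv_rev, hF.inv, ← mul_assoc]
    rw [hF.sq, one_mul, mul_assoc _ (D 4) (D 4), hF.sq, mul_one]] at hB
  have hA := (h.bar_Q1_mem hqa).1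
  have hb1 : ∀ {u : G}, u ∈ H.Cz → H.bar (d * u * d⁻¹) = H.bar d * H.bar u * (H.bar d)⁻¹ :=
    fun hu => by rw [bar_mul (mul_mem hdC hu) (inv_mem hdC), bar_mul hdC hu, bar_inv hdC]
  rw [hb1 (h.q_mem a)] at hA
  rw [hb1 hbC] at hB
  rw [hb1 (h.e_mem v)] at he
  have := mul_mem (mul_mem hA hB) he
  rw [h.kap_eq, bar_mul (mul_mem (h.q_mem a) hbC) (h.e_mem v), bar_mul (h.q_mem a) hbC]
  convert this using 1
  group

theorem Two.bsig_conj_inv {Vs : List (Fin 4)} {e : Fin 4 → G} (h : H.Two D Vs q e) (s : Fin 4) :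
    (H.bsig D s)⁻¹ = H.bsig D s := inv_eq_of_mul_eq_one_right (h.bsig_sq s)

/-- The elements centralizing an element of the plane. -/
theorem Six.part_TD (hX : H.Six D L φ) (h : H.Two D [0, 1, 2, 3] q (fun v => lf φ (vrep v)))
    {r : Fin 27} (hr : r ∈ ([13, 22, 9, 4] : List (Fin 27))) {g : G} (hg : g ∈ H.Cz)
    (hgr : g * H.emb r = H.emb r * g) : TD H D q φ h (H.bar g) := by
  have hF := hX.flips
  have hz := mem_Cz.1 hg
  have h4 := hF.mem_Cz' (d := 4) (by decide)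
  have hemb : ∀ v, app (mono 0 1) v = v → H.emb v ∈ H.Fix (H.S 1) := fun v hv =>
    (H.mem_Fix hF.named.1).2 ⟨v, hv, rfl⟩
  have hx : ∀ g ∈ H.Cz, g * H.x = H.x * g →
      ∃ u ∈ H.Q1, ∃ d ∈ H.Fix (H.S 1), g = u * d := by
    intro g hg hgx
    obtain ⟨t, ht, rfl⟩ := exists_par hgx (mem_Cz.1 hg)
    obtain ⟨v, hv, hu⟩ := zP_split t ht
    refine ⟨H.par (tmul t (tE v)), ⟨_, hu, rfl⟩, (H.emb v)⁻¹, inv_mem (hemb v hv), ?_⟩
    rw [H.par_mul]
    exact (mul_inv_cancel_right _ _).symm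
  simp only [List.mem_cons, List.not_mem_nil, or_false] at hr
  rcases hr with rfl | rfl | rfl | rfl
  · obtain ⟨u, hu, d, hd, rfl⟩ := hx g hg hgr
    refine ⟨H.bar u, (h.bar_Q1_mem hu).1, d, hd, 0, ?_⟩
    rw [show H.bsig D 0 = 1 from rfl, mul_one, bar_mul (mem_Cz.2 (Q1_cent hu).2) (Fix_le_Cz hd)]
  · obtain ⟨u, hu, d, hd, hud⟩ := hx (D 4 * g * D 4) (mul_mem (mul_mem h4 hg) h4) (by
      have := (show Commute g (H.emb 22) from hgr).map (MulAut.conj (D 4)).toMonoidHom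
      simp only [MulEquiv.coe_toMonoidHom, MulAut.conj_apply, hF.inv, hF.four_emb,
        show app (mono 4 0) 22 = (13 : Fin 27) by decide +kernel] at this
      exact this.eq)
    have huC : u ∈ H.Cz := mem_Cz.2 (Q1_cent hu).2
    have hd' := h.fix_conj_four hd
    refine ⟨H.bar (D 4 * u * D 4), (h.bar_Q1_mem hu).2, _, hd', 0, ?_⟩
    rw [show H.bsig D 0 = 1 from rfl, mul_one, ← bar_mul (mul_mem (mul_mem h4 huC) h4)
      (Fix_le_Cz hd')]
    congr 1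
    calc g = D 4 * (D 4 * g * D 4) * D 4 := (hF.conj_four g).symm
      _ = _ := by
        rw [hud]
        simp only [← mul_assoc]
        rw [mul_assoc (D 4 * u) (D 4) (D 4), hF.sq, mul_one]
  · obtain ⟨k, l, hl, hgl⟩ := hX.split g hgr
    obtain ⟨-, -, hcent, -, -, -, h99, -, -, -, hfix⟩ := norm_tables
    have hkC : H.emb (sm k 9) ∈ H.Cz := by
      rw [H.emb_sm]; exact pow_mem (Fix_le_Cz (hemb 9 h99)) _
    have hlC : l ∈ H.Cz := by
      rw [show l = (H.emb (sm k 9))⁻¹ * g by rw [hgl, inv_mul_cancel_left]]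
      exact mul_mem (inv_mem hkC) hg
    have hv := hX.lf_vals
    obtain ⟨v, b, c, i, hσ⟩ := hcent (φ ⟨l, hl⟩) (lf_inj φ (by
      rw [lf_mul, lf_mul, lf_app φ hl, hv.2.2.2.2.1, mem_Cz.1 hlC]))
    have hlv := congrArg (lf φ) hσ
    rw [lf_app φ hl, lf_mul, lf_mul, lf_mul, lf_pow, lf_pow, lf_pow, hv.2.2.2.2.1,
      hv.2.2.2.2.2.2, hv.2.2.2.2.2.1, ← H.emb_sm] at hlv
    set τ := lf φ (vrep v) * H.S 1 ^ (c : ℕ) with hτ
    have hτC : τ ∈ H.Cz := mul_mem (h.e_mem v) (pow_mem (mem_Cz.2 rfl) _)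
    have hτK : H.bar τ ∈ h.Kb := by
      rw [bar_mul (h.e_mem v) (pow_mem (mem_Cz.2 rfl) _), bar_pow (mem_Cz.2 rfl), bar_z, one_pow,
        mul_one]
      exact hX.ve_bar h (vrep_tables.1 v)
    have hd : H.emb (sm k 9) * H.emb (sm i 4) ∈ H.Fix (H.S 1) := by
      rw [← H.emb_add]; exact hemb _ (hfix k i)
    have hcomm : Commute (H.emb (sm k 9)) τ := by
      have h1 : Commute (H.emb 9) τ := (show Commute (H.emb 9) (lf φ (vrep v)) from
        (hX.lf_nine _).symm).mul_right (Commute.pow_right (by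
          rw [← hv.2.2.2.2.1]; exact (hX.lf_nine _).symm) _)
      rw [H.emb_sm]; exact h1.pow_left _
    have h3 := hF.mem_Cz' (d := 3) (by decide)
    have hg' : g = τ * (H.emb (sm k 9) * H.emb (sm i 4)) * D 3 ^ (b : ℕ) := by
      rw [hgl, hlv]
      calc H.emb (sm k 9) * (τ * H.emb (sm i 4) * D 3 ^ (b : ℕ))
          = (H.emb (sm k 9) * τ) * H.emb (sm i 4) * D 3 ^ (b : ℕ) := by group
        _ = _ := by rw [hcomm.eq]; group
    refine ⟨H.bar τ, hτK, _, hd, ![0, 2] b, ?_⟩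
    rw [hg', bar_mul (mul_mem hτC (Fix_le_Cz hd)) (pow_mem h3 _), bar_mul hτC (Fix_le_Cz hd),
      bar_pow h3]
    fin_cases b <;> simp [bsig]
  · obtain ⟨v, d, a, rfl⟩ := hF.mem_N_iff.1
      (hF.four_le (v := 4) (by decide) (mem_centralizer_singleton_iff.2 hgr))
    obtain ⟨hv, hd, ha⟩ := hF.el_mem_Cz hz
    have hvC := Fix_le_Cz (hemb v hv)
    have hSC : H.S a ∈ H.Cz ∧ H.bar (H.S a) = 1 := by
      simp only [List.mem_cons, List.not_mem_nil, or_false] at ha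
      rcases ha with rfl | rfl
      · rw [H.S_zero]; exact ⟨one_mem _, bar_one⟩
      · exact ⟨mem_Cz.2 rfl, bar_z⟩
    have hDC : D d ∈ H.Cz ∧ ∃ s, H.bar (D d) = H.bsig D s := by
      simp only [List.mem_cons, List.not_mem_nil, or_false] at hd
      rcases hd with rfl | rfl | rfl | rfl
      · rw [hF.zero]; exact ⟨one_mem _, 0, bar_one⟩
      · exact ⟨hF.mem_Cz' (by decide), 2, rfl⟩
      · exact ⟨h4, 1, rfl⟩
      · exact ⟨hF.mem_Cz' (by decide), 3, rfl⟩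
    obtain ⟨hDC, s, hs⟩ := hDC
    refine ⟨1, one_mem _, _, hemb v hv, s, ?_⟩
    rw [one_mul, el, bar_mul (mul_mem hvC hDC) hSC.1, bar_mul hvC hDC, hSC.2, mul_one, hs]

/-- The exponent. -/
theorem Six.TD_pow (hX : H.Six D L φ) (h : H.Two D [0, 1, 2, 3] q (fun v => lf φ (vrep v)))
    {x : H.Xq} (hx : TD H D q φ h x) : x ^ 12 = 1 := by
  obtain ⟨k, hk, d, hd, s, rfl⟩ := hx
  have hF := hX.flips
  have h4 := hF.mem_Cz' (d := 4) (by decide)
  have hdC := Fix_le_Cz hd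
  set S := H.bsig D s
  have hS2 : S * S = 1 := h.bsig_sq s
  have hdS : ∃ d' ∈ H.Fix (H.S 1), S * H.bar d * S = H.bar d' := by
    obtain ⟨e, he, hse⟩ : ∃ e ∈ ([0, 3, 4, 7] : List (Fin 8)), S = H.bar (D e) := by
      fin_cases s
      · exact ⟨0, by decide, by rw [hF.zero, bar_one]; rfl⟩
      · exact ⟨4, by decide, rfl⟩
      · exact ⟨3, by decide, rfl⟩
      · exact ⟨7, by decide, rfl⟩
    obtain ⟨w, hw, rfl⟩ := mem_Fix_swap hF hd
    have heC : D e ∈ H.Cz := by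
      simp only [List.mem_cons, List.not_mem_nil, or_false] at he
      rcases he with rfl | rfl | rfl | rfl
      · rw [hF.zero]; exact one_mem _
      all_goals exact hF.mem_Cz' (by decide)
    refine ⟨H.emb (app (mono e 0) w), (H.mem_Fix hF.named.1).2 ⟨_,
      (show ∀ e ∈ ([0, 3, 4, 7] : List (Fin 8)), ∀ w, app (mono 0 1) w = w →
        app (mono 0 1) (app (mono e 0) w) = app (mono e 0) w by decide +kernel) e he w hw, rfl⟩, ?_⟩
    rw [hse, ← hF.ind_flip e w, hF.inv, bar_mul (mul_mem heC hdC) heC, bar_mul heC hdC]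
  obtain ⟨d', hd', hdd⟩ := hdS
  have hd'C := Fix_le_Cz hd'
  have hK2 : ∀ y ∈ h.Kb, y * y = 1 := fun y hy => by
    obtain ⟨k', -, rfl⟩ := h.mem_Kb.1 hy
    rw [h.kap_add, (act_facts 0 k').2.2.2.1]
    simp only [kap, bA, bB]
    rw [h.reps.one, show lf φ (vrep 0) = 1 from h.e_zero, bar_one, mul_one, mul_one, one_mul,
      h.four_sq]
  set k' := k * (H.bar d * (S * k * S) * (H.bar d)⁻¹)
  have hk' : k' ∈ h.Kb := mul_mem hk (hX.fix_conj_Kb h hd (h.bsig_conj_Kb s hk))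
  set δ := H.bar d * H.bar d'
  have hsq : (k * H.bar d * S) ^ 2 = k' * δ := by
    rw [pow_two]
    simp only [k', δ, ← hdd]
    calc k * H.bar d * S * (k * H.bar d * S)
        = k * (H.bar d * (S * k * S) * (H.bar d)⁻¹) * H.bar d * (S⁻¹ * H.bar d * S) := by group
      _ = _ := by rw [show S⁻¹ = S from h.bsig_conj_inv s]; group
  have hδ : δ = H.bar (d * d') := (bar_mul hdC hd'C).symm
  have hdd' : d * d' ∈ H.Fix (H.S 1) := mul_mem hd hd'
  have hδK : ∀ y ∈ h.Kb, δ * y * δ⁻¹ ∈ h.Kb := fun y hy => hδ ▸ hX.fix_conj_Kb h hdd' hy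
  have hδ3 : δ * δ * δ = 1 := by
    rw [hδ, ← bar_mul (Fix_le_Cz hdd') (Fix_le_Cz hdd'),
      ← bar_mul (mul_mem (Fix_le_Cz hdd') (Fix_le_Cz hdd')) (Fix_le_Cz hdd'),
      show d * d' * (d * d') * (d * d') = 1 by
        rw [← pow_two, ← pow_succ]; exact H.J_cube hdd'.1, bar_one]
  rw [show 12 = 2 * (3 * 2) from rfl, pow_mul, hsq, pow_mul,
    show (k' * δ) ^ 3 = k' * (δ * k' * δ⁻¹) * (δ * (δ * k' * δ⁻¹) * δ⁻¹) * (δ * δ * δ) by
      simp only [pow_succ, pow_zero, one_mul]; group,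
    hδ3, mul_one, pow_two]
  exact hK2 _ (mul_mem (mul_mem hk' (hδK _ hk')) (hδK _ (hδK _ hk')))

set_option maxHeartbeats 1000000 in
/-- The normalizer of the elementary group is as in the model. -/
theorem Six.nk_all (hX : H.Six D L φ) (h : H.Two D [0, 1, 2, 3] q (fun v => lf φ (vrep v))) :
    h.NK := by
  classical
  haveI : Fact (Nat.Prime 3) := ⟨Nat.prime_three⟩
  have hF := hX.flips
  set K := h.Kb
  set Nk := normalizer (K : Set H.Xq)
  haveI hKn : (K.subgroupOf Nk).Normal := normal_subgroupOf_of_le_normalizer le_rfl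
  set π := QuotientGroup.mk' (K.subgroupOf Nk) with hπdef
  have hπs : Function.Surjective π := QuotientGroup.mk'_surjective _
  have hπ : ∀ {a b : Nk}, π a = π b ↔ (a : H.Xq) * (b : H.Xq)⁻¹ ∈ K := fun {a b} => by
    rw [← mul_inv_eq_one, ← map_inv, ← map_mul]
    exact (QuotientGroup.eq_one_iff _).trans mem_subgroupOf
  have hK2 : ∀ y ∈ K, y * y = 1 := fun y hy => by
    obtain ⟨k', -, rfl⟩ := h.mem_Kb.1 hy
    rw [h.kap_add, (act_facts 0 k').2.2.2.1]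
    simp only [kap, bA, bB]
    rw [h.reps.one, show lf φ (vrep 0) = 1 from h.e_zero, bar_one, mul_one, mul_one, one_mul,
      h.four_sq]
  have hKc : ∀ a ∈ K, ∀ b ∈ K, a * b = b * a := fun a ha b hb => h.Kb_comm ha hb
  have hsN : ∀ s, H.bsig D s ∈ Nk := fun s => h.Kb_le_normalizer (h.bsig_mem s)
  have hfN : ∀ f ∈ H.Fix (H.S 1), H.bar f ∈ Nk := fun f hf =>
    mem_normalizer_of_finite fun y hy => hX.fix_conj_Kb h hf hy
  have hf3 : ∀ f ∈ H.Fix (H.S 1), H.bar f * H.bar f * H.bar f = 1 := fun f hf => by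
    rw [← bar_mul (Fix_le_Cz hf) (Fix_le_Cz hf),
      ← bar_mul (mul_mem (Fix_le_Cz hf) (Fix_le_Cz hf)) (Fix_le_Cz hf),
      show f * f * f = 1 by rw [← pow_two, ← pow_succ]; exact H.J_cube hf.1, bar_one]
  have h3lift : ∀ {g f : G}, g ∈ H.Cz → f ∈ H.Fix (H.S 1) → g ^ 3 = 1 → H.bar g = H.bar f →
      g = f := by
    intro g f hg hf hg3 hgf
    rcases (bar_eq hg (Fix_le_Cz hf)).1 hgf with e | e
    · exact e
    · exfalso
      have hc : Commute f (H.S 1) := mem_Cz.1 (Fix_le_Cz hf)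
      rw [e, hc.mul_pow, H.J_cube hf.1, one_mul, pow_succ, pow_two, S_sq, one_mul] at hg3
      exact S_ne_one hg3
  have hinj : ∀ f ∈ H.Fix (H.S 1), ∀ f' ∈ H.Fix (H.S 1),
      H.bar f * (H.bar f')⁻¹ ∈ K → f = f' := by
    intro f hf f' hf' hk
    have hff := mul_mem hf (inv_mem hf')
    rw [← bar_inv (Fix_le_Cz hf'), ← bar_mul (Fix_le_Cz hf) (inv_mem (Fix_le_Cz hf'))] at hk
    have h1 : H.bar (f * f'⁻¹) = 1 := by
      have := hf3 _ hff
      rwa [hK2 _ hk, one_mul] at this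
    exact mul_inv_eq_one.1 (h3lift (Fix_le_Cz hff) (one_mem _) (H.J_cube hff.1)
      (h1.trans bar_one.symm))
  have hemb : ∀ v, app (mono 0 1) v = v → H.emb v ∈ H.Fix (H.S 1) := fun v hv =>
    (H.mem_Fix hF.named.1).2 ⟨v, hv, rfl⟩
  -- the Sylow subgroup
  obtain ⟨Q, hQ, hQN⟩ := hF.sylow_plane (d := 0) (a := 1) (by decide) hF.named.1
  have hmk : Function.Surjective (QuotientGroup.mk' H.zq) := QuotientGroup.mk'_surjective _
  set P0 := Q.mapSurjective hmk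
  have hmem : ∀ {x : H.Xq}, x ∈ (P0 : Subgroup H.Xq) ↔ ∃ f ∈ H.Fix (H.S 1), H.bar f = x := by
    intro x
    show x ∈ ((Q.mapSurjective hmk : Sylow 3 H.Xq) : Subgroup H.Xq) ↔ _
    rw [Sylow.coe_mapSurjective, hQ]
    constructor
    · rintro ⟨g, hg, rfl⟩
      exact ⟨g, mem_subgroupOf.1 hg, bar_mk g⟩
    · rintro ⟨f, hf, rfl⟩
      exact ⟨⟨f, Fix_le_Cz hf⟩, mem_subgroupOf.2 hf, (bar_mk ⟨f, Fix_le_Cz hf⟩).symm⟩
  have hP0N : (P0 : Subgroup H.Xq) ≤ Nk := fun x hx => by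
    obtain ⟨f, hf, rfl⟩ := hmem.1 hx
    exact hfN f hf
  set T : Sylow 3 (Nk ⧸ K.subgroupOf Nk) := (P0.subtype hP0N).mapSurjective hπs with hT
  let F : H.Fix (H.S 1) → Nk ⧸ K.subgroupOf Nk := fun f => π ⟨H.bar f, hfN f f.2⟩
  have hTm : ∀ {y}, y ∈ (T : Subgroup (Nk ⧸ K.subgroupOf Nk)) ↔ ∃ f, F f = y := by
    intro y
    rw [hT, Sylow.coe_mapSurjective, Sylow.coe_subtype]
    constructor
    · rintro ⟨w, hw, rfl⟩
      obtain ⟨f, hf, hfw⟩ := hmem.1 (mem_subgroupOf.1 hw)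
      exact ⟨⟨f, hf⟩, congrArg π (Subtype.ext hfw)⟩
    · rintro ⟨f, rfl⟩
      exact ⟨_, mem_subgroupOf.2 (hmem.2 ⟨f, f.2, rfl⟩), rfl⟩
  have hFinj : Function.Injective F := fun a b e => Subtype.ext (hinj a a.2 b b.2 (hπ.1 e))
  have hTcard : Nat.card T = 9 := by
    rw [← type_tables.2.2.2.1, ← H.card_Fix hF.named.1]
    exact (Nat.card_congr (Equiv.ofBijective
      (fun f => (⟨F f, hTm.2 ⟨f, rfl⟩⟩ : (T : Subgroup (Nk ⧸ K.subgroupOf Nk))))
      ⟨fun a b e => hFinj (congrArg Subtype.val e), fun y => by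
        obtain ⟨f, hf⟩ := hTm.1 y.2
        exact ⟨f, Subtype.ext hf⟩⟩)).symm
  have hTab : ∀ a ∈ (T : Subgroup (Nk ⧸ K.subgroupOf Nk)),
      ∀ b ∈ (T : Subgroup (Nk ⧸ K.subgroupOf Nk)), a * b = b * a := by
    intro a ha b hb
    obtain ⟨f, rfl⟩ := hTm.1 ha
    obtain ⟨f', rfl⟩ := hTm.1 hb
    show π _ * π _ = π _ * π _
    rw [← map_mul, ← map_mul]
    refine congrArg π (Subtype.ext ?_)
    show H.bar f * H.bar f' = H.bar f' * H.bar f
    rw [← bar_mul (Fix_le_Cz f.2) (Fix_le_Cz f'.2), ← bar_mul (Fix_le_Cz f'.2) (Fix_le_Cz f.2),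
      H.J_comm f.2.1 f'.2.1]
  -- moving a conjugate exactly
  have hmove : ∀ n ∈ Nk, ∀ f ∈ H.Fix (H.S 1), ∀ f' ∈ H.Fix (H.S 1),
      n * H.bar f * n⁻¹ * (H.bar f')⁻¹ ∈ K →
      ∃ k ∈ K, k * n * H.bar f * (k * n)⁻¹ = H.bar f' ∧
        ∀ y : H.Xq, n * H.bar f * n⁻¹ * y = y * (n * H.bar f * n⁻¹) →
          H.bar f' * y = y * H.bar f' → k * y = y * k := by
    intro n _ f hf f' hf' hc
    set d := H.bar f'
    set c := n * H.bar f * n⁻¹ * d⁻¹ with hcdef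
    have hdc : d * c * d⁻¹ ∈ K := hX.fix_conj_Kb h hf' hc
    refine ⟨d * c * d⁻¹, hdc, ?_, fun y h1 h2 => ?_⟩
    · have hcd : c * d = n * H.bar f * n⁻¹ := by rw [hcdef, inv_mul_cancel_right]
      calc d * c * d⁻¹ * n * H.bar f * (d * c * d⁻¹ * n)⁻¹
          = d * c * d⁻¹ * (n * H.bar f * n⁻¹) * (d * c * d⁻¹)⁻¹ := by group
        _ = _ := by
          rw [← hcd]
          refine adjust hc hdc (hf3 f' hf') ?_ hKc hK2
          rw [hcd]
          calc n * H.bar f * n⁻¹ * (n * H.bar f * n⁻¹) * (n * H.bar f * n⁻¹)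
              = n * (H.bar f * H.bar f * H.bar f) * n⁻¹ := by group
            _ = 1 := by rw [hf3 f hf, mul_one, mul_inv_cancel]
    · have hcy : Commute c y := by
        rw [hcdef]
        exact (show Commute (n * H.bar f * n⁻¹) y from h1).mul_left
          (show Commute d y from h2).inv_left
      exact (((show Commute d y from h2).mul_left hcy).mul_left
        (show Commute d y from h2).inv_left).eq
  -- lifting a commutation
  have hcent : ∀ f ∈ H.Fix (H.S 1), ∀ n : H.Xq, n * H.bar f * n⁻¹ = H.bar f →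
      ∃ g ∈ H.Cz, H.bar g = n ∧ g * f = f * g := by
    intro f hf n hn
    obtain ⟨g, hg, rfl⟩ := bar_surjective n
    have hfC := Fix_le_Cz hf
    refine ⟨g, hg, rfl, mul_inv_eq_iff_eq_mul.1 (h3lift
      (mul_mem (mul_mem hg hfC) (inv_mem hg)) hf
      (by rw [conj_pow, H.J_cube hf.1, mul_one, mul_inv_cancel]) ?_)⟩
    rw [bar_mul (mul_mem hg hfC) (inv_mem hg), bar_mul hg hfC, bar_inv hg, hn]
  -- the elements of the product in the quotient
  have hTD : ∀ n (hn : n ∈ Nk), TD H D q φ h n → ∃ f s, π ⟨n, hn⟩ = F f * π ⟨_, hsN s⟩ := by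
    rintro n hn ⟨k, hk, d, hd, s, rfl⟩
    refine ⟨⟨d, hd⟩, s, ?_⟩
    show _ = π _ * π _
    rw [← map_mul, hπ]
    show k * H.bar d * H.bsig D s * (H.bar d * H.bsig D s)⁻¹ ∈ K
    rwa [show k * H.bar d * H.bsig D s * (H.bar d * H.bsig D s)⁻¹ = k by group]
  have hflip : ∀ s : Fin 4, ∃ e ∈ ([0, 3, 4, 7] : List (Fin 8)), D e ∈ H.Cz ∧
      H.bsig D s = H.bar (D e) ∧ (s ≠ 0 → app (mono e 0) 13 ≠ 13) := by
    intro s
    obtain ⟨-, -, -, -, -, -, -, m4, m3, m7, -⟩ := norm_tables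
    fin_cases s
    · exact ⟨0, by decide, by rw [hF.zero]; exact one_mem _, by rw [hF.zero, bar_one]; rfl,
        fun e => absurd rfl e⟩
    · exact ⟨4, by decide, hF.mem_Cz' (by decide), rfl, fun _ => m4⟩
    · exact ⟨3, by decide, hF.mem_Cz' (by decide), rfl, fun _ => m3⟩
    · exact ⟨7, by decide, hF.mem_Cz' (by decide), rfl, fun _ => m7⟩
  have hsT : ∀ s, π ⟨_, hsN s⟩ ∈ normalizer ((T : Subgroup (Nk ⧸ K.subgroupOf Nk)) : Set (Nk ⧸ K.subgroupOf Nk)) := by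
    intro s
    refine mem_normalizer_of_finite fun y hy => ?_
    obtain ⟨f, rfl⟩ := hTm.1 hy
    obtain ⟨e, he, heC, hse, -⟩ := hflip s
    obtain ⟨w, hw, hfw⟩ := mem_Fix_swap hF f.2
    refine hTm.2 ⟨⟨_, hemb _ ((show ∀ e ∈ ([0, 3, 4, 7] : List (Fin 8)), ∀ w,
      app (mono 0 1) w = w → app (mono 0 1) (app (mono e 0) w) = app (mono e 0) w by
        decide +kernel) e he w hw)⟩, ?_⟩
    show π _ = π _ * π _ * (π _)⁻¹
    rw [← map_inv, ← map_mul, ← map_mul]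
    refine congrArg π (Subtype.ext ?_)
    show H.bar (H.emb (app (mono e 0) w)) = H.bsig D s * H.bar f * (H.bsig D s)⁻¹
    rw [hse, ← hF.ind_flip e w, hfw, ← bar_inv heC, ← bar_mul heC (Fix_le_Cz (hemb w hw)),
      ← bar_mul (mul_mem heC (Fix_le_Cz (hemb w hw))) (inv_mem heC)]
  have hFT : ∀ f, F f ∈ normalizer ((T : Subgroup (Nk ⧸ K.subgroupOf Nk)) : Set (Nk ⧸ K.subgroupOf Nk)) :=
    fun f => le_normalizer (hTm.2 ⟨f, rfl⟩)
  -- the normalizer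
  have hnorm : ∀ y ∈ normalizer ((T : Subgroup (Nk ⧸ K.subgroupOf Nk)) : Set (Nk ⧸ K.subgroupOf Nk)),
      ∃ f s, y = F f * π ⟨_, hsN s⟩ := by
    intro y hy
    obtain ⟨⟨n, hn⟩, rfl⟩ := hπs y
    have himg : ∀ f : H.Fix (H.S 1), ∃ f' : H.Fix (H.S 1),
        n * H.bar f * n⁻¹ * (H.bar f')⁻¹ ∈ K := by
      intro f
      obtain ⟨f', hf'⟩ := hTm.1 ((mem_normalizer_iff.1 hy (F f)).1 (hTm.2 ⟨f, rfl⟩))
      refine ⟨f', ?_⟩
      have e : π (⟨n, hn⟩ * ⟨H.bar f, hfN f f.2⟩ * ⟨n, hn⟩⁻¹) = π ⟨H.bar f', hfN f' f'.2⟩ := by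
        rw [map_mul, map_mul, map_inv]; exact hf'.symm
      exact hπ.1 e
    obtain ⟨-, -, -, hspan, -, h13, h9, -⟩ := norm_tables
    set f₁ : H.Fix (H.S 1) := ⟨H.emb 13, hemb 13 h13⟩
    set f₂ : H.Fix (H.S 1) := ⟨H.emb 9, hemb 9 h9⟩
    obtain ⟨g₁, hg₁⟩ := himg f₁
    obtain ⟨k₁, hk₁, hn₁, -⟩ := hmove n hn f₁ f₁.2 g₁ g₁.2 hg₁
    obtain ⟨g₂, hg₂⟩ := himg f₂
    set n₁ := k₁ * n
    have hg₂' : n₁ * H.bar f₂ * n₁⁻¹ * (H.bar g₂)⁻¹ ∈ K := by
      have hnd : (H.bar g₂) * k₁⁻¹ * (H.bar g₂)⁻¹ ∈ K :=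
        hX.fix_conj_Kb h g₂.2 (inv_mem hk₁)
      rw [show n₁ * H.bar f₂ * n₁⁻¹ * (H.bar g₂)⁻¹ = k₁ * (n * H.bar f₂ * n⁻¹ * (H.bar g₂)⁻¹) *
        (H.bar g₂ * k₁⁻¹ * (H.bar g₂)⁻¹) by simp only [n₁]; group]
      exact mul_mem (mul_mem hk₁ hg₂) hnd
    have hn₁N : n₁ ∈ Nk := mul_mem (le_normalizer hk₁) hn
    obtain ⟨k₂, hk₂, hn₂, hcom⟩ := hmove n₁ hn₁N f₂ f₂.2 g₂ g₂.2 hg₂'
    have hff : ∀ a b : H.Fix (H.S 1), H.bar a * H.bar b = H.bar b * H.bar a := fun a b => by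
      rw [← bar_mul (Fix_le_Cz a.2) (Fix_le_Cz b.2), ← bar_mul (Fix_le_Cz b.2) (Fix_le_Cz a.2),
        H.J_comm a.2.1 b.2.1]
    have hk₂' : k₂ * H.bar g₁ = H.bar g₁ * k₂ := hcom _ (by
      rw [← hn₁]
      calc n₁ * H.bar f₂ * n₁⁻¹ * (n₁ * H.bar f₁ * n₁⁻¹)
          = n₁ * (H.bar f₂ * H.bar f₁) * n₁⁻¹ := by group
        _ = n₁ * (H.bar f₁ * H.bar f₂) * n₁⁻¹ := by rw [hff]
        _ = _ := by group) (hff g₂ g₁)
    set n₂ := k₂ * n₁
    have hn₂' : n₂ * H.bar f₁ * n₂⁻¹ = H.bar g₁ := by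
      calc n₂ * H.bar f₁ * n₂⁻¹ = k₂ * (n₁ * H.bar f₁ * n₁⁻¹) * k₂⁻¹ := by simp only [n₂]; group
        _ = k₂ * H.bar g₁ * k₂⁻¹ := by rw [hn₁]
        _ = _ := by rw [hk₂', mul_inv_cancel_right]
    obtain ⟨g, hg, hgn⟩ := bar_surjective n₂
    have hgconj : ∀ f g' : H.Fix (H.S 1), n₂ * H.bar f * n₂⁻¹ = H.bar g' →
        g * f * g⁻¹ = (g' : G) := by
      intro f g' e
      have hfC := Fix_le_Cz f.2
      refine h3lift (mul_mem (mul_mem hg hfC) (inv_mem hg)) g'.2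
        (by rw [conj_pow, H.J_cube f.2.1, mul_one, mul_inv_cancel]) ?_
      rw [bar_mul (mul_mem hg hfC) (inv_mem hg), bar_mul hg hfC, bar_inv hg, hgn, e]
    have e13 := hgconj f₁ g₁ hn₂'
    have e9 := hgconj f₂ g₂ hn₂
    have hall : ∀ f ∈ H.Fix (H.S 1), g * f * g⁻¹ ∈ H.Fix (H.S 1) := by
      intro f hf
      obtain ⟨v, hv, rfl⟩ := mem_Fix_swap hF hf
      obtain ⟨i, j, rfl⟩ := hspan v hv
      rw [H.emb_add, H.emb_sm, H.emb_sm,
        show g * (H.emb 13 ^ (i : ℕ) * H.emb 9 ^ (j : ℕ)) * g⁻¹ =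
          (g * H.emb 13 ^ (i : ℕ) * g⁻¹) * (g * H.emb 9 ^ (j : ℕ) * g⁻¹) by group,
        ← conj_pow, ← conj_pow]
      exact mul_mem (pow_mem (e13 ▸ g₁.2) _) (pow_mem (e9 ▸ g₂.2) _)
    have hgN : g ∈ H.N := hQN ⟨g, hg⟩ (mem_normalizer_of_finite fun y hy => by
      rw [hQ, mem_subgroupOf] at hy ⊢
      exact hall _ hy)
    obtain ⟨v, d, a, rfl⟩ := hF.mem_N_iff.1 hgN
    obtain ⟨hv, hd, ha⟩ := hF.el_mem_Cz (mem_Cz.1 hg)
    have hkk : n = (k₂ * k₁)⁻¹ * H.bar (H.el D v d a) := by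
      rw [hgn]; simp only [n₂, n₁]; group
    have hvC := Fix_le_Cz (hemb v hv)
    have hSC : H.S a ∈ H.Cz ∧ H.bar (H.S a) = 1 := by
      simp only [List.mem_cons, List.not_mem_nil, or_false] at ha
      rcases ha with rfl | rfl
      · rw [H.S_zero]; exact ⟨one_mem _, bar_one⟩
      · exact ⟨mem_Cz.2 rfl, bar_z⟩
    have hDC : D d ∈ H.Cz ∧ ∃ s, H.bar (D d) = H.bsig D s := by
      simp only [List.mem_cons, List.not_mem_nil, or_false] at hd
      rcases hd with rfl | rfl | rfl | rfl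
      · rw [hF.zero]; exact ⟨one_mem _, 0, bar_one⟩
      · exact ⟨hF.mem_Cz' (by decide), 2, rfl⟩
      · exact ⟨hF.mem_Cz' (by decide), 1, rfl⟩
      · exact ⟨hF.mem_Cz' (by decide), 3, rfl⟩
    obtain ⟨hDC, s, hs⟩ := hDC
    refine hTD n hn ⟨(k₂ * k₁)⁻¹, inv_mem (mul_mem hk₂ hk₁), _, hemb v hv, s, ?_⟩
    rw [hkk, el, bar_mul (mul_mem hvC hDC) hSC.1, bar_mul hvC hDC, hSC.2, mul_one, hs, mul_assoc]
  -- the four group moves the Sylow subgroup
  have hmoved : ∀ s, (∀ y ∈ (T : Subgroup (Nk ⧸ K.subgroupOf Nk)),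
      π ⟨_, hsN s⟩ * y = y * π ⟨_, hsN s⟩) → s = 0 := by
    intro s hs
    by_contra hs0
    obtain ⟨e, he, heC, hse, hmv⟩ := hflip s
    obtain ⟨-, -, -, -, -, h13, -⟩ := norm_tables
    have h1 := hs _ (hTm.2 ⟨⟨H.emb 13, hemb 13 h13⟩, rfl⟩)
    change π _ * π _ = π _ * π _ at h1
    rw [← map_mul, ← map_mul, hπ] at h1
    change H.bsig D s * H.bar (H.emb 13) * (H.bar (H.emb 13) * H.bsig D s)⁻¹ ∈ K at h1
    refine hmv hs0 (H.emb_inj (hinj _ (hemb _ ((show ∀ e ∈ ([0, 3, 4, 7] : List (Fin 8)),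
      app (mono 0 1) (app (mono e 0) 13) = app (mono e 0) 13 by decide +kernel) e he)) _
        (hemb 13 h13) ?_))
    rw [← hF.ind_flip e 13, bar_mul (mul_mem heC (Fix_le_Cz (hemb 13 h13))) (inv_mem heC),
      bar_mul heC (Fix_le_Cz (hemb 13 h13)), bar_inv heC, ← hse]
    convert h1 using 1
    group
  -- the hypotheses of the recognition
  haveI : ((T : Subgroup (Nk ⧸ K.subgroupOf Nk)).subgroupOf (normalizer
      ((T : Subgroup (Nk ⧸ K.subgroupOf Nk)) : Set (Nk ⧸ K.subgroupOf Nk)))).Normal :=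
    normal_subgroupOf_of_le_normalizer le_rfl
  have htop := Cfsg.Agent.S3805.result T
    ⟨⟨⟨fun a b => Subtype.ext (hTab a a.2 b b.2)⟩⟩, fun a ha => by
      obtain ⟨f, rfl⟩ := hTm.1 ha
      show π _ ^ 3 = 1
      rw [← map_pow]
      refine (congrArg π (Subtype.ext ?_)).trans (map_one π)
      show H.bar f ^ 3 = 1
      rw [pow_succ, pow_two]
      exact hf3 f f.2⟩ hTcard
    (le_antisymm (fun y hy => by
      obtain ⟨f, s, rfl⟩ := hnorm y (centralizer_le_normalizer _ hy)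
      have hfT : F f ∈ (T : Subgroup (Nk ⧸ K.subgroupOf Nk)) := hTm.2 ⟨f, rfl⟩
      have hs0 : s = 0 := hmoved s fun w hw => by
        have e1 : F f * π ⟨_, hsN s⟩ * w = w * (F f * π ⟨_, hsN s⟩) :=
          (mem_centralizer_iff.1 hy w hw).symm
        refine mul_left_cancel (a := F f) ?_
        rw [← mul_assoc, e1, ← mul_assoc, hTab w hw _ hfT, mul_assoc]
      subst hs0
      rwa [show π ⟨_, hsN 0⟩ = 1 from map_one π, mul_one])
      (fun y hy => mem_centralizer_iff.2 fun w hw => hTab w hw y hy))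
    (hK := ?_) (fun t ht ht1 y hy => ?_)
  · intro n hn
    obtain ⟨f, s, hfs⟩ := hnorm (π ⟨n, hn⟩) (htop ▸ mem_top _)
    rw [← map_mul, hπ] at hfs
    change n * (H.bar f * H.bsig D s)⁻¹ ∈ K at hfs
    exact ⟨_, hfs, f, f.2, s, by group⟩
  · haveI : IsKleinFour (↥(normalizer ((T : Subgroup (Nk ⧸ K.subgroupOf Nk)) : Set (Nk ⧸ K.subgroupOf Nk))) ⧸
        (T : Subgroup (Nk ⧸ K.subgroupOf Nk)).subgroupOf (normalizer
          ((T : Subgroup (Nk ⧸ K.subgroupOf Nk)) : Set (Nk ⧸ K.subgroupOf Nk)))) := by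
      set NT := normalizer ((T : Subgroup (Nk ⧸ K.subgroupOf Nk)) : Set (Nk ⧸ K.subgroupOf Nk))
      let σ : Fin 4 → NT ⧸ (T : Subgroup (Nk ⧸ K.subgroupOf Nk)).subgroupOf NT :=
        fun s => QuotientGroup.mk ⟨π ⟨_, hsN s⟩, hsT s⟩
      have hσm : ∀ s t, σ s * σ t = σ (x4 s t) := fun s t => by
        refine congrArg QuotientGroup.mk (Subtype.ext ?_)
        show π _ * π _ = π _
        rw [← map_mul]
        exact congrArg π (Subtype.ext (h.bsig_mul s t))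
      have hσ1 : σ 0 = 1 := by
        have e := hσm 0 0
        rw [(x4_facts 0 0 0).2.2.1] at e
        exact mul_eq_left.1 e
      have hσsurj : Function.Surjective σ := by
        intro y
        obtain ⟨⟨y, hy⟩, rfl⟩ := QuotientGroup.mk_surjective y
        obtain ⟨f, s, rfl⟩ := hnorm y hy
        refine ⟨s, ?_⟩
        show _ = (QuotientGroup.mk ((⟨F f, hFT f⟩ : NT) * ⟨π ⟨_, hsN s⟩, hsT s⟩) : NT ⧸ _)
        rw [QuotientGroup.mk_mul, (QuotientGroup.eq_one_iff _).2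
          (mem_subgroupOf.2 (hTm.2 ⟨f, rfl⟩)), one_mul]
      have hσinj : Function.Injective σ := by
        intro s t e
        have e1 : σ (x4 s t) = 1 := by
          rw [← hσm, e, hσm, (x4_facts t t 0).2.2.1, hσ1]
        refine (show ∀ s t : Fin 4, x4 s t = 0 → s = t by decide) s t (hmoved _ fun w hw => ?_)
        have hm := mem_subgroupOf.1 ((QuotientGroup.eq_one_iff _).1 e1)
        exact hTab _ hm w hw
      have hc : Nat.card (NT ⧸ (T : Subgroup (Nk ⧸ K.subgroupOf Nk)).subgroupOf NT) = 4 := by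
        rw [← Nat.card_congr (Equiv.ofBijective σ ⟨hσinj, hσsurj⟩), Nat.card_eq_fintype_card,
          Fintype.card_fin]
      haveI : Nontrivial (NT ⧸ (T : Subgroup (Nk ⧸ K.subgroupOf Nk)).subgroupOf NT) :=
        Finite.one_lt_card_iff_nontrivial.1 (by rw [hc]; norm_num)
      haveI : Fact (Nat.Prime 2) := ⟨Nat.prime_two⟩
      refine ⟨hc, (Monoid.exponent_eq_prime_iff Nat.prime_two).2 fun y hy => ?_⟩
      obtain ⟨s, rfl⟩ := hσsurj y
      refine orderOf_eq_prime ?_ hy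
      rw [pow_two, hσm, (x4_facts s s 0).2.2.1, hσ1]
    exact this
  · rw [mem_centralizer_singleton_iff] at hy
    obtain ⟨⟨n, hn⟩, rfl⟩ := hπs y
    obtain ⟨f, rfl⟩ := hTm.1 ht
    have hf1 : (f : G) ≠ 1 := fun e => ht1 (by
      rw [show f = 1 from Subtype.ext e]
      exact (congrArg π (Subtype.ext bar_one)).trans (map_one π))
    have hc : n * H.bar f * n⁻¹ * (H.bar f)⁻¹ ∈ K := by
      have e : π (⟨n, hn⟩ * ⟨H.bar f, hfN f f.2⟩ * ⟨n, hn⟩⁻¹) = π ⟨H.bar f, hfN f f.2⟩ := by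
        rw [map_mul, map_mul, map_inv]; exact mul_inv_eq_iff_eq_mul.2 hy
      exact hπ.1 e
    obtain ⟨k, hk, hkn, -⟩ := hmove n hn f f.2 f f.2 hc
    obtain ⟨g, hg, hgn, hgf⟩ := hcent f f.2 (k * n) hkn
    obtain ⟨v, hv, hfv⟩ := mem_Fix_swap hF f.2
    obtain ⟨r, hr, hvr⟩ := plane_tables.2.2.2.2.2.2.2.2.2.2.1 v hv
      fun e => hf1 (by rw [hfv, e, H.emb_zero])
    rw [hfv] at hgf
    have hgr : g * H.emb r = H.emb r * g := by
      rcases hvr with rfl | rfl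
      · exact hgf
      · rw [H.emb_nv] at hgf
        exact Commute.inv_right_iff.1 hgf
    obtain ⟨k', hk', d, hd, s, hds⟩ := hgn ▸ hX.part_TD h hr hg hgr
    obtain ⟨f', s', hfs⟩ := hTD n hn ⟨k⁻¹ * k', mul_mem (inv_mem hk) hk', d, hd, s, by
      rw [mul_assoc k⁻¹, mul_assoc k⁻¹, ← hds, inv_mul_cancel_left]⟩
    rw [hfs]
    exact mul_mem (hFT f') (hsT s')

end Hyp

end CfsgLib.PSpFourRec
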