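import Cfsg.Agent.PSpFourRec.CaseBRange
import Cfsg.Agent.PSpFourRec.CaseBNorm

/-!
# A symmetric group of degree six in the centralizer of the basis vector: the six-dimensional
# symplectic group over two elements
-/

set_option autoImplicit false
set_option maxRecDepth 100000
set_option synthInstance.maxSize 100000
set_option linter.style.haveILetI false
set_option linter.unusedSectionVars false

namespace CfsgLib.PSpFourRec

open CfsgLib.AltNine CfsgLib.PSpFourThree Subgroup TwoModel Equiv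
open CfsgLib.ThreeSymNine (Mat app mm pmat dmat mono pa pm pinv dig sm nv_nv pa_table app_pmat app_one
  ext_app allSigns dx du db pd bc mono_tables)
open CfsgLib.ThreeLocalNine (p2 p3)
open CfsgLib.ThreeSymNine.Six (tp)
open CfsgLib.SpPres (Spn)
open SpSix (wact)

attribute [local instance 10000] List.decidableBAll List.decidableBEx

universe u v

/-- A word for an element of the quaternion group. -/
def qw : List (Fin 64) := [1, 3, 12, 45]

/-- A word for its rotation. -/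
def qw' : List (Fin 64) :=
  [1, 14, 17, 6, 48, 4, 1, 14] ++ qw ++ ([1, 14, 17, 6, 48, 4, 1, 14] : List (Fin 64)).reverse

theorem qw_tables :
    (∀ x, wact (qw ++ [17, 6, 48, 4, 1, 14]) x = wact ([17, 6, 48, 4, 1, 14] ++ qw) x) ∧
    (∀ x, wact (qw ++ [35, 33, 2]) x = wact ([35, 33, 2] ++ qw) x) ∧
    (∀ x, wact (qw ++ qw) x = wact [35, 33, 2] x) ∧ av 9 13 = 22 ∧
    SpSix.cx 35 33 = 2 ∧ SpSix.fm 35 33 = false ∧ SpSix.fm 6 4 = false ∧ SpSix.fm 6 14 = false ∧
    SpSix.fm 4 14 = false ∧ (14 : Fin 64) ≠ SpSix.cx 6 4 := by decide +kernel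

theorem qw_comm : ∀ a ∈ [qw, qw'], ∀ b ∈ [qw, qw'], ∀ x,
    wact (a ++ ([14] ++ b ++ [14])) x = wact (([14] ++ b ++ [14]) ++ a) x := by decide +kernel

theorem all_vals : ∀ v : Fin 4, v ∈ ([0, 1, 2, 3] : List (Fin 4)) := by decide

namespace Hyp

variable {G : Type u} [Group G] [Finite G] {H : Hyp G} {D : Fin 8 → G} {L : Subgroup G}
  {φ : L ≃* Perm (Fin 6)} {F : Type v} [Field F] [CharP F 2] [Fintype F] {ι : Spn F 3 →* G}

/-- The quaternion group is generated by a non-central element and its rotation. -/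
theorem Q1_le_of {K : Subgroup G} {y : G} (hy : y ∈ H.Q1) (hy2 : y * y = H.S 1) (h1 : y ∈ K)
    (h2 : H.emb 22 * y * (H.emb 22)⁻¹ ∈ K) : H.Q1 ≤ K := by
  obtain ⟨t, ht, rfl⟩ := hy
  have ht1 : tsq t ≠ t1 := fun e => S_ne_one (by
    rw [← hy2, ← H.par_mul, show tmul t t = t1 from e, H.par_one])
  rintro _ ⟨t', ht', rfl⟩
  obtain ⟨w, hw, a, ha, b, hb, rfl⟩ := qP_gen t ht ht1 t' ht'
  have hw' : H.par w ∈ K := by
    have e := congrArg H.par hw
    rw [H.par_mul, H.par_mul] at e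
    rwa [show H.emb 22 * H.par t * (H.emb 22)⁻¹ = H.par w from mul_inv_eq_iff_eq_mul.2 e] at h2
  have hpow : ∀ u : T, H.par u ∈ K → ∀ c ∈ [t1, u, tsq u, tmul u (tsq u)], H.par c ∈ K := by
    intro u hu c hc
    simp only [List.mem_cons, List.not_mem_nil, or_false] at hc
    rcases hc with rfl | rfl | rfl | rfl
    · rw [H.par_one]; exact one_mem _
    · exact hu
    · rw [tsq, H.par_mul]; exact mul_mem hu hu
    · rw [tsq, H.par_mul, H.par_mul]; exact mul_mem hu (mul_mem hu hu)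
  rw [H.par_mul]
  exact mul_mem (hpow t h1 a ha) (hpow w hw' b hb)

/-- The complement lies in the symplectic group. -/
theorem Coord.lf_mem (hc : Coord H D φ ι) (σ : Perm (Fin 6)) : lf φ σ ∈ ι.range := by
  have hw : ∀ l : List (Fin 5), lf φ ((l.map gp).prod) ∈ ι.range := fun l =>
    (hc.word l).1 ▸ ⟨_, rfl⟩
  induction σ using Submonoid.induction_of_closure_eq_top_left
      (Equiv.Perm.mclosure_swap_castSucc_succ 5) with
  | one => rw [lf_one]; exact one_mem _
  | mul_left τ hτ σ ih =>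
    rw [lf_mul]
    refine mul_mem ?_ ih
    obtain ⟨i, rfl⟩ := hτ
    fin_cases i
    · exact hc.fst 0 ▸ ⟨_, rfl⟩
    · have := hw [0, 1, 0]; rwa [← gp_words.2.2.2.2.2.1] at this
    · have := hw [2, 3, 2]; rwa [← gp_words.2.2.2.2.2.2.1] at this
    · exact hc.fst 4 ▸ ⟨_, rfl⟩
    · have := hw [4, 3, 4]; rwa [← gp_words.2.2.2.2.2.2.2.1] at this

/-- The two quaternion groups commute. -/
theorem Coord.quat_comm (hc : Coord H D φ ι) (hX : H.Six D L φ) :
    ∀ u ∈ H.Q1, ∀ w ∈ H.Q1, Commute u (D 4 * w * D 4) := by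
  obtain ⟨-, -, e9, ex, eS, -, -, d4, -, -⟩ := hc.vals hX
  obtain ⟨cx, cz, csq, h22, -⟩ := qw_tables
  set E : List (Fin 64) := [1, 14, 17, 6, 48, 4, 1, 14]
  set y := ι (SpSix.W qw) with hy
  have hW : ∀ a b : List (Fin 64), (∀ x, wact a x = wact b x) → ι (SpSix.W a) = ι (SpSix.W b) :=
    fun a b h => congrArg ι (SpSix.W_eq hc.two h)
  have hm : ∀ a b : List (Fin 64), ι (SpSix.W a) * ι (SpSix.W b) = ι (SpSix.W (a ++ b)) :=
    fun a b => by rw [← map_mul, ← SpSix.W_append]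
  have hy2 : y * y = H.S 1 := by rw [eS, hy, hm]; exact hW _ _ csq
  have hyx : y * H.x = H.x * y := by rw [ex, hy, hm, hm]; exact hW _ _ cx
  have hyz : y * H.S 1 = H.S 1 * y := by rw [eS, hy, hm, hm]; exact hW _ _ cz
  have hyQ : y ∈ H.Q1 := mem_Q1_of_coprime hyx hyz ((show Nat.Coprime 4 3 by norm_num).coprime_dvd_left
    (orderOf_dvd_of_pow_eq_one (by
      rw [show 4 = 2 * 2 from rfl, pow_mul, pow_two y, hy2, pow_two, S_sq])))
  have e22 : H.emb 22 = ι (SpSix.W E) := by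
    rw [← h22, H.emb_add, e9, show H.emb 13 = H.x from rfl, ex, hm]
    rfl
  have hy' : H.emb 22 * y * (H.emb 22)⁻¹ = ι (SpSix.W qw') := by
    rw [e22, hy, ← map_inv, SpSix.W_reverse, hm, hm]
    rfl
  have hcm : ∀ a ∈ [qw, qw'], ∀ b ∈ [qw, qw'],
      Commute (ι (SpSix.W a)) (D 4 * ι (SpSix.W b) * D 4) := fun a ha b hb => by
    show _ * _ = _ * _
    rw [d4, hm, hm, hm, hm]
    exact hW _ _ (qw_comm a ha b hb)
  have hfix : ∀ b ∈ [qw, qw'], ∀ u ∈ H.Q1, Commute u (D 4 * ι (SpSix.W b) * D 4) := fun b hb u hu =>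
    mem_centralizer_singleton_iff.1 (Q1_le_of (K := centralizer {D 4 * ι (SpSix.W b) * D 4}) hyQ hy2
      (mem_centralizer_singleton_iff.2 (hcm _ (by simp) b hb).eq)
      (mem_centralizer_singleton_iff.2 (hy' ▸ hcm qw' (by simp) b hb).eq) hu)
  intro u hu w hw
  have hK : ∀ b ∈ [qw, qw'], ι (SpSix.W b) ∈
      (centralizer ({u} : Set G)).comap (MulAut.conj (D 4)).toMonoidHom := fun b hb => by
    rw [mem_comap, MulEquiv.coe_toMonoidHom, MulAut.conj_apply, hX.flips.inv,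
      mem_centralizer_singleton_iff]
    exact (hfix b hb u hu).eq.symm
  have := Q1_le_of (K := (centralizer ({u} : Set G)).comap (MulAut.conj (D 4)).toMonoidHom) hyQ hy2
    (hK qw (by simp)) (hy' ▸ hK qw' (by simp)) hw
  rw [mem_comap, MulEquiv.coe_toMonoidHom, MulAut.conj_apply, hX.flips.inv,
    mem_centralizer_singleton_iff] at this
  exact this.symm

/-- The classes of the named involutions. -/
theorem Coord.classes (hc : Coord H D φ ι) (hX : H.Six D L φ) :
    IsConj (ι SpSix.f0) (D 4) ∧ IsConj (ι SpSix.g0) (D 3) ∧ IsConj (ι SpSix.z0) (H.S 1) ∧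
      IsConj (ι SpSix.j0) (D 7) ∧ IsConj (ι SpSix.j0) (D 4 * H.S 1) := by
  have h2 := hc.two
  obtain ⟨-, -, -, -, eS, -, -, d4, d3, d7⟩ := hc.vals hX
  obtain ⟨-, -, -, -, hcx, o1, o2, o3, o4, hne⟩ := qw_tables
  have cf : IsConj (ι SpSix.f0) (D 4) := by
    obtain ⟨g, hg⟩ := SpSix.move_one (F := F) h2 (u := 14) (by decide)
    rw [d4, SpSix.f0_eq]
    refine ι.map_isConj (isConj_iff.2 ⟨g, ?_⟩).symm
    rw [SpSix.W_singleton, SpSix.W_singleton, SpSix.t_conj h2, hg]
  have cg : IsConj (ι SpSix.g0) (D 3) :=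
    d3 ▸ ι.map_isConj (SpSix.two_conj h2 (by decide) (by decide) (by decide) o2)
  have cz : IsConj (ι SpSix.z0) (H.S 1) := by
    have := ι.map_isConj (SpSix.three_dep (F := F) h2 (u := 35) (w := 33) (by decide) (by decide)
      (by decide) o1)
    rwa [hcx, ← eS] at this
  have cj : IsConj (ι SpSix.j0) (D 7) :=
    d7 ▸ ι.map_isConj (SpSix.three_indep h2 (by decide) (by decide) (by decide) (by decide)
      (by decide) (by decide) hne o2 o3 o4)
  refine ⟨cf, cg, cz, cj, ?_⟩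
  obtain ⟨cfg, cfj, czf, cgj, czg, czj, -, -, -, -⟩ := hX.flips.class_facts
  set y : Spn F 3 := SpSix.W ([14] ++ [35, 33, 2])
  have hy : ι y = D 4 * H.S 1 := by rw [d4, eS, ← map_mul, ← SpSix.W_append]
  have hy2 : y * y = 1 := hc.inj (by
    rw [map_mul, map_one, hy, (show Commute (H.S 1) (D 4) from
      hX.flips.four_z.1.symm).mul_mul_mul_comm, hX.flips.sq, S_sq, one_mul])
  have hy1 : y ≠ 1 := fun e => by
    have h4 : D 4 = H.S 1 := by
      have := hy
      rw [e, map_one, eq_comm, mul_eq_one_iff_eq_inv, inv_eq_of_mul_eq_one_right S_sq] at this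
      exact this
    exact czf (h4 ▸ IsConj.refl _)
  rcases SpSix.involution_conj h2 hy2 hy1 with e | e | e | e
  · have e' := ι.map_isConj e
    rw [hy] at e'
    exact absurd (cf.symm.trans e'.symm) cfj
  · have e' := ι.map_isConj e
    rw [hy] at e'
    exact absurd (cg.symm.trans e'.symm) cgj
  · have e' := ι.map_isConj e
    rw [hy] at e'
    exact absurd (cz.symm.trans e'.symm) czj
  · have e' := ι.map_isConj e
    rw [hy] at e'
    exact e'.symm

/-- A symmetric group of degree six in the centralizer of the basis vector: the symplectic group. -/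
theorem Six.iso_sp (hX : H.Six D L φ) (F : Type v) [Field F] [Fintype F] (hF2 : Fintype.card F = 2) :
    Nonempty (G ≃* Matrix.symplecticGroup (Fin 3) F) := by
  classical
  haveI : CharP F 2 := CharTwo.of_one_ne_zero_of_two_eq_zero one_ne_zero
    (SpMult.two_eq_zero (SpMult.cases_of_card_two hF2))
  obtain ⟨ι, hc⟩ := hX.exists_coord hF2
  have hFl := hX.flips
  obtain ⟨q, hq⟩ := hFl.exists_reps
  have h := hX.two_all hq fun a b => hc.quat_comm hX _ (hq.mem a) _ (hq.mem b)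
  obtain ⟨cf, cg, cz, cj, cj'⟩ := hc.classes hX
  obtain ⟨cfg, cfj, czf, cgj, czg, czj, -, -, -, -⟩ := hFl.class_facts
  have hev : h.EV := hX.ev_all h fun e => czj ((cj'.symm.trans (cj.trans e)).symm)
  have hNR : H.N ≤ ι.range := hc.N_le hX
  have h4 := hFl.mem_Cz' (d := 4) (by decide)
  have hQ1 : H.Q1 ≤ ι.range := fun u hu =>
    hc.C_x_le hX (mem_centralizer_singleton_iff.2 (Q1_cent hu).1)
  have hD4 : D 4 ∈ ι.range := hNR (hFl.mem_N 4)
  have hbsig : ∀ s, ∃ y ∈ ι.range, y ∈ H.Cz ∧ H.bar y = H.bsig D s := by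
    intro s
    fin_cases s
    · exact ⟨1, one_mem _, one_mem _, bar_one⟩
    · exact ⟨D 4, hD4, h4, rfl⟩
    · exact ⟨D 3, hNR (hFl.mem_N 3), hFl.mem_Cz' (by decide), rfl⟩
    · exact ⟨D 7, hNR (hFl.mem_N 7), hFl.mem_Cz' (by decide), rfl⟩
  have hparts : ∀ v ∈ ([13, 22, 9, 4] : List (Fin 27)),
      H.Cz ⊓ centralizer ({H.emb v} : Set G) ≤ ι.range := by
    rintro r hr g ⟨hg, hgr⟩
    obtain ⟨k, hk, d, hd, s, hs⟩ := hX.part_TD h hr hg (mem_centralizer_singleton_iff.1 hgr)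
    obtain ⟨kk, -, rfl⟩ := h.mem_Kb.1 hk
    obtain ⟨y, hyR, hyC, hys⟩ := hbsig s
    have hl := h.lift_mem kk
    have hdC := Fix_le_Cz hd
    rw [h.kap_eq, ← hys, ← bar_mul hl hdC, ← bar_mul (mul_mem hl hdC) hyC,
      bar_eq hg (mul_mem (mul_mem hl hdC) hyC)] at hs
    have hlR : q kk.1 * (D 4 * q kk.2.1 * D 4) * lf φ (vrep kk.2.2) * d * y ∈ ι.range :=
      mul_mem (mul_mem (mul_mem (mul_mem (hQ1 (hq.mem _))
        (mul_mem (mul_mem hD4 (hQ1 (hq.mem _))) hD4)) (hc.lf_mem _)) (hNR (H.J_le_N hd.1))) hyR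
    rcases hs with e | e <;> rw [e]
    · exact hlR
    · exact mul_mem hlR (hNR hFl.named.1.mem_N)
  have h57 : ∀ v ∈ ([13, 22, 9, 4] : List (Fin 27)), ∀ g ∈ H.Cz,
      g * H.emb v = H.emb v * g → orderOf g ≠ 5 ∧ orderOf g ≠ 7 := by
    intro v hv g hg hgv
    have h12 := hX.TD_pow h (hX.part_TD h hv hg hgv)
    rw [← bar_pow hg, bar_eq_one (pow_mem hg 12)] at h12
    have h24 : orderOf g ∣ 24 := by
      refine orderOf_dvd_of_pow_eq_one ?_
      rw [show 24 = 12 * 2 from rfl, pow_mul, pow_two]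
      rcases h12 with e | e <;> rw [e]
      · exact one_mul _
      · exact S_sq
    constructor <;> intro e <;> rw [e] at h24 <;> norm_num at h24
  have hCz : H.Cz ≤ ι.range :=
    h.Cz_le (hX.nk_all h) hev ι.range (inf_le_left.trans hNR) hparts h57
  have htop : ι.range = ⊤ := by
    refine SpSix.spSix_range_eq_top hc.two ι hc.inj ?_
      (fun e => cfg ((cf.symm.trans e).trans cg)) (fun e => czf ((cf.symm.trans e).trans cz).symm)
      (fun e => cfj ((cf.symm.trans e).trans cj')) (fun e => czg ((cg.symm.trans e).trans cz).symm)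
      (fun e => cgj ((cg.symm.trans e).trans cj')) (fun e => czj ((cz.symm.trans e).trans cj'))
    obtain ⟨w, hw⟩ : ∃ w, H.S 1 = ι w := ⟨_, (hc.vals hX).2.2.2.2.1⟩
    have hinR : ∃ c' ∈ ι.range, c' * ι SpSix.z0 * c'⁻¹ = H.S 1 := by
      rcases SpSix.involution_conj (i := w) hc.two (hc.inj (by rw [map_mul, ← hw, S_sq, map_one]))
        (fun e => S_ne_one (by rw [hw, e, map_one])) with e | e | e | e
      · exact absurd ((ι.map_isConj e).trans cf) (hw ▸ czf)
      · exact absurd ((ι.map_isConj e).trans cg) (hw ▸ czg)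
      · obtain ⟨c', hc'⟩ := isConj_iff.1 e.symm
        exact ⟨ι c', ⟨c', rfl⟩, by rw [hw, ← map_inv, ← map_mul, ← map_mul, hc']⟩
      · exact absurd ((ι.map_isConj e).trans cj') (hw ▸ czj)
    obtain ⟨c', hc', hce⟩ := hinR
    intro g hg
    have : c' * g * c'⁻¹ ∈ H.Cz := by
      rw [mem_Cz, ← hce]
      calc c' * g * c'⁻¹ * (c' * ι SpSix.z0 * c'⁻¹) = c' * (g * ι SpSix.z0) * c'⁻¹ := by group
        _ = c' * (ι SpSix.z0 * g) * c'⁻¹ := by rw [mem_centralizer_singleton_iff.1 hg]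
        _ = _ := by group
    have := mul_mem (mul_mem (inv_mem hc') (hCz this)) hc'
    rwa [show c'⁻¹ * (c' * g * c'⁻¹) * c' = g by group] at this
  exact ⟨(MulEquiv.ofBijective ι ⟨hc.inj, MonoidHom.range_eq_top.1 htop⟩).symm⟩

end Hyp

end CfsgLib.PSpFourRec
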