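import Cfsg.Agent.PSpFourRec.Auto
import Cfsg.Agent.ThreeSymNine.Lifts

/-!
# A normal subgroup of index three when the automizer is the group of permutations
-/

set_option autoImplicit false
set_option maxRecDepth 100000
set_option linter.style.haveILetI false

namespace CfsgLib.PSpFourRec

open CfsgLib.AltNine CfsgLib.PSpFourThree Subgroup
open CfsgLib.ThreeSymNine (Mat app mm pmat dmat mono pa pm pinv dig sm nv_nv pa_table app_pmat
  app_one ext_app zv zv_table)

attribute [local instance 10000] List.decidableBAll List.decidableBEx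

universe u

/-- The sum of the coordinates. -/
def zsum (v : Fin 27) : ZMod 3 := zd v 0 + zd v 1 + zd v 2

/-- The sum of the coordinates is invariant under the permutations. -/
theorem zsum_pa : ∀ (a : Fin 6) (v : Fin 27), zsum (app (mono 0 a) v) = zsum v := by decide +kernel

/-- An element of order three of the Sylow subgroup is conjugate, by an element of the elementary
abelian subgroup, to a permutation. -/
theorem p_conj_tS : ∀ a ∈ ([4, 5] : List (Fin 6)), ∀ v : Fin 27,
    tmul (tmul (tE v) (tS a)) (tmul (tmul (tE v) (tS a)) (tmul (tE v) (tS a))) = t1 →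
      ∃ u : Fin 27, tmul (tE u) (tmul (tE v) (tS a)) = tmul (tS a) (tE u) := by decide +kernel

/-- The permutations of order three are conjugate into the elementary abelian subgroup. -/
theorem tS_conj_tE : ∀ a ∈ ([4, 5] : List (Fin 6)), ∃ g : S23, ∃ w : Fin 27,
    tmul ((0, 0), g) (tS a) = tmul (tE w) ((0, 0), g) ∧ zsum w = 0 := by decide +kernel

theorem p_cube_sum : ∀ a ∈ ([0, 4, 5] : List (Fin 6)), ∀ v : Fin 27,
    (a = 0 ∨ zsum v = 0 → tmul (tmul (tE v) (tS a)) (tmul (tmul (tE v) (tS a)) (tmul (tE v) (tS a))) = t1) ∧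
    (a ≠ 0 → tmul (tmul (tE v) (tS a)) (tmul (tmul (tE v) (tS a)) (tmul (tE v) (tS a))) =
      tE (sm ⟨(zsum v).val, ZMod.val_lt _⟩ 13)) := by decide +kernel

theorem fix_mid : ∀ (a : Fin 6) (k l : Fin 3), app (mono 0 a) (sm k 13) = sm l 13 → k = l := by
  decide +kernel

theorem zsum_one : zsum 1 = 1 := by decide +kernel

namespace Hyp

variable {G : Type u} [Group G] [Finite G] (H : Hyp G)

theorem cube_par (t : T) : H.par t ^ 3 = H.par (tmul t (tmul t t)) := by
  rw [pow_succ', pow_two, H.par_mul, H.par_mul]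

/-- An element of order three of the Sylow subgroup is fused to an element of the elementary
abelian subgroup with the same coordinate sum. -/
theorem exists_fused {v : Fin 27} {a : Fin 6} (ha : a ∈ ([0, 4, 5] : List (Fin 6)))
    (h3 : (H.emb v * H.S a) ^ 3 = 1) :
    ∃ (g : G) (w : Fin 27), g * (H.emb v * H.S a) * g⁻¹ = H.emb w ∧ zsum w = zsum v := by
  rw [← H.par_t, H.cube_par, ← H.par_one] at h3
  have h3' := H.par_inj h3
  by_cases ha0 : a = 0
  · subst ha0
    exact ⟨1, v, by rw [H.S_zero]; group, rfl⟩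
  have ha' : a ∈ ([4, 5] : List (Fin 6)) := by simp at ha ⊢; tauto
  have hv : zsum v = 0 := by
    by_contra hv
    rw [(p_cube_sum a ha v).2 ha0] at h3'
    exact (show ∀ z : ZMod 3, z ≠ 0 → tE (sm ⟨z.val, ZMod.val_lt _⟩ 13) ≠ t1 by decide +kernel)
      _ hv h3'
  obtain ⟨u, hu⟩ := p_conj_tS a ha' v h3'
  obtain ⟨g, w, hg, hw⟩ := tS_conj_tE a ha'
  refine ⟨H.par ((0, 0), g) * H.emb u, w, ?_, hw.trans hv.symm⟩
  have h1 : H.emb u * (H.emb v * H.S a) = H.S a * H.emb u := by
    have := congrArg H.par hu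
    rwa [H.par_mul, H.par_mul, H.par_mul] at this
  have h2 : H.par ((0, 0), g) * H.S a = H.emb w * H.par ((0, 0), g) := by
    have := congrArg H.par hg
    rwa [H.par_mul, H.par_mul] at this
  rw [mul_inv_rev, mul_assoc (H.par ((0, 0), g)), h1]
  simp only [mul_assoc, mul_inv_cancel_left]
  rw [← mul_assoc, h2, mul_assoc, mul_inv_cancel, mul_one]

/-- Without signs the coordinate sum is invariant under fusion in the Sylow subgroup. -/
theorem zsum_fusion (hs : H.Signs [0]) {v w : Fin 27} {a b : Fin 6}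
    (ha : a ∈ ([0, 4, 5] : List (Fin 6))) (hb : b ∈ ([0, 4, 5] : List (Fin 6))) {g : G}
    (hg : g * (H.emb v * H.S a) * g⁻¹ = H.emb w * H.S b) : zsum v = zsum w := by
  have hc : g * (H.emb v * H.S a) ^ 3 * g⁻¹ = (H.emb w * H.S b) ^ 3 := by rw [← hg, conj_pow]
  by_cases h3 : (H.emb v * H.S a) ^ 3 = 1
  · rw [h3, mul_one, mul_inv_cancel] at hc
    obtain ⟨g1, v', hv', hsv⟩ := H.exists_fused ha h3
    obtain ⟨g2, w', hw', hsw⟩ := H.exists_fused hb hc.symm
    obtain ⟨M, hM, hMv⟩ := H.fusion_app (v := v') (w := w') (g := g2 * g * g1⁻¹) (by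
      rw [← hv', ← hw', ← hg]; group)
    obtain ⟨d, hd, c, rfl⟩ := (hs M).1 hM
    rw [List.mem_singleton] at hd
    subst hd
    rw [← hsv, ← hsw, ← hMv, zsum_pa]
  · have hcw : (H.emb w * H.S b) ^ 3 ≠ 1 := by
      rw [← hc]
      intro h
      rw [mul_inv_eq_one, mul_eq_left] at h
      exact h3 h
    have hcube : ∀ (u : Fin 27) (c : Fin 6), c ∈ ([0, 4, 5] : List (Fin 6)) →
        (H.emb u * H.S c) ^ 3 ≠ 1 →
          (H.emb u * H.S c) ^ 3 = H.emb (sm ⟨(zsum u).val, ZMod.val_lt _⟩ 13) := by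
      intro u c hc hne
      have hc0 : c ≠ 0 := by
        rintro rfl
        rw [H.S_zero, mul_one, H.emb_cube] at hne
        exact hne rfl
      rw [← H.par_t, H.cube_par, (p_cube_sum c hc u).2 hc0]
      rfl
    rw [hcube v a ha h3, hcube w b hb hcw] at hc
    obtain ⟨M, hM, hMv⟩ := H.fusion_app hc
    obtain ⟨d, hd, c, rfl⟩ := (hs M).1 hM
    rw [List.mem_singleton] at hd
    subst hd
    exact ZMod.val_injective _ (congrArg Fin.val (fix_mid c _ _ hMv))

/-- Without signs there is a normal subgroup of index three. -/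
theorem exists_index_three (hs : H.Signs [0]) : ∃ N : Subgroup G, N.Normal ∧ N.index = 3 := by
  classical
  haveI : Fact (Nat.Prime 3) := ⟨Nat.prime_three⟩
  obtain ⟨Q, hQ⟩ := H.sylow_exists
  have hmem : ∀ s : (Q : Subgroup G), ∃ v a, a ∈ ([0, 4, 5] : List (Fin 6)) ∧
      (s : G) = H.emb v * H.S a := fun s => by
    exact (SetLike.ext_iff.1 hQ (s : G)).1 s.2
  have hval : ∀ (v : Fin 27) (a : Fin 6),
      chi (Function.invFun H.par (H.emb v * H.S a)).2 = zsum v := fun v a => by
    rw [← H.par_t, Function.leftInverse_invFun H.par_inj, show (tmul (tE v) (tS a)).2 =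
      (tE v).2 * (tS a).2 from rfl, chi_mul, chi_tE, chi_tS, add_zero]
    rfl
  let ψ : (Q : Subgroup G) →* Multiplicative (ZMod 3) :=
    MonoidHom.mk' (fun s => Multiplicative.ofAdd (chi (Function.invFun H.par (s : G)).2))
      fun s t => by
        obtain ⟨v, a, -, hv⟩ := hmem s
        obtain ⟨w, b, -, hw⟩ := hmem t
        rw [Subgroup.coe_mul, hv, hw, ← H.par_t, ← H.par_t, ← H.par_mul,
          Function.leftInverse_invFun H.par_inj, Function.leftInverse_invFun H.par_inj,
          Function.leftInverse_invFun H.par_inj, ← ofAdd_add]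
        exact congrArg Multiplicative.ofAdd (chi_mul _ _)
  obtain ⟨φ, hφ⟩ := CfsgLib.ThreeSymNine.exists_fusion_hom Q ψ (fun s t g hg => by
    obtain ⟨v, a, ha, hv⟩ := hmem s
    obtain ⟨w, b, hb, hw⟩ := hmem t
    rw [hv, hw] at hg
    show Multiplicative.ofAdd _ = Multiplicative.ofAdd _
    rw [hv, hw, hval, hval, H.zsum_fusion hs ha hb hg])
  refine ⟨φ.ker, inferInstance, ?_⟩
  have hd : φ.ker.index ∣ 3 := by
    have h := card_subgroup_dvd_card φ.range
    rwa [Nat.card_congr Multiplicative.toAdd, Nat.card_zmod, ← index_ker] at h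
  refine ((Nat.dvd_prime Nat.prime_three).1 hd).resolve_left fun h => ?_
  have h1 : φ (H.emb 1) = 1 := MonoidHom.mem_ker.1 (index_eq_one.1 h ▸ mem_top _)
  have hm : H.emb 1 ∈ (Q : Subgroup G) := hQ ▸ H.J_le_P (H.emb_mem 1)
  have h2 := hφ ⟨_, hm⟩
  rw [h1] at h2
  have h3 : ψ ⟨_, hm⟩ = Multiplicative.ofAdd 1 := by
    show Multiplicative.ofAdd (chi (Function.invFun H.par (H.emb 1)).2) = _
    rw [← mul_one (H.emb 1), ← H.S_zero, hval]
    rw [zsum_one]
  rw [h3, ← ofAdd_nsmul, nsmul_one, eq_comm, ofAdd_eq_one, ZMod.natCast_eq_zero_iff] at h2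
  exact Q.not_dvd_index h2

end Hyp

end CfsgLib.PSpFourRec
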