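import Cfsg.Agent.PSpFourRec.RealNormalCent
import Cfsg.Agent.OneClass.Basic
import Cfsg.Agent.DGroup.Fusion
import Cfsg.Agent.ZStar.Final
import Cfsg.Agent.Solvable.PGroupBasic

/-!
# Signs `±1`: the central subgroup of order three is normal
-/

set_option autoImplicit false
set_option maxRecDepth 100000
set_option linter.style.haveILetI false
set_option linter.unusedSectionVars false
set_option synthInstance.maxSize 4000
set_option synthInstance.maxHeartbeats 400000

namespace CfsgLib.PSpFourRec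

open CfsgLib.AltNine CfsgLib.PSpFourThree Subgroup
open CfsgLib.ThreeSymNine (Mat app mm pmat dmat mono pa pm pinv dig sm nv_nv pa_table app_pmat
  app_one ext_app)

universe u

namespace Hyp

variable {G : Type u} [Group G] [Finite G] {H : Hyp G}

/-- A nontrivial normal three-subgroup forces the centre to be normal. -/
theorem Signs.Hn_eq_top_of_three (hs : H.Signs [0, 7]) {M : Subgroup G} [M.Normal]
    (hM : IsPGroup 3 M) (hne : M ≠ ⊥) : H.Hn = ⊤ := by
  haveI : Fact (Nat.Prime 3) := ⟨Nat.prime_three⟩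
  obtain ⟨S, hS⟩ := H.sylow_exists
  have hMP : M ≤ H.P := hS ▸ le_sup_left.trans (S.3 (hM.to_sup_of_normal_left S.2) le_sup_right).le
  haveI : Group.IsNilpotent H.P := (H.isPGroup_P).isNilpotent
  have hM' : M.subgroupOf H.P ≠ ⊥ := fun h => hne (eq_bot_iff.2 fun y hy => by
    have : (⟨y, hMP hy⟩ : H.P) ∈ M.subgroupOf H.P := hy
    rw [h, mem_bot] at this
    exact mem_bot.2 (congrArg Subtype.val this))
  obtain ⟨⟨y, hyP⟩, ⟨hyM, hyc⟩, hy1⟩ := (bot_or_exists_ne_one _).resolve_left
    (CfsgLib.PGroupBasic.inf_center_ne_bot (M.subgroupOf H.P) hM')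
  have hyM' : y ∈ M := hyM
  obtain ⟨v, a, ha, hva⟩ := id hyP
  have hcomm : ∀ w ∈ H.P, y * w = w * y := fun w hw =>
    (congrArg Subtype.val (mem_center_iff.1 hyc ⟨w, hw⟩)).symm
  have e1 := hcomm _ (H.J_le_P (H.emb_mem 1))
  have e2 := hcomm _ (show H.S 4 ∈ H.P from ⟨0, 4, by simp, by rw [H.emb_zero, one_mul]⟩)
  rw [hva, ← H.par_t] at e1 e2
  obtain ⟨rfl, hv⟩ := RealNormal.zp_cent v a ha
    (H.par_inj ((H.par_mul _ _).trans (e1.trans (H.par_mul _ _).symm)))
    (H.par_inj ((H.par_mul _ _).trans (e2.trans (H.par_mul _ _).symm)))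
  rw [H.S_zero, mul_one] at hva
  have hxM : H.x ∈ M := by
    rcases hv with rfl | hv
    · exact absurd (Subtype.ext (hva.trans H.emb_zero)) hy1
    rcases H.x_pm hv with e | e
    · rwa [← e, ← hva]
    · have := inv_mem hyM'
      rwa [hva, e, inv_inv] at this
  refine eq_top_iff.2 fun g _ => H.mem_Hn (hs.conj_x_mem_P (hMP ?_))
  exact (inferInstance : M.Normal).conj_mem _ hxM g

theorem Signs.Hn_eq_top (hs : H.Signs [0, 7]) : H.Hn = ⊤ := by
  classical
  haveI : Fact (Nat.Prime 3) := ⟨Nat.prime_three⟩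
  set O := Cfsg.oddCore G with hOdef
  haveI : O.Normal := DGroup.normal_oddCore G
  by_cases hO : O = ⊥
  · obtain ⟨N, hN, hodd, hNc⟩ := ZStar.zstar hs.isolated_swap
    have hNO : N ≤ O := CfsgLib.Solvable.le_pPrimeCore 2 hN (Nat.coprime_two_right.2 hodd)
    refine eq_top_iff.2 fun g _ => hs.centralizer_swap_le (mem_centralizer_singleton_iff.2 ?_)
    have := hNO (hNc g)
    rw [hO, mem_bot, mul_inv_eq_one, mul_inv_eq_iff_eq_mul] at this
    exact this.symm
  haveI : Group.IsSolvable O := DGroup.solvable_of_odd O (DGroup.odd_oddCore G)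
  haveI : Nontrivial O := (nontrivial_iff_ne_bot O).2 hO
  obtain ⟨q, hq, hqne⟩ := CfsgLib.OneClass.exists_core_ne_bot (G := O)
  haveI : Fact q.Prime := ⟨hq⟩
  haveI : (Cfsg.pCore q O).Characteristic := CfsgLib.OneClass.pCore_characteristic q
  set M := (Cfsg.pCore q O).map O.subtype
  have hMne : M ≠ ⊥ := fun h => hqne ((map_eq_bot_iff_of_injective _ O.subtype_injective).1 h)
  haveI : M.Normal := ConjAct.normal_of_characteristic_of_normal
  have hMp : IsPGroup q M := (CfsgLib.Solvable.isPGroup_pCore q).map _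
  by_cases hq3 : q = 3
  · subst hq3
    exact hs.Hn_eq_top_of_three hMp hMne
  · exfalso
    refine hMne (H.eq_bot_of_normalized ?_ ?_)
    · obtain ⟨n, hn⟩ := IsPGroup.iff_card.1 hMp
      rw [hn]
      exact ((Nat.coprime_primes hq Nat.prime_three).2 hq3).pow_left n
    · rw [normalizer_eq_top_iff.2 (inferInstance : M.Normal)]
      exact le_top

end Hyp

/-- With the signs `±1` the central subgroup of order three is normal. -/
theorem normalizer_x_eq_top {G : Type u} [Group G] [Finite G] (H : Hyp G) (hs : H.Signs [0, 7]) :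
    Subgroup.normalizer (Subgroup.zpowers H.x : Set G) = ⊤ :=
  hs.Hn_eq_top

end CfsgLib.PSpFourRec
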