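import Cfsg.Agent.PSpFourRec.Setup
import Cfsg.Agent.PSpFourRec.NonRealThree
import Cfsg.Agent.PSpFourRec.NonRealPSp
import Cfsg.Agent.PSpFourRec.RealNormal
import Cfsg.Agent.PSpFourRec.CaseA
import Cfsg.Agent.PSpFourRec.CaseBFinal

/-!
# Recognition of `PSp₄(3)`, its automorphism group and `Sp₆(2)` by the centralizer of an element of
# order three
-/

set_option autoImplicit false
set_option maxRecDepth 100000
set_option linter.style.haveILetI false
set_option linter.unusedSectionVars false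

namespace CfsgLib.PSpFourRec

open CfsgLib.AltNine CfsgLib.PSpFourThree Subgroup
open CfsgLib.ThreeSymNine (Mat app mm pmat dmat mono pa pm pinv dig sm nv_nv pa_table app_pmat app_one
  ext_app allSigns dx du db pd bc mono_tables evenSigns)

attribute [local instance 10000] List.decidableBAll List.decidableBEx

universe u v w

theorem real_tables : app (mono 7 0) 13 = 26 ∧ (∀ a : Fin 6, app (mono 0 a) 13 ≠ 26) ∧
    nv 13 = (26 : Fin 27) ∧ evenSigns = [0, 3, 5, 6] := by decide +kernel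

/-- The recognition theorem. -/
theorem recognition {G : Type u} [Group G] [Finite G]
    (a : G) (ha : orderOf a = 3) (C : Subgroup G) (hC : C = centralizer ({a} : Set G))
    (hR : Cfsg.IsExtraspecial 3 (Cfsg.pCore 3 C)) (hRcard : Nat.card (Cfsg.pCore 3 C) = 27)
    (hRexp : ∀ r ∈ Cfsg.pCore 3 C, r ^ 3 = 1) (e : C ⧸ Cfsg.pCore 3 C ≃* S23)
    (J : Subgroup G) (hJC : J ≤ C) (hJcomm : IsMulCommutative J) (hJexp : ∀ j ∈ J, j ^ 3 = 1)
    (hJcard : Nat.card J = 27)
    (hJsig : ∀ K : Subgroup G, (Nat.card K).Coprime 3 →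
      (∀ j ∈ J, K.map (MulAut.conj j).toMonoidHom = K) → K = ⊥)
    (F : Type v) [Field F] [Fintype F] (hF : Fintype.card F = 3)
    (F₂ : Type w) [Field F₂] [Fintype F₂] (hF₂ : Fintype.card F₂ = 2) :
    ((∀ g : G, g * a * g⁻¹ ≠ a⁻¹) →
      (∃ N : Subgroup G, N.Normal ∧ N.index = 3) ∨ Nonempty (G ≃* Cfsg.PSp 2 F)) ∧
    ((∃ g : G, g * a * g⁻¹ = a⁻¹) →
      normalizer (zpowers a : Set G) = ⊤ ∨ Nonempty (G ≃* MulAut (Cfsg.PSp 2 F)) ∨
        Nonempty (G ≃* Matrix.symplecticGroup (Fin 3) F₂)) := by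
  obtain ⟨H₀, hx, -⟩ := exists_hyp a ha C hC hR hRcard hRexp e J hJC hJcomm hJexp hJcard hJsig
  obtain ⟨b, hb⟩ := H₀.exists_signs
  set H := H₀.rebase b with hH
  have hxa : H.x = a := by rw [hH, Hyp.rebase_x, hx]
  obtain ⟨t7, t0, tnv, tev⟩ := real_tables
  have hinv : a⁻¹ = H.emb 26 := by rw [← hxa, Hyp.x, ← H.emb_nv, tnv]
  have hneg : ∀ Ds, H.Signs Ds → (7 : Fin 8) ∈ Ds → ∃ g, g * a * g⁻¹ = a⁻¹ := by
    intro Ds hs h7
    obtain ⟨g, hg⟩ := hs.mem h7 0
    exact ⟨g, by rw [hinv, ← t7, ← hxa, Hyp.x, hg]⟩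
  constructor
  · intro hnr
    rcases hb with hs | hs | hs | hs
    · exact Or.inl (H.exists_index_three hs)
    · obtain ⟨g, hg⟩ := hneg _ hs (by decide)
      exact absurd hg (hnr g)
    · exact Or.inr (H.iso_psp (tev.symm ▸ hs) F hF)
    · obtain ⟨g, hg⟩ := hneg _ hs (by decide)
      exact absurd hg (hnr g)
  · rintro ⟨g, hg⟩
    rw [hinv, ← hxa] at hg
    rcases hb with hs | hs | hs | hs
    · exfalso
      obtain ⟨M, hM, hMv⟩ := H.fusion_app hg
      obtain ⟨d, hd, c, rfl⟩ := (hs M).1 hM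
      rw [List.mem_singleton] at hd
      subst hd
      exact t0 c hMv
    · left
      rw [← hxa]
      exact normalizer_x_eq_top H hs
    · exact absurd hg (H.not_real (tev.symm ▸ hs) g)
    · right
      obtain ⟨D, hD⟩ := Hyp.exists_flips hs
      rcases Hyp.Signs.C_nine hs with h9 | ⟨L, hL, ⟨φ₀⟩⟩
      · exact Or.inl (hD.iso_aut h9 F hF)
      · obtain ⟨φ, hX⟩ := hD.exists_six hL φ₀
        exact Or.inr (hX.iso_sp F₂ hF₂)

end CfsgLib.PSpFourRec
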