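import Cfsg.Agent.PSpFourRec.Hyp
import Cfsg.Agent.ThreeSymNine.Classes

/-!
# The automizer is one of four monomial groups, after a change of basis

The normalizer of the elementary abelian subgroup satisfies the hypotheses of
`CfsgLib.ThreeSymNine`, whose determination of the automizer applies.
-/

set_option autoImplicit false
set_option maxRecDepth 100000
set_option linter.style.haveILetI false

namespace CfsgLib.PSpFourRec

open CfsgLib.AltNine CfsgLib.PSpFourThree Subgroup
open CfsgLib.ThreeSymNine (Mat app mm pmat dmat mono pa pm pinv dig sm nv_nv pa_table app_pmat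
  app_one ext_app zv zv_table)

attribute [local instance 10000] List.decidableBAll List.decidableBEx

universe u

theorem zv_tE : ∀ (b : Fin 3) (v : Fin 27),
    tmul (tE v) ((0, (b.1 : ZMod 3) * chi (tE v).2), 1) = tE (zv b v) := by decide +kernel

theorem chi_tz_tS : ∀ (b : Fin 3) (a : Fin 6),
    tmul (tS a) ((0, (b.1 : ZMod 3) * chi (tS a).2), 1) = tS a := by decide +kernel

theorem twist_zero : ∀ _g : S23, ∀ b : Fin 3, (b.1 : ZMod 3) * chi (tz.2) = 0 ∧
    tmul tz ((0, (b.1 : ZMod 3) * chi tz.2), 1) = tz := by decide +kernel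

namespace Hyp

variable {G : Type u} [Group G] (H : Hyp G)

theorem mem_N_iff [Finite G] {g : G} : g ∈ H.N ↔ ∀ v, g * H.emb v * g⁻¹ ∈ H.J :=
  ⟨fun hg v => (mem_normalizer_iff.1 hg _).1 (H.emb_mem v), H.mem_N⟩

/-- The normalizer satisfies the hypotheses of the symmetric case. -/
def nine [Finite G] : CfsgLib.ThreeSymNine.Hyp H.N where
  emb v := ⟨H.emb v, H.J_le_N (H.emb_mem v)⟩
  emb_add u v := Subtype.ext (H.emb_add u v)
  S a := ⟨H.S a, H.mem_N fun v => by rw [H.S_act]; exact H.emb_mem _⟩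
  S_mul a b := Subtype.ext (H.S_mul a b)
  S_act a v := Subtype.ext (H.S_act a v)
  indep v a h := H.indep v a (congrArg Subtype.val h)
  cent g hg := by
    obtain ⟨v, a, h⟩ := H.cent (g := (g : G)) (congrArg Subtype.val hg) (H.mem_N_iff.1 g.2)
    exact ⟨v, a, Subtype.ext h⟩
  sig K hK hn := by
    refine (map_eq_bot_iff_of_injective K H.N.subtype_injective).1 (H.sig (K.map H.N.subtype) ?_ ?_)
    · rwa [← Nat.card_congr (K.equivMapOfInjective _ H.N.subtype_injective).toEquiv]
    · rintro v _ ⟨k, hk, rfl⟩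
      exact ⟨_, hn v k hk, rfl⟩

theorem nine_W [Finite G] (M : Mat) : H.nine.W M ↔ H.W M :=
  ⟨fun ⟨g, hg⟩ => ⟨g, fun v => congrArg Subtype.val (hg v)⟩,
    fun ⟨g, hg⟩ => ⟨⟨g, Induces.mem_N hg⟩, fun v => Subtype.ext (hg v)⟩⟩

/-- A central twist. -/
def twist (b : Fin 3) (t : T) : T := tmul t ((0, (b.1 : ZMod 3) * chi t.2), 1)

theorem twist_val (b : Fin 3) (h : PSpFourThree.H) (g : S23) :
    twist b (h, g) = ((h.1, h.2 + (b.1 : ZMod 3) * chi g), g) := by
  simp [twist, tmul, hmul, om, Matrix.mulVec_zero]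

theorem twist_mul (b : Fin 3) (x y : T) : twist b (tmul x y) = tmul (twist b x) (twist b y) := by
  obtain ⟨⟨v, c⟩, g⟩ := x
  obtain ⟨⟨w, d⟩, k⟩ := y
  simp only [tmul, hmul, twist_val, chi_mul]
  refine Prod.ext (Prod.ext rfl ?_) rfl
  simp only
  ring

theorem twist_bij (b : Fin 3) : Function.Bijective (twist b) := by
  refine (Finite.injective_iff_bijective).1 ?_
  rintro ⟨⟨v, c⟩, g⟩ ⟨⟨w, d⟩, k⟩ h
  simp only [twist_val, Prod.mk.injEq] at h
  obtain ⟨⟨rfl, h2⟩, rfl⟩ := h
  exact Prod.ext (Prod.ext rfl (add_right_cancel h2)) rfl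

/-- The hypotheses in a new basis. -/
def rebase (b : Fin 3) : Hyp G where
  par t := H.par (twist b t)
  par_mul x y := by rw [twist_mul, H.par_mul]
  par_inj := H.par_inj.comp (twist_bij b).1
  par_cent g := by
    show g * H.par (tmul tz _) = H.par (tmul tz _) * g ↔ _
    rw [(twist_zero 1 b).2, H.par_cent]
    exact ((twist_bij b).2.exists (p := fun t => H.par t = g))
  sig K hK hn := H.sig K hK fun v k hk => by
    obtain ⟨w, rfl⟩ := zv_table.2.2.2.2 b v
    have := hn w k hk
    rwa [show twist b (tE w) = tE (zv b w) from zv_tE b w] at this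

theorem rebase_emb (b : Fin 3) (v : Fin 27) : (H.rebase b).emb v = H.emb (zv b v) :=
  congrArg H.par (zv_tE b v)

theorem rebase_S (b : Fin 3) (a : Fin 6) : (H.rebase b).S a = H.S a :=
  congrArg H.par (chi_tz_tS b a)

theorem rebase_x (b : Fin 3) : (H.rebase b).x = H.x := by
  rw [x, x, rebase_emb, zv_table.2.2.1]

theorem rebase_J (b : Fin 3) : (H.rebase b).J = H.J := by
  ext g
  refine ⟨?_, ?_⟩
  · rintro ⟨v, rfl⟩; exact ⟨_, (H.rebase_emb b v).symm⟩
  · rintro ⟨v, rfl⟩
    obtain ⟨w, rfl⟩ := zv_table.2.2.2.2 b v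
    exact ⟨w, H.rebase_emb b w⟩

/-- The allowed signs are the given ones. -/
def Signs (Ds : List (Fin 8)) : Prop := ∀ M, H.W M ↔ ∃ d ∈ Ds, ∃ a, M = mono d a

/-- All signs. -/
abbrev allSigns : List (Fin 8) := [0, 1, 2, 3, 4, 5, 6, 7]

/-- After a change of basis, one of four cases. -/
theorem exists_signs [Finite G] : ∃ b, (H.rebase b).Signs [0] ∨ (H.rebase b).Signs [0, 7] ∨
    (H.rebase b).Signs [0, 3, 5, 6] ∨ (H.rebase b).Signs allSigns := by
  obtain ⟨b, hb⟩ := H.nine.exists_mono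
  refine ⟨b, ?_⟩
  have hW : ∀ M, (H.rebase b).W M ↔ (H.nine.rebase b).W M := by
    intro M
    constructor
    · rintro ⟨g, hg⟩
      have hgN : g ∈ H.N := by
        show g ∈ normalizer (H.J : Set G)
        rw [← H.rebase_J b]
        exact Induces.mem_N hg
      refine ⟨⟨g, hgN⟩, fun v => Subtype.ext ?_⟩
      show g * H.emb (zv b v) * g⁻¹ = H.emb (zv b (app M v))
      rw [← rebase_emb, ← rebase_emb, hg v]
    · rintro ⟨g, hg⟩
      refine ⟨g, fun v => ?_⟩
      rw [rebase_emb, rebase_emb]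
      exact congrArg Subtype.val (hg v)
  rcases (H.nine.rebase b).four_cases hb with h | h | h | h
  · exact Or.inl fun M => (hW M).trans (h M)
  · exact Or.inr (Or.inl fun M => (hW M).trans (h M))
  · exact Or.inr (Or.inr (Or.inl fun M => (hW M).trans (h M)))
  · exact Or.inr (Or.inr (Or.inr fun M => (hW M).trans (h M)))

variable {H}

theorem Signs.mem {Ds : List (Fin 8)} (hs : H.Signs Ds) {d : Fin 8} (hd : d ∈ Ds) (a : Fin 6) :
    H.W (mono d a) := (hs _).2 ⟨d, hd, a, rfl⟩

end Hyp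

end CfsgLib.PSpFourRec
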