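import Cfsg.Agent.SelfThree.Main
import Cfsg.Agent.Solvable.CoprimeAbelian

/-!
A group `R` with a normal 2-subgroup `U` and an element `e` of order three which is self-centralising
modulo `U`, acted on by a commuting element `d` of order three outside `R`.
-/

set_option autoImplicit false
set_option linter.style.haveILetI false

namespace CfsgLib.PSpFourRec.SelfCentCore

open Subgroup CfsgLib.SelfThree
open scoped Pointwise

universe u

variable {G : Type u} [Group G]

/-- Powers of an element whose cube is one. -/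
theorem zpow_cases {x : G} (h : x ^ 3 = 1) (i : ℤ) : x ^ i = 1 ∨ x ^ i = x ∨ x ^ i = x⁻¹ := by
  have h3 : x ^ (3 : ℤ) = 1 := by exact_mod_cast h
  rw [← Int.emod_add_mul_ediv i 3, zpow_add, zpow_mul, h3, one_zpow, mul_one]
  have h0 := Int.emod_nonneg i (show (3 : ℤ) ≠ 0 by norm_num)
  have h2 := Int.emod_lt_of_pos i (show (0 : ℤ) < 3 by norm_num)
  interval_cases hk : i % 3
  · exact Or.inl (zpow_zero x)
  · exact Or.inr (Or.inl (zpow_one x))
  · refine Or.inr (Or.inr (eq_inv_of_mul_eq_one_left ?_))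
    rw [zpow_two, ← h, pow_succ, pow_succ, pow_one, mul_assoc]

/-- A normal subgroup of `R`, viewed in `G`, is normalised by `R`. -/
theorem le_normalizer_map {R : Subgroup G} (K : Subgroup R) [hK : K.Normal] :
    R ≤ normalizer ((K.map R.subtype : Subgroup G) : Set G) := by
  intro r hr
  rw [mem_normalizer_iff]
  intro g
  constructor
  · rintro ⟨k, hk, rfl⟩
    exact ⟨⟨r, hr⟩ * k * ⟨r, hr⟩⁻¹, hK.conj_mem k hk _, by simp⟩
  · rintro ⟨k, hk, e⟩
    refine ⟨⟨r, hr⟩⁻¹ * k * ⟨r, hr⟩, by simpa using hK.conj_mem k hk ⟨r, hr⟩⁻¹, ?_⟩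
    have e' : (k : G) = r * g * r⁻¹ := e
    simp [e', mul_assoc]

/-- `2 ^ a ≢ 5 (mod 7)`. -/
theorem three_mul_two_pow_mod_seven (a : ℕ) : 3 * 2 ^ a % 7 ≠ 1 := by
  have h : 2 ^ a % 7 = 1 ∨ 2 ^ a % 7 = 2 ∨ 2 ^ a % 7 = 4 := by
    induction a with
    | zero => exact Or.inl rfl
    | succ a ih => rw [pow_succ, Nat.mul_mod]; rcases ih with e | e | e <;> rw [e] <;> omega
  omega

section Abelian

variable {d e : G} (hde : d * e = e * d)

/-- The product map of two commuting cyclic groups. -/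
def pairHom : zpowers d × zpowers e →* G :=
  (zpowers d).subtype.noncommCoprod (zpowers e).subtype (fun a b => by
    obtain ⟨i, hi⟩ := mem_zpowers_iff.1 a.2
    obtain ⟨j, hj⟩ := mem_zpowers_iff.1 b.2
    show Commute (a : G) b
    rw [← hi, ← hj]
    exact (Commute.zpow_zpow hde i j))

theorem pairHom_apply (a : zpowers d) (b : zpowers e) : pairHom hde (a, b) = a * b :=
  MonoidHom.noncommCoprod_apply _ _ _ (a, b)

theorem mem_range_iff {x : G} :
    x ∈ (pairHom hde).range ↔ ∃ j i : ℤ, x = d ^ j * e ^ i := by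
  constructor
  · rintro ⟨⟨⟨a, ha⟩, ⟨b, hb⟩⟩, rfl⟩
    obtain ⟨j, rfl⟩ := mem_zpowers_iff.1 ha
    obtain ⟨i, rfl⟩ := mem_zpowers_iff.1 hb
    exact ⟨j, i, pairHom_apply hde _ _⟩
  · rintro ⟨j, i, rfl⟩
    exact ⟨(⟨_, zpow_mem (mem_zpowers d) j⟩, ⟨_, zpow_mem (mem_zpowers e) i⟩),
      pairHom_apply hde _ _⟩

theorem range_cases (hd3 : d ^ 3 = 1) {x : G} (hx : x ∈ (pairHom hde).range) :
    x ∈ zpowers e ∨ ∃ i : ℤ, x = d * e ^ i ∨ x⁻¹ = d * e ^ i := by
  obtain ⟨j, i, rfl⟩ := (mem_range_iff hde).1 hx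
  rcases zpow_cases hd3 j with h | h | h <;> rw [h]
  · exact Or.inl (by rw [one_mul]; exact zpow_mem (mem_zpowers e) i)
  · exact Or.inr ⟨i, Or.inl rfl⟩
  · refine Or.inr ⟨-i, Or.inr ?_⟩
    rw [mul_inv_rev, inv_inv, zpow_neg]
    exact ((Commute.zpow_right (show Commute d e from hde) i).inv_right).eq.symm

theorem range_isMulCommutative : IsMulCommutative (pairHom hde).range := by
  refine ⟨⟨fun x y => Subtype.ext ?_⟩⟩
  obtain ⟨j, i, hx⟩ := (mem_range_iff hde).1 x.2
  obtain ⟨k, l, hy⟩ := (mem_range_iff hde).1 y.2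
  show (x : G) * y = y * x
  rw [hx, hy]
  have hc : Commute d e := hde
  exact (((Commute.zpow_zpow (Commute.refl d) j k).mul_right (hc.zpow_zpow j l)).mul_left
    ((hc.symm.zpow_zpow i k).mul_right (Commute.zpow_zpow (Commute.refl e) i l))).eq

end Abelian

variable [Finite G]

/-- The Sylow subgroup of order five or seven is centralised by an element of the outer group of
order nine. -/
theorem exists_centralised {R A : Subgroup G} [IsMulCommutative A] (hA : Nat.card A = 9)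
    (hAR : A ≤ normalizer (R : Set G)) {p k : ℕ} (hp : p = 5 ∨ p = 7)
    (hR : Nat.card R = p * (3 * 2 ^ k)) :
    ∃ a ∈ A, a ≠ 1 ∧ ∃ g ∈ R, orderOf g = p ∧ Commute g a := by
  classical
  haveI : Fact p.Prime := ⟨by rcases hp with rfl | rfl <;> norm_num⟩
  haveI : Fact (Nat.Prime 3) := ⟨Nat.prime_three⟩
  have hpR : ¬ p ∣ 3 * 2 ^ k := fun hd => by
    rcases (Fact.out : p.Prime).dvd_mul.1 hd with h | h
    · have := Nat.le_of_dvd (by norm_num) h; rcases hp with rfl | rfl <;> omega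
    · have := Nat.le_of_dvd (by norm_num) ((Fact.out : p.Prime).dvd_of_dvd_pow h)
      rcases hp with rfl | rfl <;> omega
  have hcardP : ∀ P : Sylow p R, Nat.card (P : Subgroup R) = p := fun P =>
    (CfsgLib.SmallSimple.card_sylow_eq P (k := 1) (m := 3 * 2 ^ k) (by rw [hR, pow_one]) hpR).trans
      (pow_one p)
  set n := Nat.card (Sylow p R) with hn
  have hn_dvd : n ∣ 3 * 2 ^ k := by
    obtain ⟨P⟩ : Nonempty (Sylow p R) := Sylow.nonempty
    have h1 := Sylow.card_dvd_index P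
    have h2 := (P : Subgroup R).card_mul_index
    rw [hcardP P, hR] at h2
    rwa [Nat.eq_of_mul_eq_mul_left (Fact.out : p.Prime).pos h2] at h1
  have hn9 : ¬ 9 ∣ n := fun h9 => by
    have h1 : 3 * 3 ∣ 3 * 2 ^ k := h9.trans hn_dvd
    have h2 := Nat.prime_three.dvd_of_dvd_pow (Nat.dvd_of_mul_dvd_mul_left (by norm_num) h1)
    omega
  have hn3 : p = 7 → ¬ 3 ∣ n := by
    rintro rfl ⟨m, hm⟩
    have h1 : m ∣ 2 ^ k := Nat.dvd_of_mul_dvd_mul_left (by norm_num) (hm ▸ hn_dvd)
    obtain ⟨a, -, rfl⟩ := (Nat.dvd_prime_pow Nat.prime_two).1 h1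
    have h2 : n % 7 = 1 := card_sylow_modEq_one 7 R
    rw [hm] at h2
    exact three_mul_two_pow_mod_seven a h2
  let φ : A →* MulAut R :=
    { toFun := fun a =>
        { toFun := fun r => ⟨(a : G) * r * (a : G)⁻¹, (mem_normalizer_iff.1 (hAR a.2) r).1 r.2⟩
          invFun := fun r => ⟨(a : G)⁻¹ * r * a,
            (mem_normalizer_iff.1 (hAR a.2) _).2 (by simp [mul_assoc])⟩
          left_inv := fun r => Subtype.ext (by group)
          right_inv := fun r => Subtype.ext (by group)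
          map_mul' := fun r s => Subtype.ext (by simp only [Subgroup.coe_mul]; group) }
      map_one' := MulEquiv.ext fun r => Subtype.ext (by simp)
      map_mul' := fun a b => MulEquiv.ext fun r => Subtype.ext (by simp [mul_assoc]) }
  letI : MulDistribMulAction A R := MulDistribMulAction.compHom R φ
  have hcoe : ∀ (a : A) (r : R), ((a • r : R) : G) = (a : G) * r * (a : G)⁻¹ := fun a r => rfl
  have hA3 : IsPGroup 3 A := IsPGroup.of_card (n := 2) (by rw [hA]; norm_num)
  -- a Sylow subgroup with a large stabiliser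
  obtain ⟨P, hS⟩ : ∃ P : Sylow p R,
      ¬ Nat.card (MulAction.stabilizer A P) ∣ p - 1 := by
    rcases hp with rfl | rfl
    · by_contra hall
      push Not at hall
      have hfree : ∀ P : Sylow 5 R, Nat.card (MulAction.stabilizer A P) = 1 := fun P => by
        have h1 : Nat.card (MulAction.stabilizer A P) ∣ 9 := hA ▸ card_subgroup_dvd_card _
        exact Nat.eq_one_of_dvd_coprimes (show Nat.Coprime 9 4 by norm_num) h1 (hall P)
      refine hn9 ?_
      letI := Fintype.ofFinite (MulAction.orbitRel.Quotient A (Sylow 5 R))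
      have e := Nat.card_congr (MulAction.selfEquivSigmaOrbits A (Sylow 5 R))
      rw [Nat.card_sigma] at e
      rw [hn, e]
      refine Finset.dvd_sum fun ω _ => ?_
      have h3 := Nat.card_congr (MulAction.orbitProdStabilizerEquivGroup A ω.out)
      rw [Nat.card_prod, hfree, mul_one, hA] at h3
      exact h3 ▸ dvd_rfl
    · obtain ⟨P, hP⟩ := hA3.nonempty_fixed_point_of_prime_not_dvd_card (Sylow 7 R) (hn3 rfl)
      refine ⟨P, ?_⟩
      have htop : MulAction.stabilizer A P = ⊤ := eq_top_iff.2 fun a _ => hP a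
      rw [htop, Subgroup.card_top, hA]
      norm_num
  -- it is centralised by an element of the stabiliser
  set PG : Subgroup G := (P : Subgroup R).map R.subtype with hPG
  have hPGp : Nat.card PG = p := by
    rw [hPG, card_map_of_injective R.subtype_injective, hcardP]
  set S : Subgroup G := (MulAction.stabilizer A P).map A.subtype with hSdef
  have hSn : S ≤ normalizer (PG : Set G) := by
    rintro _ ⟨a, ha, rfl⟩
    have ha' : a • (P : Subgroup R) = P := by
      have h1 : (a • P : Sylow p R) = P := MulAction.mem_stabilizer_iff.1 ha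
      conv_rhs => rw [← h1]
      rfl
    rw [mem_normalizer_iff]
    intro g
    constructor
    · rintro ⟨r, hr, rfl⟩
      exact ⟨a • r, ha' ▸ Subgroup.smul_mem_pointwise_smul r a _ hr, hcoe a r⟩
    · rintro ⟨r, hr, e⟩
      refine ⟨a⁻¹ • r, ?_, ?_⟩
      · rw [SetLike.mem_coe, ← Subgroup.smul_mem_pointwise_smul_iff (a := a), smul_inv_smul, ha']
        exact hr
      · show ((a⁻¹ • r : R) : G) = g
        have e' : (r : G) = (a : G) * g * (a : G)⁻¹ := e
        rw [hcoe, e']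
        simp [mul_assoc]
  obtain ⟨a, haS, ha1, hac⟩ : ∃ a ∈ S, a ≠ 1 ∧ a ∈ centralizer (PG : Set G) := by
    by_contra hno
    push Not at hno
    let ψ := PG.normalizerMonoidHom.comp (Subgroup.inclusion hSn)
    have hψ : Function.Injective ψ := by
      rw [← MonoidHom.ker_eq_bot_iff, eq_bot_iff]
      rintro ⟨a, ha⟩ hk
      rw [mem_bot]
      by_contra h1
      refine hno a ha (fun h => h1 (Subtype.ext h)) ?_
      have hk' : Subgroup.inclusion hSn ⟨a, ha⟩ ∈ PG.normalizerMonoidHom.ker := hk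
      rw [normalizerMonoidHom_ker] at hk'
      exact hk'
    have h1 := Subgroup.card_dvd_of_injective ψ hψ
    haveI : IsCyclic PG := isCyclic_of_prime_card (p := p) hPGp
    rw [IsCyclic.card_mulAut, hPGp, Nat.totient_prime Fact.out, hSdef,
      card_map_of_injective A.subtype_injective] at h1
    exact hS h1
  obtain ⟨⟨g, hg⟩, hgo⟩ := exists_prime_orderOf_dvd_card' (G := PG) p (dvd_of_eq hPGp.symm)
  rw [Subgroup.orderOf_mk] at hgo
  exact ⟨a, map_subtype_le _ haS, ha1, g, map_subtype_le _ hg, hgo, mem_centralizer_iff.1 hac g hg⟩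

/-- The core theorem. -/
theorem exists_core {G : Type u} [Group G] [Finite G] (R U : Subgroup G) (hUR : U ≤ R)
    (hUn : R ≤ normalizer (U : Set G)) (hU : IsPGroup 2 U) {e d : G} (he : orderOf e = 3)
    (heR : e ∈ R) (hd3 : d ^ 3 = 1) (hde : d * e = e * d) (hdR : d ∈ normalizer (R : Set G))
    (hdU : d ∈ normalizer (U : Set G)) (hdnR : d ∉ R)
    (hCe : ∀ r ∈ R, r * e = e * r → ∃ i : ℤ, r * e ^ i ∈ U)
    (h2 : ∀ i : ℤ, ∀ r ∈ R, r * (d * e ^ i) = d * e ^ i * r → (orderOf r).Coprime 3 →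
      ∃ k, orderOf r = 2 ^ k) :
    ∃ M : Subgroup G, U ≤ M ∧ M ≤ R ∧ R ≤ normalizer (M : Set G) ∧
      d ∈ normalizer (M : Set G) ∧ IsPGroup 2 M ∧
      (∀ r ∈ R, ∀ s ∈ R, r ∉ M ⊔ zpowers e → s ∉ M ⊔ zpowers e → r * s ∈ M ⊔ zpowers e) ∧
      (∀ r ∈ R, r * e * r⁻¹ * e⁻¹ ∈ M ⊔ zpowers e) ∧
      (∀ g ∈ M ⊔ zpowers e, (orderOf g).Coprime 3 → g ∈ M) ∧
      (∀ K : Subgroup G, U ≤ K →
        (∀ i : ℤ, ∀ r ∈ M, r * (d * e ^ i) = d * e ^ i * r → r ∈ K) → M ≤ K) ∧
      (M = U ∨ ∃ Z : Subgroup G, U < Z ∧ Z ≤ M ∧ R ≤ normalizer (Z : Set G) ∧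
        d ∈ normalizer (Z : Set G) ∧ ∀ a ∈ Z, ∀ m ∈ M, a * m * a⁻¹ * m⁻¹ ∈ U) := by
  classical
  haveI : Fact (Nat.Prime 2) := ⟨Nat.prime_two⟩
  haveI : Fact (Nat.Prime 3) := ⟨Nat.prime_three⟩
  have he3 : e ^ 3 = 1 := by rw [← he, pow_orderOf_eq_one]
  have hcube : ∀ (H : Subgroup G), ¬ 3 ∣ Nat.card H → ∀ x ∈ H, orderOf x ≠ 3 := fun H hH x hx h =>
    hH (by rw [← h, ← Subgroup.orderOf_mk (H := H) x hx]; exact orderOf_dvd_natCard _)
  obtain ⟨nU, hnU⟩ := IsPGroup.iff_card.1 hU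
  have hU3 : ¬ 3 ∣ Nat.card U := fun h => by
    rw [hnU] at h; have := Nat.prime_three.dvd_of_dvd_pow h; omega
  have hfree : ∀ (H : Subgroup G), ¬ 3 ∣ Nat.card H → ∀ i : ℤ, e ^ i ∈ H → e ^ i = 1 := by
    intro H hH i hi
    rcases zpow_cases he3 i with h | h | h
    · exact h
    · exact absurd he (hcube H hH e (h ▸ hi))
    · exact absurd he (hcube H hH e (inv_mem_iff.1 (h ▸ hi)))
  -- the quotient
  set U0 : Subgroup R := U.subgroupOf R with hU0
  haveI hU0n : U0.Normal := (normal_subgroupOf_iff_le_normalizer hUR).2 hUn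
  have hU0c : Nat.card U0 = Nat.card U := Nat.card_congr (subgroupOfEquivOfLe hUR).toEquiv
  set π := QuotientGroup.mk' U0 with hπdef
  have hπ : ∀ r : R, π r = 1 ↔ (r : G) ∈ U := fun r =>
    (QuotientGroup.eq_one_iff r).trans mem_subgroupOf
  set eR : R := ⟨e, heR⟩ with heR'
  have hcR : Nat.card R = Nat.card (R ⧸ U0) * Nat.card U := by
    rw [← hU0c, ← Subgroup.card_eq_card_quotient_mul_card_subgroup]
  have hSC : SC (π eR) := by
    refine ⟨?_, le_antisymm (fun c hc => ?_) (zpowers_le.2 (mem_centralizer_singleton_iff.2 rfl))⟩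
    · refine (Nat.prime_three.eq_one_or_self_of_dvd _
        ((orderOf_map_dvd π eR).trans (by rw [heR', Subgroup.orderOf_mk, he]))).resolve_left ?_
      rw [orderOf_eq_one_iff, hπ]
      exact fun h => hcube U hU3 e h he
    obtain ⟨r, rfl⟩ := QuotientGroup.mk'_surjective U0 c
    rw [mem_centralizer_singleton_iff] at hc
    change π r * π eR = π eR * π r at hc
    have hk : (r : G) * e * (r : G)⁻¹ * e⁻¹ ∈ U := by
      refine (hπ (r * eR * r⁻¹ * eR⁻¹)).1 ?_
      rw [map_mul, map_mul, map_mul, map_inv, map_inv, hc]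
      group
    -- the two cyclic subgroups of order three are conjugate under `U`
    set f := (r : G) * e * (r : G)⁻¹ with hf
    have hfo : orderOf f = 3 := by
      rw [hf, ← he]; exact orderOf_injective (MulAut.conj (r : G)).toMonoidHom
        (MulAut.conj (r : G)).injective e
    set H := U ⊔ zpowers e with hH
    have hen : zpowers e ≤ normalizer (U : Set G) := (zpowers_le.2 heR).trans hUn
    have hUH : U ≤ H := le_sup_left
    have hdis : Nat.card H ∣ Nat.card U * 3 := by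
      have h1 := Subgroup.card_mul_index (U.subgroupOf H)
      rw [Nat.card_congr (subgroupOfEquivOfLe hUH).toEquiv] at h1
      rw [← h1]
      refine mul_dvd_mul_left _ ?_
      haveI : (U.subgroupOf H).Normal :=
        (normal_subgroupOf_iff_le_normalizer hUH).2 (sup_le le_normalizer hen)
      set ν := QuotientGroup.mk' (U.subgroupOf H)
      have htop : (⊤ : Subgroup (H ⧸ U.subgroupOf H)) = zpowers (ν ⟨e, mem_sup_right (mem_zpowers e)⟩) := by
        refine (eq_top_iff.2 fun q _ => ?_).symm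
        obtain ⟨⟨x, hx⟩, rfl⟩ := QuotientGroup.mk'_surjective (U.subgroupOf H) q
        have h1 : x ∈ (↑(U ⊔ zpowers e) : Set G) := hx
        rw [Subgroup.coe_mul_of_right_le_normalizer_left U (zpowers e) hen] at h1
        obtain ⟨u, hu, z, hz, h1⟩ := Set.mem_mul.1 h1
        obtain ⟨j, rfl⟩ := mem_zpowers_iff.1 hz
        refine mem_zpowers_iff.2 ⟨j, ?_⟩
        have h3 : (⟨x, hx⟩ : H) = ⟨u, hUH hu⟩ * ⟨e, mem_sup_right (mem_zpowers e)⟩ ^ j :=
          Subtype.ext (by simpa using h1.symm)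
        rw [h3, map_mul, map_zpow,
          show ν ⟨u, hUH hu⟩ = 1 from (QuotientGroup.eq_one_iff _).2 hu, one_mul]
      rw [index_eq_card, ← Subgroup.card_top (G := H ⧸ U.subgroupOf H), htop, Nat.card_zpowers]
      exact (orderOf_map_dvd ν _).trans (by rw [Subgroup.orderOf_mk, he])
    have heH : e ∈ H := mem_sup_right (mem_zpowers e)
    have hfH : f ∈ H := by
      have := mul_mem (hUH hk) heH
      rwa [inv_mul_cancel_right] at this
    have hsyl : ∀ x : H, orderOf x = 3 →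
        ∃ P : Sylow 3 H, (P : Subgroup H) = zpowers x := by
      intro x hx
      obtain ⟨P, hP⟩ := (IsPGroup.of_card (n := 1) (G := zpowers x)
        (by rw [Nat.card_zpowers, hx, pow_one])).exists_le_sylow
      refine ⟨P, (eq_of_le_of_card_ge hP ?_).symm⟩
      obtain ⟨m, hm⟩ := IsPGroup.iff_card.1 P.2
      have h1 : 3 ^ m ∣ Nat.card U * 3 := hm ▸ (card_subgroup_dvd_card _).trans hdis
      have h2 : 3 ^ m ∣ 3 := (Nat.Coprime.pow_left m
        (Nat.prime_three.coprime_iff_not_dvd.2 hU3)).dvd_of_dvd_mul_left h1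
      rw [Nat.card_zpowers, hx, hm]
      exact Nat.le_of_dvd (by norm_num) h2
    obtain ⟨P, hP⟩ := hsyl ⟨e, heH⟩ (by rw [Subgroup.orderOf_mk, he])
    obtain ⟨Q, hQ⟩ := hsyl ⟨f, hfH⟩ (by rw [Subgroup.orderOf_mk, hfo])
    obtain ⟨⟨w, hw⟩, hwQ⟩ := MulAction.exists_smul_eq H P Q
    obtain ⟨uu, huu, j, rfl⟩ : ∃ uu ∈ U, ∃ j : ℤ, w = uu * e ^ j := by
      have h1 : (w : G) ∈ (↑(U ⊔ zpowers e) : Set G) := hw
      rw [Subgroup.coe_mul_of_right_le_normalizer_left U (zpowers e) hen] at h1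
      obtain ⟨uu, huu, z, hz, h1⟩ := Set.mem_mul.1 h1
      obtain ⟨j, rfl⟩ := mem_zpowers_iff.1 hz
      exact ⟨uu, huu, j, h1.symm⟩
    have hfQ : (⟨f, hfH⟩ : H) ∈ ((⟨_, hw⟩ : H) • P : Sylow 3 H).toSubgroup := by
      rw [hwQ, hQ]; exact mem_zpowers _
    rw [Sylow.coe_subgroup_smul] at hfQ
    obtain ⟨z, hz, hze⟩ := hfQ
    rw [hP, SetLike.mem_coe] at hz
    obtain ⟨i, rfl⟩ := mem_zpowers_iff.1 hz
    have hfe : f = uu * e ^ i * uu⁻¹ := by
      have h1 : uu * e ^ j * e ^ i * (uu * e ^ j)⁻¹ = f := by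
        simpa using congrArg Subtype.val hze
      rw [← h1, mul_inv_rev, mul_assoc uu (e ^ j) (e ^ i), ← zpow_add, add_comm j i, zpow_add]
      group
    have hfe' : f = uu * e * uu⁻¹ := by
      have h1 : e ^ (i - 1) ∈ U := by
        have huR := hUn heR
        have h4 : uu * e ^ i * uu⁻¹ * e⁻¹ ∈ U := hfe ▸ hk
        have h5 : e * uu * e⁻¹ ∈ U := (mem_normalizer_iff.1 huR uu).1 huu
        have h6 := mul_mem (mul_mem (inv_mem huu) h4) h5
        have h7 : uu⁻¹ * (uu * e ^ i * uu⁻¹ * e⁻¹) * (e * uu * e⁻¹) = e ^ (i - 1) := by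
          rw [zpow_sub_one]; group
        rwa [h7] at h6
      have h8 := hfree U hU3 _ h1
      rw [hfe, show e ^ i = e ^ (i - 1) * e by rw [← zpow_add_one, sub_add_cancel], h8, one_mul]
    have hcomm : uu⁻¹ * (r : G) * e = e * (uu⁻¹ * r) := by
      calc uu⁻¹ * (r : G) * e = uu⁻¹ * f * r := by rw [hf]; group
        _ = e * (uu⁻¹ * r) := by rw [hfe']; group
    obtain ⟨l, hl⟩ := hCe _ (mul_mem (inv_mem (hUR huu)) r.2) hcomm
    have h9 : (r : G) * e ^ l ∈ U := by
      have := mul_mem huu hl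
      rwa [show uu * (uu⁻¹ * (r : G) * e ^ l) = r * e ^ l by group] at this
    have h10 : π (r * eR ^ l) = 1 := (hπ _).2 (by simpa [heR'] using h9)
    rw [map_mul, map_zpow] at h10
    rw [mem_zpowers_iff]
    exact ⟨-l, by rw [zpow_neg]; exact (eq_inv_of_mul_eq_one_left h10).symm⟩
  -- the outer group of order nine
  set A : Subgroup G := (pairHom hde).range with hA
  haveI : IsMulCommutative A := range_isMulCommutative hde
  have hdA : d ∈ A := (mem_range_iff hde).2 ⟨1, 0, by simp⟩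
  have heA : e ∈ A := (mem_range_iff hde).2 ⟨0, 1, by simp⟩
  have hAR : A ≤ normalizer (R : Set G) := by
    intro x hx
    obtain ⟨j, i, rfl⟩ := (mem_range_iff hde).1 hx
    exact mul_mem (zpow_mem hdR j) (zpow_mem (le_normalizer heR) i)
  have hA9 : Nat.card A = 9 := by
    have hinj : Function.Injective (pairHom hde) := by
      rw [← MonoidHom.ker_eq_bot_iff, eq_bot_iff]
      rintro ⟨⟨a, ha⟩, ⟨b, hb⟩⟩ h
      rw [MonoidHom.mem_ker, pairHom_apply] at h
      change a * b = 1 at h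
      obtain ⟨j, rfl⟩ := mem_zpowers_iff.1 ha
      obtain ⟨i, rfl⟩ := mem_zpowers_iff.1 hb
      have hj : d ^ j ∈ R := by rw [eq_inv_of_mul_eq_one_left h]; exact inv_mem (zpow_mem heR i)
      have hj1 : d ^ j = 1 := by
        rcases zpow_cases hd3 j with h' | h' | h'
        · exact h'
        · exact absurd (h' ▸ hj) hdnR
        · exact absurd (inv_mem_iff.1 (h' ▸ hj)) hdnR
      rw [hj1, one_mul] at h
      simp [hj1, h]
    have hdo : orderOf d = 3 :=
      orderOf_eq_prime hd3 (fun h => hdnR (h ▸ one_mem R))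
    rw [hA, ← Nat.card_congr (MonoidHom.ofInjective hinj).toEquiv, Nat.card_prod,
      Nat.card_zpowers, Nat.card_zpowers, hdo, he]
  have hA3 : ∀ x ∈ A, x ^ 3 = 1 := by
    intro x hx
    obtain ⟨j, i, rfl⟩ := (mem_range_iff hde).1 hx
    rw [((show Commute d e from hde).zpow_zpow j i).mul_pow, ← zpow_natCast, ← zpow_natCast,
      ← zpow_mul, ← zpow_mul, mul_comm j, mul_comm i, zpow_mul, zpow_mul, zpow_natCast,
      zpow_natCast, hd3, he3, one_zpow, one_zpow, one_mul]
  have hA_cases : ∀ a ∈ A, a ≠ 1 → ∀ r : G, r * a = a * r →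
      r * e = e * r ∨ ∃ i : ℤ, r * (d * e ^ i) = d * e ^ i * r := by
    intro a ha ha1 r hra
    have hc : Commute r a := hra
    rcases range_cases hde hd3 ha with h | ⟨i, h | h⟩
    · obtain ⟨i, rfl⟩ := mem_zpowers_iff.1 h
      left
      rcases zpow_cases he3 i with h' | h' | h'
      · exact absurd h' ha1
      · rw [h'] at hc; exact hc.eq
      · rw [h'] at hc; exact (by simpa using hc.inv_right : Commute r e).eq
    · exact Or.inr ⟨i, by rw [← h]; exact hc.eq⟩
    · exact Or.inr ⟨i, by rw [← h]; exact hc.inv_right.eq⟩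
  -- no non-solvable composition factor
  have hodd : ∀ p k : ℕ, (p = 5 ∨ p = 7) → Nat.card R = p * (3 * 2 ^ k) → False := by
    intro p k hp hR
    obtain ⟨a, ha, ha1, g, hgR, hgo, hga⟩ := exists_centralised hA9 hAR hp hR
    rcases hA_cases a ha ha1 g hga.eq with h | ⟨i, h⟩
    · obtain ⟨i, hi⟩ := hCe g hgR h
      have hc : Commute g (e ^ i) := (show Commute g e from h).zpow_right i
      obtain ⟨m, hm⟩ := hU ⟨_, hi⟩
      have hm' : (g * e ^ i) ^ 2 ^ m = 1 := congrArg Subtype.val hm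
      have h1 : g ^ (2 ^ m * 3) = 1 := by
        have h3 : (g * e ^ i) ^ (2 ^ m * 3) = 1 := by rw [pow_mul, hm', one_pow]
        rw [hc.mul_pow, mul_comm (2 ^ m), pow_mul (e ^ i), ← zpow_natCast (e ^ i) 3, ← zpow_mul,
          mul_comm i, zpow_mul, zpow_natCast, he3, one_zpow, one_pow, mul_one] at h3
        rwa [mul_comm]
      have hd' : p ∣ 2 ^ m * 3 := hgo ▸ orderOf_dvd_of_pow_eq_one h1
      rcases hp with rfl | rfl
      · exact absurd (Nat.eq_one_of_dvd_coprimes ((Nat.Coprime.pow_right m (by norm_num)).mul_right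
          (by norm_num : Nat.Coprime 5 3)) dvd_rfl hd') (by norm_num)
      · exact absurd (Nat.eq_one_of_dvd_coprimes ((Nat.Coprime.pow_right m (by norm_num)).mul_right
          (by norm_num : Nat.Coprime 7 3)) dvd_rfl hd') (by norm_num)
    · obtain ⟨m, hm⟩ := h2 i g hgR h (by rw [hgo]; rcases hp with rfl | rfl <;> norm_num)
      rw [hgo] at hm
      have h3 : p ∣ 2 := (Nat.Prime.dvd_of_dvd_pow (by rcases hp with rfl | rfl <;> norm_num)
        (dvd_of_eq hm))
      have := Nat.le_of_dvd (by norm_num) h3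
      omega
  rcases SelfThree.main hSC with ⟨N, hN, hnil, hcop, hq⟩ | ⟨N, hN, -, hexp, ⟨iso⟩⟩ | ⟨iso⟩
  case inr.inl =>
    exfalso
    haveI := hN
    have hN2 : IsPGroup 2 N := fun x => ⟨1, Subtype.ext (by simpa using hexp x x.2)⟩
    obtain ⟨nN, hnN⟩ := IsPGroup.iff_card.1 hN2
    have h60 : Nat.card (alternatingGroup (Fin 5)) = 60 := by
      rw [nat_card_alternatingGroup, Nat.card_fin]; rfl
    refine hodd 5 (2 + nN + nU) (Or.inl rfl) ?_
    rw [hcR, Subgroup.card_eq_card_quotient_mul_card_subgroup N, Nat.card_congr iso.toEquiv, h60,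
      hnU, hnN, pow_add, pow_add]
    ring
  case inr.inr =>
    exfalso
    obtain ⟨iso⟩ := iso
    haveI : Fact (Nat.Prime 7) := ⟨by norm_num⟩
    have h168 := CfsgLib.Linear.Small.card_psl_two (F := ZMod 7) (ZMod.card 7)
    norm_num [-Nat.card_eq_fintype_card] at h168
    refine hodd 7 (3 + nU) (Or.inr rfl) ?_
    rw [hcR, Nat.card_congr iso.toEquiv, hnU, pow_add]
    rw [show Nat.card (Matrix.ProjectiveSpecialLinearGroup (Fin 2) (ZMod 7)) = 168 by omega]
    ring
  haveI := hN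
  set M0 : Subgroup R := N.comap π with hM0
  set M : Subgroup G := M0.map R.subtype with hM
  have hUM : U ≤ M := fun x hx =>
    ⟨⟨x, hUR hx⟩, by show π _ ∈ N; rw [(hπ _).2 hx]; exact one_mem N, rfl⟩
  have hMR : M ≤ R := map_subtype_le M0
  have hRM : R ≤ normalizer (M : Set G) := le_normalizer_map M0
  have hmemM : ∀ r : R, (r : G) ∈ M ↔ π r ∈ N := fun r =>
    ⟨fun ⟨s, hs, h⟩ => Subtype.ext h ▸ hs, fun h => ⟨r, h, rfl⟩⟩
  have hMc : Nat.card M0 = Nat.card N * Nat.card U := by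
    have h1 := M0.card_mul_index
    rw [hM0, index_comap_of_surjective N (QuotientGroup.mk'_surjective U0), hcR,
      ← N.card_mul_index, mul_right_comm] at h1
    exact Nat.eq_of_mul_eq_mul_right (Nat.pos_of_ne_zero index_ne_zero_of_finite) h1
  have hN3 : ¬ 3 ∣ Nat.card N := Nat.prime_three.coprime_iff_not_dvd.1 hcop.symm
  have hMc' : Nat.card M = Nat.card M0 := card_map_of_injective R.subtype_injective
  have hM3 : ¬ 3 ∣ Nat.card M := by
    rw [hMc', hMc]
    exact fun h => (Nat.prime_three.dvd_mul.1 h).elim hN3 hU3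
  have hqc : Nat.card ((R ⧸ U0) ⧸ N) ∣ 6 := by
    rcases hq with h | ⟨⟨i⟩⟩
    · rw [h]; norm_num
    · rw [Nat.card_congr i.toEquiv, Nat.card_perm, Nat.card_fin]; rfl
  -- `M` contains every normal subgroup of order prime to three
  have hdM : d ∈ normalizer (M : Set G) := by
    rw [mem_normalizer_iff_map_conj_eq]
    set c := (MulAut.conj d).toMonoidHom
    have hcc : Nat.card (M.map c) = Nat.card M :=
      card_map_of_injective (MulAut.conj d).injective
    refine eq_of_le_of_card_ge ?_ hcc.ge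
    have hcR' : M.map c ≤ R := by
      rintro _ ⟨x, hx, rfl⟩
      exact (mem_normalizer_iff.1 hdR x).1 (hMR hx)
    set K0 := (M.map c).subgroupOf R
    haveI hK0 : K0.Normal := by
      rw [normal_subgroupOf_iff_le_normalizer hcR']
      intro r hr
      rw [mem_normalizer_iff_map_conj_eq]
      have hr' : d⁻¹ * r * d ∈ R := (mem_normalizer_iff'.1 hdR _).2 (by simpa [mul_assoc] using hr)
      have h1 := mem_normalizer_iff_map_conj_eq.1 (hRM hr')
      conv_rhs => rw [← h1]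
      rw [Subgroup.map_map M, Subgroup.map_map M]
      refine congrArg (fun f => Subgroup.map f M) (MonoidHom.ext fun x => ?_)
      show r * (d * x * d⁻¹) * r⁻¹ = d * (d⁻¹ * r * d * x * (d⁻¹ * r * d)⁻¹) * d⁻¹
      group
    haveI : (K0.map π).Normal := hK0.map π (QuotientGroup.mk'_surjective U0)
    set J := (K0.map π).map (QuotientGroup.mk' N)
    haveI : J.Normal := ‹(K0.map π).Normal›.map _ (QuotientGroup.mk'_surjective N)
    have hJ3 : ¬ 3 ∣ Nat.card J := fun h => hM3 (by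
      rw [← hcc, ← Nat.card_congr (subgroupOfEquivOfLe hcR').toEquiv]
      exact (h.trans (card_map_dvd _ _)).trans (card_map_dvd _ _))
    have hJ : J = ⊥ := eq_bot_of_card_eq _ ((hSC.quotient hN3).card_inv_six hqc
      ⟨hJ3, by rw [normalizer_eq_top_iff.2 ‹_›]; exact mem_top _⟩)
    intro x hx
    refine (hmemM ⟨x, hcR' hx⟩).2 ?_
    have h1 : QuotientGroup.mk' N (π ⟨x, hcR' hx⟩) ∈ J :=
      mem_map_of_mem _ (mem_map_of_mem _ hx)
    rw [hJ, mem_bot] at h1
    exact (QuotientGroup.eq_one_iff _).1 h1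
  have hAM : A ≤ normalizer (M : Set G) := by
    intro x hx
    obtain ⟨j, i, rfl⟩ := (mem_range_iff hde).1 hx
    exact mul_mem (zpow_mem hdM j) (zpow_mem (hRM heR) i)
  have hgen : ∀ K : Subgroup G, U ≤ K →
      (∀ i : ℤ, ∀ r ∈ M, r * (d * e ^ i) = d * e ^ i * r → r ∈ K) → M ≤ K := by
    intro K hUK hK
    have hAc : ¬ IsCyclic A := by
      intro hcyc
      obtain ⟨g, hg⟩ := hcyc.exists_generator
      have h1 : orderOf g = 9 := (orderOf_eq_card_of_forall_mem_zpowers hg).trans hA9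
      have h2 : orderOf g ∣ 3 := orderOf_dvd_of_pow_eq_one (Subtype.ext (hA3 g g.2))
      rw [h1] at h2
      norm_num at h2
    have hco : (Nat.card A).Coprime (Nat.card M) := by
      rw [hA9, show (9 : ℕ) = 3 ^ 2 by norm_num]
      exact Nat.Coprime.pow_left 2 (Nat.prime_three.coprime_iff_not_dvd.2 hM3)
    rw [← CfsgLib.CoprimeAct.generated_by_centralizers hAc hAM hco]
    refine iSup₂_le fun a ha r hr => ?_
    obtain ⟨hrM, hra⟩ := hr
    have hra' : r * a = a * r := mem_centralizer_singleton_iff.1 hra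
    rcases hA_cases a ha.1 ha.2 r hra' with h | ⟨i, h⟩
    · obtain ⟨i, hi⟩ := hCe r (hMR hrM) h
      have h1 : e ^ i ∈ M := by
        have := mul_mem (inv_mem (show r ∈ M from hrM)) (hUM hi)
        rwa [inv_mul_cancel_left] at this
      rw [hfree M hM3 i h1, mul_one] at hi
      exact hUK hi
    · exact hK i r hrM h
  -- `N` is a 2-group
  have hN2 : IsPGroup 2 N := by
    obtain ⟨P⟩ : Nonempty (Sylow 2 N) := Sylow.nonempty
    haveI hPn : (P : Subgroup N).Normal :=
      ((Group.isNilpotent_of_finite_tfae (G := N)).out 0 3 rfl rfl).1 hnil 2 inferInstance P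
    haveI : Subsingleton (Sylow 2 N) := ⟨fun Q₁ Q₂ => by
      haveI := Sylow.unique_of_normal P hPn
      exact Subsingleton.elim _ _⟩
    set K0 : Subgroup R := ((P : Subgroup N).map N.subtype).comap π
    have hle : M ≤ K0.map R.subtype := by
      refine hgen _ (fun x hx => ⟨⟨x, hUR hx⟩, ?_, rfl⟩) fun i x hx hxc => ?_
      · refine mem_comap.2 ?_
        rw [(hπ ⟨x, hUR hx⟩).2 hx]
        exact one_mem _
      · obtain ⟨r, hr, rfl⟩ := hx
        obtain ⟨k, hk⟩ := h2 i (r : G) r.2 hxc (Nat.Coprime.coprime_dvd_left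
          (by rw [← Subgroup.orderOf_mk (H := M) (r : G) ⟨r, hr, rfl⟩]; exact orderOf_dvd_natCard _)
          (Nat.prime_three.coprime_iff_not_dvd.2 hM3).symm)
        refine ⟨r, ?_, rfl⟩
        have hrN : π r ∈ N := hr
        have hn2 : IsPGroup 2 (zpowers (⟨π r, hrN⟩ : N)) := by
          have h1 : orderOf (⟨π r, hrN⟩ : N) ∣ 2 ^ k := by
            rw [Subgroup.orderOf_mk, ← hk, orderOf_coe]
            exact orderOf_map_dvd π r
          obtain ⟨l, -, hl⟩ := (Nat.dvd_prime_pow Nat.prime_two).1 h1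
          exact IsPGroup.of_card (n := l) (by rw [Nat.card_zpowers, hl])
        obtain ⟨Q, hQ⟩ := hn2.exists_le_sylow
        rw [Subsingleton.elim Q P] at hQ
        exact ⟨_, hQ (mem_zpowers _), rfl⟩
    intro x
    obtain ⟨r, hr⟩ := QuotientGroup.mk'_surjective U0 (x : R ⧸ U0)
    obtain ⟨r', hr', he'⟩ := hle ((hmemM r).2 (by rw [hπdef, hr]; exact x.2))
    obtain ⟨y, hy, hy'⟩ := hr'
    have hxy : x = y := by
      apply Subtype.ext
      rw [← hr, ← Subtype.ext he']
      exact hy'.symm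
    obtain ⟨k, hk⟩ := P.2 ⟨y, hy⟩
    exact ⟨k, hxy ▸ congrArg Subtype.val hk⟩
  have hM2 : IsPGroup 2 M := by
    obtain ⟨nN, hnN⟩ := IsPGroup.iff_card.1 hN2
    exact IsPGroup.of_card (n := nN + nU) (by rw [hMc', hMc, hnN, hnU, pow_add])
  -- the subgroup `M ⊔ zpowers e`
  set L0 : Subgroup R := M0 ⊔ zpowers eR with hL0
  have hL : M ⊔ zpowers e = L0.map R.subtype := by
    rw [hL0, Subgroup.map_sup, MonoidHom.map_zpowers]
    rfl
  have hmemL : ∀ r : R, (r : G) ∈ M ⊔ zpowers e ↔ r ∈ L0 := fun r => by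
    rw [hL]
    exact ⟨fun ⟨s, hs, h⟩ => Subtype.ext h ▸ hs, fun h => ⟨r, h, rfl⟩⟩
  have hL0c : L0.index ∣ 2 := by
    have h1 : L0.index ∣ M0.index := index_dvd_of_le le_sup_left
    have h3 : L0.index ∣ 6 := h1.trans (by
      rw [hM0, index_comap_of_surjective N (QuotientGroup.mk'_surjective U0), index_eq_card]
      exact hqc)
    refine (Nat.Coprime.dvd_of_dvd_mul_right (n := 3) ?_ (by simpa using h3))
    refine (Nat.prime_three.coprime_iff_not_dvd.2 fun h => ?_).symm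
    have h4 : 3 ∣ Nat.card L0 := by
      rw [← he, ← Subgroup.orderOf_mk (H := R) e heR,
        ← Subgroup.orderOf_mk (H := L0) eR (mem_sup_right (mem_zpowers eR))]
      exact orderOf_dvd_natCard _
    have h5 : 3 * 3 ∣ Nat.card R := by
      rw [← L0.card_mul_index]; exact mul_dvd_mul h4 h
    rw [hcR] at h5
    exact hSC.not_nine_dvd ((Nat.Coprime.pow_left 2
      (Nat.prime_three.coprime_iff_not_dvd.2 hU3)).dvd_of_dvd_mul_right (by simpa using h5))
  haveI hL0n : L0.Normal := by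
    rcases (Nat.dvd_prime Nat.prime_two).1 hL0c with h | h
    · rw [index_eq_one] at h; rw [h]; infer_instance
    · exact normal_of_index_eq_two h
  have hprime : ∀ g ∈ M ⊔ zpowers e, (orderOf g).Coprime 3 → g ∈ M := by
    intro g hg hgo
    rw [hL] at hg
    obtain ⟨r, hr, rfl⟩ := hg
    refine (hmemM r).2 ((QuotientGroup.eq_one_iff _).1 ?_)
    set χ : R →* (R ⧸ U0) ⧸ N := (QuotientGroup.mk' N).comp π with hχ
    show χ r = 1
    have h1 : L0.map χ ≤ zpowers (χ eR) := by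
      rw [hL0, Subgroup.map_sup, MonoidHom.map_zpowers, sup_le_iff]
      refine ⟨?_, le_rfl⟩
      rintro _ ⟨m, hm, rfl⟩
      rw [show χ m = 1 from (QuotientGroup.eq_one_iff (π m)).2 hm]
      exact one_mem _
    obtain ⟨i, hi⟩ := mem_zpowers_iff.1 (h1 (mem_map_of_mem χ hr))
    have hr3 : χ r ^ 3 = 1 := by
      rw [← hi, ← zpow_natCast, ← zpow_mul, mul_comm, zpow_mul, zpow_natCast, ← map_pow,
        show eR ^ 3 = 1 from Subtype.ext he3, map_one, one_zpow]
    rw [← orderOf_eq_one_iff]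
    refine Nat.eq_one_of_dvd_coprimes hgo ?_ (orderOf_dvd_of_pow_eq_one hr3)
    rw [show (R.subtype r : G) = (r : G) from rfl, orderOf_coe]
    exact orderOf_map_dvd χ r
  refine ⟨M, hUM, hMR, hRM, hdM, hM2, ?_, ?_, hprime, hgen, ?_⟩
  · intro r hr s hs h1 h2'
    rcases (Nat.dvd_prime Nat.prime_two).1 hL0c with h | h
    · refine absurd ?_ h1
      rw [← show ((⟨r, hr⟩ : R) : G) = r from rfl, hmemL, index_eq_one.1 h]
      exact mem_top _
    · rw [← show ((⟨r, hr⟩ * ⟨s, hs⟩ : R) : G) = r * s from rfl, hmemL,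
        mul_mem_iff_of_index_two h]
      exact iff_of_false (fun hh => h1 ((hmemL ⟨r, hr⟩).2 hh)) (fun hh => h2' ((hmemL ⟨s, hs⟩).2 hh))
  · intro r hr
    rw [← show ((⟨r, hr⟩ * eR * ⟨r, hr⟩⁻¹ * eR⁻¹ : R) : G) = r * e * r⁻¹ * e⁻¹ from rfl, hmemL]
    exact mul_mem (hL0n.conj_mem _ (mem_sup_right (mem_zpowers eR)) _)
      (inv_mem (mem_sup_right (mem_zpowers eR)))
  by_cases hNb : N = ⊥
  · left
    refine le_antisymm (fun x hx => ?_) hUM
    have := (hmemM ⟨x, hMR hx⟩).1 hx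
    rw [hNb, mem_bot, hπ] at this
    exact this
  right
  haveI : Nontrivial N := (nontrivial_iff_ne_bot N).2 hNb
  haveI : Nontrivial (center N) := hN2.center_nontrivial
  set Z0 : Subgroup R := ((center N).map N.subtype).comap π
  set Z : Subgroup G := Z0.map R.subtype with hZ
  have hcomm : ∀ r s : R,
      π r * π s = π s * π r ↔ (r : G) * s * (r : G)⁻¹ * (s : G)⁻¹ ∈ U := by
    intro r s
    rw [← show ((r * s * r⁻¹ * s⁻¹ : R) : G) = r * s * (r : G)⁻¹ * (s : G)⁻¹ from rfl, ← hπ,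
      map_mul, map_mul, map_mul, map_inv, map_inv, mul_inv_eq_one, mul_inv_eq_iff_eq_mul]
  have hmemZ : ∀ z : G, z ∈ Z ↔ z ∈ M ∧ ∀ m ∈ M, z * m * z⁻¹ * m⁻¹ ∈ U := by
    intro z
    constructor
    · rintro ⟨r, ⟨c, hc, hcr⟩, rfl⟩
      have hcr' : (c : R ⧸ U0) = π r := hcr
      refine ⟨(hmemM r).2 (hcr' ▸ c.2), fun m hm => ?_⟩
      obtain ⟨s, hs, rfl⟩ := hm
      refine (hcomm r s).1 ?_
      rw [← hcr']
      exact congrArg Subtype.val (mem_center_iff.1 hc ⟨π s, hs⟩).symm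
    · rintro ⟨hz, hzc⟩
      obtain ⟨r, hr, rfl⟩ := hz
      refine ⟨r, ⟨⟨π r, hr⟩, mem_center_iff.2 fun y => Subtype.ext ?_, rfl⟩, rfl⟩
      obtain ⟨s, hs⟩ := QuotientGroup.mk'_surjective U0 (y : R ⧸ U0)
      show (y : R ⧸ U0) * π r = π r * y
      rw [← hs]
      exact ((hcomm r s).2 (hzc s ((hmemM s).2 (by rw [hπdef, hs]; exact y.2)))).symm
  have hnorm : ∀ x : G, x ∈ normalizer (M : Set G) → x ∈ normalizer (U : Set G) →
      ∀ z ∈ Z, x * z * x⁻¹ ∈ Z := by
    intro x hxM hxU z hz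
    obtain ⟨hzM, hzc⟩ := (hmemZ z).1 hz
    refine (hmemZ _).2 ⟨(mem_normalizer_iff.1 hxM z).1 hzM, fun m hm => ?_⟩
    have hm' : x⁻¹ * m * x ∈ M := (mem_normalizer_iff.1 hxM _).2 (by simpa [mul_assoc] using hm)
    have := (mem_normalizer_iff.1 hxU _).1 (hzc _ hm')
    simpa [mul_assoc] using this
  have hnorm' : ∀ x : G, x ∈ normalizer (M : Set G) → x ∈ normalizer (U : Set G) →
      x ∈ normalizer (Z : Set G) := by
    intro x hxM hxU
    rw [mem_normalizer_iff]
    refine fun z => ⟨hnorm x hxM hxU z, fun hz => ?_⟩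
    simpa [mul_assoc] using hnorm x⁻¹ (inv_mem hxM) (inv_mem hxU) _ hz
  refine ⟨Z, ?_, fun z hz => ((hmemZ z).1 hz).1, fun r hr => hnorm' r (hRM hr) (hUn hr),
    hnorm' d hdM hdU, fun a ha m hm => ((hmemZ a).1 ha).2 m hm⟩
  refine SetLike.lt_iff_le_and_exists.2 ⟨fun x hx => (hmemZ x).2 ⟨hUM hx, fun m hm => ?_⟩, ?_⟩
  · rw [show x * m * x⁻¹ * m⁻¹ = x * (m * x⁻¹ * m⁻¹) by group]
    exact mul_mem hx ((mem_normalizer_iff.1 (hUn (hMR hm)) _).1 (inv_mem hx))
  obtain ⟨c, hc⟩ := exists_ne (1 : center N)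
  obtain ⟨r, hr⟩ := QuotientGroup.mk'_surjective U0 ((c : N) : R ⧸ U0)
  refine ⟨r, ⟨r, ⟨c, c.2, hr.symm⟩, rfl⟩, fun h => hc ?_⟩
  apply Subtype.ext
  apply Subtype.ext
  rw [← hr]
  exact (hπ r).2 h

end CfsgLib.PSpFourRec.SelfCentCore
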