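import Cfsg.Agent.PSpFourRec.CaseBLocal
import Cfsg.Agent.PSpFourRec.SelfCentCore

/-!
# A symmetric group of degree six in the centralizer of the basis vector: a witness outside the
# normalizer of the basis line
-/

set_option autoImplicit false
set_option maxRecDepth 100000
set_option synthInstance.maxSize 100000
set_option linter.style.haveILetI false
set_option linter.unusedSectionVars false

namespace CfsgLib.PSpFourRec

open CfsgLib.AltNine CfsgLib.PSpFourThree Subgroup TwoModel Equiv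
open CfsgLib.ThreeSymNine (Mat app mm pmat dmat mono pa pm pinv dig sm nv_nv pa_table app_pmat app_one
  ext_app allSigns dx du db pd bc mono_tables)
open CfsgLib.ThreeLocalNine (p2 p3)
open CfsgLib.ThreeSymNine.Six (tp)

attribute [local instance 10000] List.decidableBAll List.decidableBEx

universe u

/-- Centralizing three given permutations. -/
abbrev commP (A B C σ : Perm (Fin 6)) : Prop := σ * A = A * σ ∧ σ * B = B * σ ∧ σ * C = C * σ

theorem ve_tables : (∀ σ : Perm (Fin 6), veP σ → σ * σ = 1 ∧ veP ((p2 * p3) * σ * (p2 * p3)⁻¹) ∧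
      veP ((p2 * p3)⁻¹ * σ * (p2 * p3))) ∧
    veP tp ∧ veP (swap 0 3) ∧ veP (swap 1 4) ∧ veP (swap 2 5) ∧
    (p2 * p3) * swap (0 : Fin 6) 3 * (p2 * p3)⁻¹ ≠ swap 0 3 := by decide +kernel

theorem ve_abel : ∀ σ : Perm (Fin 6), veP σ → ∀ τ : Perm (Fin 6), veP τ → σ * τ = τ * σ := by
  decide +kernel

theorem ve_choice : ∀ τ : Perm (Fin 6), veP τ →
    (p2 * p3) * τ * (p2 * p3)⁻¹ * τ * (swap 0 1 * swap 3 4) =
      (swap 0 1 * swap 3 4) * ((p2 * p3) * τ * (p2 * p3)⁻¹ * τ) →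
    ∃ y : Perm (Fin 6), veP y ∧ (p2 * p3) * τ * (p2 * p3)⁻¹ * τ *
      ((swap 0 1 * swap 3 4) * y * (swap 0 1 * swap 3 4)) = y := by decide +kernel

theorem comm_tables : (4 : Fin 27) = av 4 0 ∧ av 9 4 = 13 ∧ av 13 9 = 22 ∧ av 13 (av 9 9) = 4 ∧
    app (mono 0 1) 13 = 13 ∧ app (mono 4 0) 22 = 13 ∧ av 22 (nv 13) = 9 ∧
    x4 1 2 = 3 ∧ x4 2 3 = 1 ∧ rho 2 = 3 ∧ rho 1 = 2 ∧ al 1 = 1 ∧
    (∀ a : Fin 4, ∃ b : Fin 4, x4 b (rho b) = a) ∧
    (∀ k : Fin 3, sm k 9 = 0 → k = 0) := by decide +kernel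

theorem coprime_of_two {G : Type u} [Group G] {M : Subgroup G} (hM : IsPGroup 2 M) {g : G}
    (hg : g ∈ M) : (orderOf g).Coprime 3 := by
  obtain ⟨k, hk⟩ := hM ⟨g, hg⟩
  refine Nat.Coprime.coprime_dvd_left (orderOf_dvd_of_pow_eq_one (congrArg Subtype.val hk : g ^ 2 ^ k = 1))
    ?_
  exact Nat.Coprime.pow_left k (by norm_num)

theorem mem_normalizer_of_cube {G : Type u} [Group G] {K : Subgroup G} {d : G} (hd : d ^ 3 = 1)
    (h : ∀ u ∈ K, d * u * d⁻¹ ∈ K) : d ∈ normalizer (K : Set G) := by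
  refine mem_normalizer_iff.2 fun u => ⟨h u, fun hu => ?_⟩
  have h2 := h _ (h _ hu)
  rwa [show d * (d * (d * u * d⁻¹) * d⁻¹) * d⁻¹ = d ^ 3 * u * (d ^ 3)⁻¹ by
    simp only [pow_succ, pow_zero, one_mul]; group, hd, one_mul, inv_one, mul_one] at h2

namespace Hyp

variable {G : Type u} [Group G] [Finite G] {H : Hyp G} {D : Fin 8 → G} {L : Subgroup G}
  {φ : L ≃* Perm (Fin 6)}

/-- The complement as a homomorphism. -/
def lfHom (φ : L ≃* Perm (Fin 6)) : Perm (Fin 6) →* G := MonoidHom.mk' (lf φ) (lf_mul φ)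

/-- The image of the centralizer of three permutations. -/
def lfC (φ : L ≃* Perm (Fin 6)) (A B C : Perm (Fin 6)) : Subgroup G :=
  (centralizer ({A, B, C} : Set (Perm (Fin 6)))).map (lfHom φ)

theorem mem_lfC {A B C : Perm (Fin 6)} {g : G} :
    g ∈ lfC φ A B C ↔ ∃ σ, commP A B C σ ∧ lf φ σ = g := by
  have key : ∀ σ, σ ∈ centralizer ({A, B, C} : Set (Perm (Fin 6))) ↔ commP A B C σ := fun σ => by
    rw [mem_centralizer_iff]
    constructor
    · intro h
      exact ⟨(h A (by simp)).symm, (h B (by simp)).symm, (h C (by simp)).symm⟩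
    · rintro ⟨a, b, c⟩ t ht
      simp only [Set.mem_insert_iff, Set.mem_singleton_iff] at ht
      rcases ht with rfl | rfl | rfl
      exacts [a.symm, b.symm, c.symm]
  constructor
  · rintro ⟨σ, hσ, rfl⟩
    exact ⟨σ, (key σ).1 hσ, rfl⟩
  · rintro ⟨σ, hσ, rfl⟩
    exact ⟨σ, (key σ).2 hσ, rfl⟩

theorem lfC_two {A B C : Perm (Fin 6)} (h : ∀ σ, commP A B C σ → σ * σ = 1) :
    IsPGroup 2 (lfC φ A B C) := by
  intro g
  obtain ⟨σ, hσ, hg⟩ := mem_lfC.1 g.2
  refine ⟨1, Subtype.ext ?_⟩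
  rw [pow_one, pow_two, Subgroup.coe_mul, ← hg, ← lf_mul, h σ hσ, lf_one]
  rfl

/-- Elements of order prime to three centralizing the basis vector lie in the complement. -/
theorem Six.lf_of_coprime (hX : H.Six D L φ) {r : G} (hr : r * H.emb 9 = H.emb 9 * r)
    (h3 : (orderOf r).Coprime 3) : ∃ σ, lf φ σ = r := by
  obtain ⟨k, l, hl, hrl⟩ := hX.split r hr
  have hc : Commute (H.emb (sm k 9)) l := by
    rw [H.emb_sm]
    exact ((show Commute l (H.emb 9) from hX.le l hl).symm).pow_left _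
  have hr3 : r ^ 3 ∈ L := by
    rw [hrl, hc.mul_pow, H.emb_cube, one_mul]
    exact pow_mem hl 3
  obtain ⟨m, hm⟩ := exists_pow_eq_self_of_coprime h3.symm
  exact ⟨_, lf_app φ (hm ▸ pow_mem hr3 m : r ∈ L)⟩

theorem Six.emb_nine_order (_ : H.Six D L φ) : orderOf (H.emb 9) = 3 := by
  haveI : Fact (Nat.Prime 3) := ⟨Nat.prime_three⟩
  exact orderOf_eq_prime (H.emb_cube 9) fun e =>
    absurd (H.emb_inj (e.trans H.emb_zero.symm)) (by decide)

/-- The centralizer of three self-centralizing permutations is self-centralizing over the basis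
vector. -/
theorem Six.lfC_self (hX : H.Six D L φ) {A B C : Perm (Fin 6)} (hA : commP A B C A)
    (hB : commP A B C B) (hC : commP A B C C) :
    ∀ r ∈ centralizer (lfC φ A B C : Set G), r * H.emb 9 = H.emb 9 * r →
      ∃ i : ℤ, r * H.emb 9 ^ i ∈ lfC φ A B C := by
  intro r hr hr9
  obtain ⟨k, l, hl, hrl⟩ := hX.split r hr9
  rw [H.emb_sm] at hrl
  have hl9 : Commute l (H.emb 9) := hX.le l hl
  refine ⟨-((k.1 : ℕ) : ℤ), mem_lfC.2 ⟨φ ⟨l, hl⟩, ?_, ?_⟩⟩
  · have key : ∀ X, commP A B C X → φ ⟨l, hl⟩ * X = X * φ ⟨l, hl⟩ := fun X hX' => by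
      refine lf_inj φ ?_
      rw [lf_mul, lf_mul, lf_app φ hl]
      have h1 := mem_centralizer_iff.1 hr _ (mem_lfC.2 ⟨X, hX', rfl⟩)
      have h2 : Commute (lf φ X) (H.emb 9 ^ (k.1 : ℕ)) :=
        (show Commute (lf φ X) (H.emb 9) from hX.lf_nine X).pow_right _
      refine mul_left_cancel (a := H.emb 9 ^ (k.1 : ℕ)) ?_
      rw [← mul_assoc, ← mul_assoc, ← h2.eq, mul_assoc (lf φ X), ← hrl, h1]
    exact ⟨key A hA, key B hB, key C hC⟩
  · rw [lf_app φ hl, hrl, zpow_neg, zpow_natCast,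
      ((hl9.pow_right _).symm).eq, mul_inv_cancel_right]

theorem Six.conj_x_lf (hX : H.Six D L φ) (σ : Perm (Fin 6)) :
    H.x * lf φ σ * H.x⁻¹ = lf φ ((p2 * p3) * σ * (p2 * p3)⁻¹) := by
  have hx : H.x = H.emb 9 * lf φ (p2 * p3) := by
    rw [hX.lf_vals.2.2.2.2.2.2, ← H.emb_add, comm_tables.2.1]
    rfl
  have h9 := (show Commute (lf φ ((p2 * p3) * σ * (p2 * p3)⁻¹)) (H.emb 9) from hX.lf_nine _).eq
  rw [hx, lf_conj] at *
  calc H.emb 9 * lf φ (p2 * p3) * lf φ σ * (H.emb 9 * lf φ (p2 * p3))⁻¹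
      = H.emb 9 * (lf φ (p2 * p3) * lf φ σ * (lf φ (p2 * p3))⁻¹) * (H.emb 9)⁻¹ := by group
    _ = _ := by rw [← h9, mul_inv_cancel_right]

/-- The four group. -/
abbrev U0 (φ : L ≃* Perm (Fin 6)) : Subgroup G := lfC φ (swap 0 3) (swap 1 4) (swap 2 5)

theorem Six.Q1_le_R0 (hX : H.Six D L φ) : H.Q1 ≤ centralizer (U0 φ : Set G) := by
  intro u hu
  refine mem_centralizer_iff.2 fun g hg => ?_
  obtain ⟨σ, hσ, rfl⟩ := mem_lfC.1 hg
  exact (hX.ve_comm hσ hu).1.eq

/-- The two-group generated by the quaternion groups modulo the four group. -/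
theorem Six.exists_M0 (hX : H.Six D L φ) : ∃ M : Subgroup G, IsPGroup 2 M ∧ U0 φ ≤ M ∧
    M ≤ centralizer (U0 φ : Set G) ∧ H.Q1 ≤ M ∧ H.Q2 D ≤ M ∧
    (∀ m ∈ M, H.emb 9 * m * (H.emb 9)⁻¹ ∈ M) ∧
    (∀ q ∈ H.Q1, ∀ m ∈ M, q * m * q⁻¹ * m⁻¹ ∈ U0 φ) := by
  classical
  have hF := hX.flips
  have hv := hX.lf_vals
  obtain ⟨hP, htp, ha, hb, hc, hne⟩ := ve_tables
  set U := U0 φ
  set R := centralizer (U : Set G)
  have hab := ve_abel
  have hU2 : IsPGroup 2 U := lfC_two fun σ hσ => (hP σ hσ).1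
  have hUR : U ≤ R := fun g hg => mem_centralizer_iff.2 fun u hu => by
    obtain ⟨σ, hσ, rfl⟩ := mem_lfC.1 hg
    obtain ⟨τ, hτ, rfl⟩ := mem_lfC.1 hu
    rw [← lf_mul, ← lf_mul, hab σ hσ τ hτ]
  have hzU : H.S 1 ∈ U := mem_lfC.2 ⟨tp, htp, hv.2.2.2.2.1⟩
  have hRz : ∀ r ∈ R, r * H.S 1 = H.S 1 * r := fun r hr => (mem_centralizer_iff.1 hr _ hzU).symm
  have h9R : H.emb 9 ∈ R := mem_centralizer_iff.2 fun u hu => by
    obtain ⟨σ, hσ, rfl⟩ := mem_lfC.1 hu
    exact (hX.lf_nine σ).eq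
  have h4R : D 4 ∈ R := mem_centralizer_iff.2 fun u hu => by
    obtain ⟨σ, hσ, rfl⟩ := mem_lfC.1 hu
    exact (hX.lf_four σ).eq.symm
  have hQR : H.Q1 ≤ R := hX.Q1_le_R0
  have hx3 : H.x ^ 3 = 1 := H.emb_cube 13
  have hconj := hX.conj_x_lf
  have hxU : H.x ∈ normalizer (U : Set G) := mem_normalizer_of_cube hx3 fun u hu => by
    obtain ⟨σ, hσ, rfl⟩ := mem_lfC.1 hu
    exact mem_lfC.2 ⟨_, (hP σ hσ).2.1, (hconj σ).symm⟩
  have hxR : H.x ∈ normalizer (R : Set G) := mem_normalizer_of_cube hx3 fun r hr =>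
    mem_centralizer_iff.2 fun u hu => by
      have hu' : H.x⁻¹ * u * H.x ∈ U := by
        have := (mem_normalizer_iff.1 (inv_mem hxU) u).1 hu
        rwa [inv_inv] at this
      calc u * (H.x * r * H.x⁻¹) = H.x * (H.x⁻¹ * u * H.x * r) * H.x⁻¹ := by group
        _ = H.x * (r * (H.x⁻¹ * u * H.x)) * H.x⁻¹ := by rw [mem_centralizer_iff.1 hr _ hu']
        _ = _ := by group
  have hxn : H.x ∉ R := fun h => hne (lf_inj φ (by
    have e := mem_centralizer_iff.1 h _ (mem_lfC.2 ⟨_, ha, rfl⟩ : lf φ (swap 0 3) ∈ U)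
    rw [← hconj, ← e, mul_inv_cancel_right]))
  have h4conj : ∀ {r : G}, r * H.S 1 = H.S 1 * r → r * H.emb 22 = H.emb 22 * r →
      (D 4 * r * D 4) * H.x = H.x * (D 4 * r * D 4) ∧
      (D 4 * r * D 4) * H.S 1 = H.S 1 * (D 4 * r * D 4) := fun {r} hz h22 => by
    refine ⟨?_, (((show Commute (D 4) (H.S 1) from hF.four_z.1).mul_left
      (show Commute r (H.S 1) from hz)).mul_left hF.four_z.1).eq⟩
    have := (show Commute r (H.emb 22) from h22).map (MulAut.conj (D 4)).toMonoidHom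
    simp only [MulEquiv.coe_toMonoidHom, MulAut.conj_apply, hF.inv, hF.four_emb,
      comm_tables.2.2.2.2.2.1] at this
    exact this.eq
  have hQ8 : ∀ {r : G}, r * H.x = H.x * r → r * H.S 1 = H.S 1 * r → (orderOf r).Coprime 3 →
      ∃ k, orderOf r = 2 ^ k := fun {r} h1 h2 h3 => by
    have hd : orderOf r ∣ 2 ^ 3 :=
      (card_Q1 (H := H)).trans (by norm_num : (8 : ℕ) = 2 ^ 3) ▸
        orderOf_dvd_natCard H.Q1 (mem_Q1_of_coprime h1 h2 h3)
    obtain ⟨k, -, hk⟩ := (Nat.dvd_prime_pow Nat.prime_two).1 hd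
    exact ⟨k, hk⟩
  have h2 : ∀ i : ℤ, ∀ r ∈ R, r * (H.x * H.emb 9 ^ i) = H.x * H.emb 9 ^ i * r →
      (orderOf r).Coprime 3 → ∃ k, orderOf r = 2 ^ k := by
    intro i r hr hri h3
    have hz := hRz r hr
    rcases SelfCentCore.zpow_cases (H.emb_cube 9) i with e | e | e <;> rw [e] at hri
    · rw [mul_one] at hri
      exact hQ8 hri hz h3
    · rw [Hyp.x, ← H.emb_add, comm_tables.2.2.1] at hri
      obtain ⟨a, b⟩ := h4conj hz hri
      have ho : orderOf (D 4 * r * D 4) = orderOf r := by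
        rw [show D 4 * r * D 4 = MulAut.conj (D 4) r by rw [MulAut.conj_apply, hF.inv],
          MulEquiv.orderOf_eq]
      exact ho ▸ hQ8 a b (ho.symm ▸ h3)
    · have e' : (H.emb 9)⁻¹ = H.emb (av 9 9) := by
        rw [H.emb_add]
        exact inv_eq_of_mul_eq_one_right (by rw [← mul_assoc, ← pow_two, ← pow_succ]; exact H.emb_cube 9)
      rw [e', Hyp.x, ← H.emb_add, comm_tables.2.2.2.1] at hri
      obtain ⟨M, hM⟩ := H.exists_induces_of_mem
        (hF.four_le (v := 4) (by decide) (mem_centralizer_singleton_iff.2 hri))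
      have hst : H.Stab [4] M := hM.stab (H.C_singleton 4 ▸ mem_centralizer_singleton_iff.2 hri)
      have hJ : r * r ∈ H.J := H.mem_J_of_induces_one (hF.stab_four (by decide) M hst ▸ hM.mul hM)
      have h6 : r ^ (2 * 3) = 1 := by rw [pow_mul, pow_two]; exact H.J_cube hJ
      obtain ⟨k, -, hk⟩ := (Nat.dvd_prime_pow Nat.prime_two).1
        ((h3.dvd_of_dvd_mul_right (orderOf_dvd_of_pow_eq_one h6)).trans (dvd_of_eq (pow_one 2).symm))
      exact ⟨k, hk⟩
  obtain ⟨M, hUM, hMR, hRM, -, hM2, -, hcomm, hmemM, -, hZ⟩ :=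
    SelfCentCore.exists_core R U hUR
      (fun r hr => mem_normalizer_iff.2 fun u => by
        refine ⟨fun hu => ?_, fun hu => ?_⟩
        · rwa [← mem_centralizer_iff.1 hr u hu, mul_inv_cancel_right]
        · have e := mem_centralizer_iff.1 hr _ hu
          rw [inv_mul_cancel_right] at e
          exact mul_left_cancel e ▸ hu)
      hU2 hX.emb_nine_order h9R hx3 (H.emb_comm 13 9) hxR hxU hxn
      (hX.lfC_self ha hb hc) h2
  obtain ⟨q, hq⟩ := hF.exists_reps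
  have hzM : H.S 1 ∈ M := hUM hzU
  have hQ1M : H.Q1 ≤ M := by
    have hqM : ∀ a, q a ∈ M := by
      intro a
      obtain ⟨b, rfl⟩ := comm_tables.2.2.2.2.2.2.2.2.2.2.2.2.1 a
      have hqb := hq.mem b
      have he : H.emb 9 * q b * (H.emb 9)⁻¹ = H.emb 22 * q b * (H.emb 22)⁻¹ := by
        conv_lhs => rw [← comm_tables.2.2.2.2.2.2.1, H.emb_add, H.emb_nv]
        have hcx : Commute (H.emb 13)⁻¹ (q b) :=
          ((show Commute (q b) (H.emb 13) from (Q1_cent hqb).1).symm).inv_left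
        rw [mul_assoc (H.emb 22) (H.emb 13)⁻¹, hcx.eq]
        group
      have h1 : q b * (H.emb 9 * (q b)⁻¹ * (H.emb 9)⁻¹) ∈ M := by
        refine hmemM _ ?_ ?_
        · have := hcomm (q b) (hQR hqb)
          rwa [mul_assoc, mul_assoc, ← mul_assoc (H.emb 9)] at this
        · have hin : q b * (H.emb 9 * (q b)⁻¹ * (H.emb 9)⁻¹) ∈ H.Q1 := by
            refine mul_mem hqb ?_
            rw [← conj_inv, he]
            exact inv_mem (conj_Q1 (plane_comm plane_tables.1).1 (plane_comm plane_tables.1).2 hqb)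
          exact (show Nat.Coprime 8 3 by norm_num).coprime_dvd_left
            (card_Q1 (H := H) ▸ orderOf_dvd_natCard H.Q1 hin)
      have hinv : H.ZEq (q b)⁻¹ (q b) := by
        rcases eq_or_ne b 0 with rfl | hb0
        · rw [hq.one, inv_one]; exact Or.inl rfl
        · refine Or.inr (inv_eq_of_mul_eq_one_right ?_)
          rw [← mul_assoc, hq.sq b hb0, S_sq]
      -- the product is a representative of the sum
      have key : ∀ y, H.ZEq y (q (x4 b (rho b))) → y ∈ M → q (x4 b (rho b)) ∈ M := by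
        rintro y (rfl | rfl) hy
        · exact hy
        · exact (mul_mem_cancel_right hzM).1 hy
      have hzq : ∀ c, Commute (H.S 1) (q c) := fun c => (Q1_cent (hq.mem c)).2.symm
      have hz9 : Commute (H.emb 9) (H.S 1) :=
        (plane_comm (H := H) line_facts.1).2
      refine key _ ?_ h1
      rcases hinv with e | e <;> rw [e]
      · rw [he]
        rcases hq.rot b with e' | e' <;> rw [e']
        · exact hq.add b (rho b)
        · rw [← mul_assoc]
          rcases hq.add b (rho b) with e'' | e'' <;> rw [e'']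
          · exact Or.inr rfl
          · exact Or.inl (by rw [mul_assoc, S_sq, mul_one])
      · rw [show H.emb 9 * (q b * H.S 1) * (H.emb 9)⁻¹ =
            H.emb 9 * q b * (H.emb 9)⁻¹ * H.S 1 by
          rw [mul_assoc (H.emb 9 * q b), hz9.inv_left.eq]; group, he]
        rcases hq.rot b with e' | e' <;> rw [e']
        · rw [← mul_assoc]
          rcases hq.add b (rho b) with e'' | e'' <;> rw [e'']
          · exact Or.inr rfl
          · exact Or.inl (by rw [mul_assoc, S_sq, mul_one])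
        · rw [mul_assoc (q (rho b)), S_sq, mul_one]
          exact hq.add b (rho b)
    intro y hy
    obtain ⟨a, e | e⟩ := hq.cover y hy <;> rw [e]
    · exact hqM a
    · exact mul_mem (hqM a) hzM
  have hconjM : ∀ r ∈ R, ∀ m ∈ M, r * m * r⁻¹ ∈ M := fun r hr m hm =>
    (mem_normalizer_iff.1 (hRM hr) m).1 hm
  have hQ2M : H.Q2 D ≤ M := fun y hy => by
    have := hconjM _ h4R _ (hQ1M (hF.mem_Q2.1 hy))
    rwa [hF.inv, hF.conj_four] at this
  refine ⟨M, hM2, hUM, hMR, hQ1M, hQ2M, hconjM _ h9R, ?_⟩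
  rcases hZ with e | ⟨Z, hUZ, hZM, hRZ, hxZ, hZc⟩
  · exfalso
    have h1 := hq.sq 1 (by decide)
    have h2 : q 1 ∈ U := e ▸ hQ1M (hq.mem 1)
    obtain ⟨σ, hσ, he⟩ := mem_lfC.1 h2
    rw [← he, ← lf_mul, (hP σ hσ).1, lf_one] at h1
    exact S_ne_one h1.symm
  suffices hQZ : H.Q1 ≤ Z from fun q hq m hm => hZc q (hQZ hq) m hm
  by_contra hQZ
  have hZ3 : (Nat.card Z).Coprime 3 := by
    obtain ⟨n, hn⟩ := IsPGroup.iff_card.1 (hM2.to_le hZM)
    rw [hn]
    exact Nat.Coprime.pow_left n (by norm_num)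
  have hZR : Z ≤ R := hZM.trans hMR
  have hzR : ∀ r ∈ Z, r * H.S 1 = H.S 1 * r := fun r hr => hRz r (hZR hr)
  set A := H.Fix (H.S 1)
  have hA : A ≤ normalizer (Z : Set G) := by
    intro f hf
    obtain ⟨v, hv', rfl⟩ := mem_Fix_swap hF hf
    obtain ⟨i, j, rfl⟩ : ∃ i j : Fin 3, v = av (sm i 13) (sm j 9) :=
      (show ∀ v, app (mono 0 1) v = v → ∃ i j : Fin 3, v = av (sm i 13) (sm j 9) by decide +kernel)
        v hv'
    rw [H.emb_add, H.emb_sm, H.emb_sm]
    exact mul_mem (pow_mem hxZ _) (pow_mem (hRZ h9R) _)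
  have hpart : ∀ v, ∀ f ∈ A, ∀ r ∈ Z ⊓ centralizer ({H.emb v} : Set G),
      f * r * f⁻¹ ∈ Z ⊓ centralizer ({H.emb v} : Set G) := fun v f hf r hr =>
    ⟨(mem_normalizer_iff.1 (hA hf) r).1 hr.1, mem_centralizer_singleton_iff.2
      (((Commute.mul_left (Commute.mul_left (show Commute f (H.emb v) from H.J_comm hf.1 (H.emb_mem v))
        (mem_centralizer_singleton_iff.1 hr.2 : Commute r (H.emb v)))
        (show Commute f (H.emb v) from H.J_comm hf.1 (H.emb_mem v)).inv_left)).eq)⟩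
  have p13 : Z ⊓ centralizer ({H.x} : Set G) ≤ zpowers (H.S 1) := by
    refine (Q1_dichotomy (H := H) (R := Z ⊓ centralizer ({H.x} : Set G))
      (hZ3.coprime_dvd_left (card_dvd_of_le inf_le_left))
      (fun r hr => ⟨mem_centralizer_singleton_iff.1 hr.2, hzR r hr.1⟩)
      (hpart 13 _ ((H.mem_Fix hF.named.1).2 ⟨22, plane_tables.1, rfl⟩))).2.resolve_right fun h => ?_
    exact hQZ (h.trans inf_le_left)
  have hcard : Nat.card A = 9 := (H.card_Fix hF.named.1).trans type_tables.2.2.2.1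
  haveI : IsMulCommutative A := ⟨⟨fun a b => Subtype.ext (H.J_comm a.2.1 b.2.1)⟩⟩
  refine hUZ.not_ge ?_
  rw [← CfsgLib.CoprimeAct.generated_by_centralizers
    (order_nine_not_cyclic hcard fun a ha => H.J_cube ha.1) hA
    (by rw [hcard]; exact (Nat.Coprime.pow_left 2 hZ3.symm : (3 ^ 2).Coprime _))]
  refine iSup₂_le ?_
  rintro a ⟨haA, ha1⟩
  obtain ⟨v, hv', rfl⟩ := mem_Fix_swap hF haA
  obtain ⟨r, hr, hvr⟩ := plane_tables.2.2.2.2.2.2.2.2.2.2.1 v hv' fun e => ha1 (by rw [e, H.emb_zero])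
  have hzp : zpowers (H.S 1) ≤ U := zpowers_le.2 hzU
  rintro y ⟨hyZ, hyv⟩
  have hy : y * H.emb r = H.emb r * y := by
    replace hyv : y * H.emb v = H.emb v * y := mem_centralizer_singleton_iff.1 hyv
    rcases hvr with rfl | rfl
    · exact hyv
    · rw [H.emb_nv] at hyv
      exact Commute.inv_right_iff.1 hyv
  simp only [List.mem_cons, List.not_mem_nil, or_false] at hr
  rcases hr with rfl | rfl | rfl | rfl
  · exact hzp (p13 ⟨hyZ, mem_centralizer_singleton_iff.2 hy⟩)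
  · have hy' : D 4 * y * D 4 ∈ Z := by
      have := (mem_normalizer_iff.1 (hRZ h4R) y).1 hyZ
      rwa [hF.inv] at this
    rcases mem_zpowers_z.1 (p13 ⟨hy', mem_centralizer_singleton_iff.2
      (h4conj (hzR y hyZ) hy).1⟩) with e | e
    · rw [← hF.conj_four y, e, mul_one, hF.sq]
      exact one_mem _
    · rw [← hF.conj_four y, e, hF.four_z.1, mul_assoc, hF.sq, mul_one]
      exact hzU
  · obtain ⟨i, hi⟩ := hX.lfC_self ha hb hc y (hZR hyZ) hy
    have h9 : H.emb 9 ^ i ∈ M := by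
      have := mul_mem (inv_mem (hZM hyZ)) (hUM hi)
      rwa [inv_mul_cancel_left] at this
    have h1 : H.emb 9 ^ i = 1 := orderOf_eq_one_iff.1 (Nat.eq_one_of_dvd_coprimes
      (coprime_of_two hM2 h9) dvd_rfl (orderOf_dvd_of_pow_eq_one (by
        rw [← zpow_natCast, ← zpow_mul, mul_comm, zpow_mul, zpow_natCast, H.emb_cube, one_zpow])))
    rwa [h1, mul_one] at hi
  · refine hzp (small_part (R := Z ⊓ centralizer ({H.emb 4} : Set G)) hF
      (hZ3.coprime_dvd_left (card_dvd_of_le inf_le_left))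
      (inf_le_right.trans (hF.four_le (by decide))) (fun r hr => hzR r hr.1) ?_
      ⟨hyZ, mem_centralizer_singleton_iff.2 hy⟩)
    exact fun f hf => CfsgLib.Signalizer.le_normalizer_of_conj_mem (A := A) (hpart 4) hf

/-- An element centralizing the four group and the double transposition outside the normalizer of
the basis line. -/
theorem Six.exists_witness (hX : H.Six D L φ) : ∃ w : G,
    (∀ σ, veP σ ∨ σ = swap 0 1 * swap 3 4 → Commute w (lf φ σ)) ∧
    w * H.emb 9 * w⁻¹ ≠ H.emb 9 ∧ w * H.emb 9 * w⁻¹ ≠ (H.emb 9)⁻¹ := by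
  have hF := hX.flips
  have hv := hX.lf_vals
  obtain ⟨M, hM2, hUM, hMR, hQ1M, hQ2M, h9M, hcomm⟩ := hX.exists_M0
  obtain ⟨hP, -, ha, hb, hc, -⟩ := ve_tables
  obtain ⟨q, hq⟩ := hF.exists_reps
  obtain ⟨-, -, -, -, -, h22, -, h12, h23, hr2, hr1, hal, -⟩ := comm_tables
  have hUc : ∀ {m u : G}, m ∈ M → u ∈ U0 φ → u * m = m * u := fun hm hu =>
    mem_centralizer_iff.1 (hMR hm) _ hu
  have hU2 : ∀ {u : G}, u ∈ U0 φ → u * u = 1 := by
    intro u hu
    obtain ⟨σ, hσ, rfl⟩ := mem_lfC.1 hu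
    rw [← lf_mul, (hP σ hσ).1, lf_one]
  set g := D 3 with hg
  have hg2 : g * g = 1 := hF.sq 3
  set q₁ := q 1 with hq₁
  have hq1M : q₁ ∈ M := hQ1M (hq.mem 1)
  -- the second quaternion group
  set B : Fin 4 → G := fun a => D 4 * q a * D 4
  have hBQ : ∀ a, B a ∈ H.Q2 D := fun a => hF.mem_Q2.2 (by rw [hF.conj_four]; exact hq.mem a)
  have hBM : ∀ a, B a ∈ M := fun a => hQ2M (hBQ a)
  have hzM : H.S 1 ∈ M := hQ1M S_mem_Q1
  -- the commutator with the first element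
  set f : G → G := fun p => p * q₁ * p⁻¹ * q₁⁻¹ with hf
  have hfU : ∀ p ∈ M, f p ∈ U0 φ := fun p hp => by
    have := inv_mem (hcomm q₁ (hq.mem 1) p hp)
    rwa [mul_inv_rev, mul_inv_rev, mul_inv_rev, inv_inv, inv_inv, ← mul_assoc, ← mul_assoc] at this
  have hfmul : ∀ a ∈ M, ∀ b ∈ M, f (a * b) = f b * f a := fun a ha' b hb' => by
    calc f (a * b) = a * f b * (q₁ * a⁻¹ * q₁⁻¹) := by simp only [hf]; group
      _ = f b * a * (q₁ * a⁻¹ * q₁⁻¹) := by rw [hUc ha' (hfU b hb')]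
      _ = _ := by simp only [hf]; group
  have hfz : f (H.S 1) = 1 := by
    simp only [hf]
    rw [← (Q1_cent (hq.mem 1)).2, mul_inv_cancel_right, mul_inv_cancel]
  have hfe : ∀ {y y' : G}, y' ∈ M → H.ZEq y y' → f y = f y' := by
    intro y y' hy' h
    rcases h with rfl | rfl
    · rfl
    · rw [hfmul _ hy' _ hzM, hfz, one_mul]
  set q' := g * q₁ * g with hq'
  have hg34 : g = lf φ (swap 0 1 * swap 3 4) := hv.2.2.2.2.2.1.symm
  have hd3 : g = D 4 * D 7 := by rw [hF.mul, show dx 4 7 = (3 : Fin 8) by decide +kernel]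
  have hd3' : g = D 7 * D 4 := by rw [hF.mul, show dx 7 4 = (3 : Fin 8) by decide +kernel]
  have hq'B : H.ZEq q' (B 1) := by
    have e : q' = D 4 * (D 7 * q₁ * D 7) * D 4 := by
      rw [hq']
      conv_lhs => arg 2; rw [hd3']
      rw [hd3]
      group
    rw [e]
    rcases hq.alpha 1 with e' | e' <;> rw [hq₁, e', hal]
    · exact Or.inl rfl
    · refine Or.inr ?_
      show D 4 * (q 1 * H.S 1) * D 4 = D 4 * q 1 * D 4 * H.S 1
      rw [mul_assoc (D 4 * q 1), hF.four_z.1]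
      group
  have hq'M : q' ∈ M := by
    rcases hq'B with e | e <;> rw [e]
    · exact hBM 1
    · exact mul_mem (hBM 1) hzM
  -- the value on the fixed element
  obtain ⟨τ, hτ, hfτ⟩ := mem_lfC.1 (hfU _ (hBM 2))
  have hxq : H.x * q₁ * H.x⁻¹ = q₁ := by
    rw [← (Q1_cent (hq.mem 1)).1, mul_inv_cancel_right]
  have hxB : H.ZEq (H.x * B 2 * H.x⁻¹) (B 3) := by
    have e : H.x = D 4 * H.emb 22 * D 4 := by rw [hF.four_emb, h22]; rfl
    have e' : H.x * B 2 * H.x⁻¹ = D 4 * (H.emb 22 * q 2 * (H.emb 22)⁻¹) * D 4 := by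
      rw [e]
      simp only [B, mul_inv_rev, hF.inv]
      calc D 4 * H.emb 22 * D 4 * (D 4 * q 2 * D 4) * (D 4 * ((H.emb 22)⁻¹ * D 4))
          = D 4 * H.emb 22 * (D 4 * D 4) * q 2 * (D 4 * D 4) * (H.emb 22)⁻¹ * D 4 := by group
        _ = _ := by rw [hF.sq]; group
    rw [e']
    rcases hq.rot 2 with e'' | e'' <;> rw [e'', hr2]
    · exact Or.inl rfl
    · refine Or.inr ?_
      show D 4 * (q 3 * H.S 1) * D 4 = D 4 * q 3 * D 4 * H.S 1
      rw [mul_assoc (D 4 * q 3), hF.four_z.1]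
      group
  have hB3 : f (B 3) = lf φ ((p2 * p3) * τ * (p2 * p3)⁻¹) := by
    rw [← hfe (hBM 3) hxB, ← hX.conj_x_lf, hfτ]
    simp only [hf]
    calc H.x * B 2 * H.x⁻¹ * q₁ * (H.x * B 2 * H.x⁻¹)⁻¹ * q₁⁻¹
        = H.x * B 2 * H.x⁻¹ * (H.x * q₁ * H.x⁻¹) * (H.x * B 2 * H.x⁻¹)⁻¹ *
            (H.x * q₁ * H.x⁻¹)⁻¹ := by rw [hxq]
      _ = _ := by group
  have hB1 : H.ZEq (B 1) (B 2 * B 3) := by
    have e0 : B 2 * B 3 = D 4 * (q 2 * q 3) * D 4 := by
      simp only [B]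
      calc D 4 * q 2 * D 4 * (D 4 * q 3 * D 4) = D 4 * q 2 * (D 4 * D 4) * q 3 * D 4 := by group
        _ = _ := by rw [hF.sq]; group
    rw [e0]
    rcases hq.add 2 3 with e | e <;> rw [e, h23]
    · exact Or.inl rfl
    · refine Or.inr ?_
      show D 4 * q 1 * D 4 = D 4 * (q 1 * H.S 1) * D 4 * H.S 1
      rw [mul_assoc (D 4 * (q 1 * H.S 1)), hF.four_z.1]
      calc D 4 * q 1 * D 4 = D 4 * q 1 * (H.S 1 * H.S 1) * D 4 := by rw [S_sq, mul_one]
        _ = _ := by group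
  set ρ := (p2 * p3) * τ * (p2 * p3)⁻¹ * τ with hρ
  have hr : f q' = lf φ ρ := by
    rw [hfe (hBM 1) hq'B, hfe (mul_mem (hBM 2) (hBM 3)) hB1, hfmul _ (hBM 2) _ (hBM 3), hB3, ← hfτ,
      hρ]
    simp only [lf_mul]
  -- it is fixed by the double transposition
  have hgq' : g * q' * g = q₁ := by
    rw [hq']
    calc g * (g * q₁ * g) * g = (g * g) * q₁ * (g * g) := by group
      _ = q₁ := by rw [hg2, one_mul, mul_one]
  have hsymm : g * f q' * g = f q' := by
    have e : g * f q' * g = (f q')⁻¹ := by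
      simp only [hf]
      calc g * (q' * q₁ * q'⁻¹ * q₁⁻¹) * g
          = g * q' * (g * g) * q₁ * (g * g) * q'⁻¹ * (g * g) * q₁⁻¹ * g := by
            rw [hg2]; group
        _ = (g * q' * g) * (g * q₁ * g) * (g * q' * g)⁻¹ * (g * q₁ * g)⁻¹ := by
            simp only [mul_inv_rev, show g⁻¹ = g from hF.inv 3, ← mul_assoc]
        _ = _ := by rw [hgq', ← hq']; group
    rw [e]
    exact inv_eq_of_mul_eq_one_right (hU2 (hfU _ hq'M))
  have hρg : ρ * (swap 0 1 * swap 3 4) = (swap 0 1 * swap 3 4) * ρ := by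
    refine lf_inj φ ?_
    rw [lf_mul φ ρ, lf_mul φ _ ρ, ← hg34, ← hr]
    calc f q' * g = g * f q' * g * g := by rw [hsymm]
      _ = _ := by rw [mul_assoc, hg2, mul_one]
  obtain ⟨y, hy, hye⟩ := ve_choice τ hτ hρg
  have hyU : lf φ y ∈ U0 φ := mem_lfC.2 ⟨y, hy, rfl⟩
  have hwM : q₁ * q' * lf φ y ∈ M := mul_mem (mul_mem hq1M hq'M) (hUM hyU)
  refine ⟨q₁ * q' * lf φ y, ?_, ?_, ?_⟩
  · rintro σ (hσ | rfl)
    · exact (hUc hwM (mem_lfC.2 ⟨σ, hσ, rfl⟩)).symm
    · rw [← hg34]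
      have hswap : q' * q₁ = q₁ * q' * f q' := by
        calc q' * q₁ = f q' * (q₁ * q') := by simp only [hf]; group
          _ = _ := hUc (mul_mem hq1M hq'M) (hfU _ hq'M)
      have hgw : g * (q₁ * q' * lf φ y) * g = q₁ * q' * lf φ y := by
        calc g * (q₁ * q' * lf φ y) * g = g * q₁ * (g * g) * q' * (g * g) * lf φ y * g := by
              rw [hg2]; group
          _ = (g * q₁ * g) * (g * q' * g) * (g * lf φ y * g) := by group
          _ = q₁ * q' * (lf φ ρ * lf φ ((swap 0 1 * swap 3 4) * y * (swap 0 1 * swap 3 4))) := by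
              rw [← hq', hgq', hswap, hr, hg34, ← lf_mul, ← lf_mul]
              simp only [mul_assoc]
          _ = _ := by rw [← lf_mul, hρ, hye]
      show q₁ * q' * lf φ y * g = g * (q₁ * q' * lf φ y)
      calc q₁ * q' * lf φ y * g = g * (q₁ * q' * lf φ y) * g * g := by rw [hgw]
        _ = _ := by rw [mul_assoc, hg2, mul_one]
  · intro he
    obtain ⟨i, hi⟩ := hX.lfC_self ha hb hc _ (hMR hwM) (mul_inv_eq_iff_eq_mul.1 he)
    have h9 : H.emb 9 ^ i ∈ M := by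
      have := mul_mem (inv_mem hwM) (hUM hi)
      rwa [inv_mul_cancel_left] at this
    have h1 : H.emb 9 ^ i = 1 := orderOf_eq_one_iff.1 (Nat.eq_one_of_dvd_coprimes
      (coprime_of_two hM2 h9) dvd_rfl (orderOf_dvd_of_pow_eq_one (by
        rw [← zpow_natCast, ← zpow_mul, mul_comm, zpow_mul, zpow_natCast, H.emb_cube, one_zpow])))
    rw [h1, mul_one] at hi
    have hqq : q₁ * q' ∈ U0 φ := (mul_mem_cancel_right hyU).1 hi
    have hxqq : H.x * (q₁ * q') * H.x⁻¹ ∈ U0 φ := by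
      obtain ⟨σ, hσ, e⟩ := mem_lfC.1 hqq
      exact mem_lfC.2 ⟨_, (hP σ hσ).2.1, by rw [← hX.conj_x_lf, e]⟩
    have hz1 : (q₁ * q')⁻¹ * (H.x * (q₁ * q') * H.x⁻¹) ∈ U0 φ := mul_mem (inv_mem hqq) hxqq
    rw [show H.x * (q₁ * q') * H.x⁻¹ = (H.x * q₁ * H.x⁻¹) * (H.x * q' * H.x⁻¹) by group, hxq,
      show (q₁ * q')⁻¹ * (q₁ * (H.x * q' * H.x⁻¹)) = q'⁻¹ * (H.x * q' * H.x⁻¹) by group] at hz1
    have hsq := hU2 hz1
    -- this element has order four
    have hBz : ∀ a, Commute (H.S 1) (B a) := fun a =>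
      ((show Commute (H.S 1) (D 4) from hF.four_z.1.symm).mul_right
        (show Commute (H.S 1) (q a) from (Q1_cent (hq.mem a)).2.symm)).mul_right hF.four_z.1.symm
    have hxB1 : H.ZEq (H.x * q' * H.x⁻¹) (B 2) := by
      have e : H.x = D 4 * H.emb 22 * D 4 := by rw [hF.four_emb, h22]; rfl
      have hxz : Commute H.x (H.S 1) := (plane_comm (H := H) (v := 13) comm_tables.2.2.2.2.1).2
      have e' : H.ZEq (H.x * B 1 * H.x⁻¹) (B 2) := by
        rw [show H.x * B 1 * H.x⁻¹ = D 4 * (H.emb 22 * q 1 * (H.emb 22)⁻¹) * D 4 by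
          rw [e]
          simp only [B, mul_inv_rev, hF.inv]
          calc D 4 * H.emb 22 * D 4 * (D 4 * q 1 * D 4) * (D 4 * ((H.emb 22)⁻¹ * D 4))
              = D 4 * H.emb 22 * (D 4 * D 4) * q 1 * (D 4 * D 4) * (H.emb 22)⁻¹ * D 4 := by group
            _ = _ := by rw [hF.sq]; group]
        rcases hq.rot 1 with e'' | e'' <;> rw [e'', hr1]
        · exact Or.inl rfl
        · refine Or.inr ?_
          show D 4 * (q 2 * H.S 1) * D 4 = D 4 * q 2 * D 4 * H.S 1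
          rw [mul_assoc (D 4 * q 2), hF.four_z.1]
          group
      rcases hq'B with e0 | e0 <;> rw [e0]
      · exact e'
      · rw [show H.x * (B 1 * H.S 1) * H.x⁻¹ = H.x * B 1 * H.x⁻¹ * (H.x * H.S 1 * H.x⁻¹) by group,
          hxz.eq, mul_inv_cancel_right]
        rcases e' with e'' | e'' <;> rw [e'']
        · exact Or.inr rfl
        · exact Or.inl (by rw [mul_assoc, S_sq, mul_one])
    have hinv1 : H.ZEq q'⁻¹ (B 1) := by
      have hbb : B 1 * B 1 = H.S 1 := by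
        simp only [B]
        calc D 4 * q 1 * D 4 * (D 4 * q 1 * D 4) = D 4 * q 1 * (D 4 * D 4) * q 1 * D 4 := by group
          _ = D 4 * (q 1 * q 1) * D 4 := by rw [hF.sq]; group
          _ = _ := by rw [hq.sq 1 (by decide), hF.four_z.1, mul_assoc, hF.sq, mul_one]
      rcases hq'B with e0 | e0 <;> rw [e0]
      · refine Or.inr (inv_eq_of_mul_eq_one_right ?_)
        rw [← mul_assoc, hbb, S_sq]
      · refine Or.inl (inv_eq_of_mul_eq_one_right ?_)
        rw [mul_assoc, (hBz 1).eq, ← mul_assoc, hbb, S_sq]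
    have h12' : B 1 * B 2 * (B 1 * B 2) = H.S 1 := by
      have e0 : B 1 * B 2 = D 4 * (q 1 * q 2) * D 4 := by
        simp only [B]
        calc D 4 * q 1 * D 4 * (D 4 * q 2 * D 4) = D 4 * q 1 * (D 4 * D 4) * q 2 * D 4 := by group
          _ = _ := by rw [hF.sq]; group
      have e1 : q 1 * q 2 * (q 1 * q 2) = H.S 1 := by
        rcases hq.add 1 2 with e | e <;> rw [e, h12]
        · exact hq.sq 3 (by decide)
        · rw [(show Commute (H.S 1) (q 3) from (Q1_cent (hq.mem 3)).2.symm).mul_mul_mul_comm,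
            hq.sq 3 (by decide), S_sq, mul_one]
      rw [e0]
      calc D 4 * (q 1 * q 2) * D 4 * (D 4 * (q 1 * q 2) * D 4)
          = D 4 * (q 1 * q 2) * (D 4 * D 4) * (q 1 * q 2) * D 4 := by group
        _ = D 4 * (q 1 * q 2 * (q 1 * q 2)) * D 4 := by rw [hF.sq]; group
        _ = _ := by rw [e1, hF.four_z.1, mul_assoc, hF.sq, mul_one]
    have hzz : ∀ y : G, H.ZEq y (B 1 * B 2) → y * y = H.S 1 := by
      rintro y (rfl | rfl)
      · exact h12'
      · rw [((hBz 1).mul_right (hBz 2)).mul_mul_mul_comm, h12', S_sq, mul_one]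
    refine S_ne_one ((hzz _ ?_).symm.trans hsq)
    rcases hinv1 with e1 | e1 <;> rcases hxB1 with e2 | e2 <;> rw [e1, e2]
    · exact Or.inl rfl
    · exact Or.inr (mul_assoc _ _ _).symm
    · refine Or.inr ?_
      rw [mul_assoc, (hBz 2).eq, ← mul_assoc]
    · refine Or.inl ?_
      rw [mul_assoc, ← mul_assoc (H.S 1), (hBz 2).eq, mul_assoc (B 2), S_sq, mul_one]
  · intro he
    have h1 := mul_mem hwM (h9M _ (inv_mem hwM))
    rw [← mul_assoc, ← mul_assoc, he] at h1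
    have e2 : (H.emb 9)⁻¹ * (H.emb 9)⁻¹ = H.emb 9 := by
      rw [← mul_inv_rev]
      exact inv_eq_of_mul_eq_one_left (by
        rw [← mul_assoc, ← pow_two, ← pow_succ]; exact H.emb_cube 9)
    rw [e2] at h1
    have := coprime_of_two hM2 h1
    rw [hX.emb_nine_order] at this
    exact absurd this (by norm_num)

end Hyp

end CfsgLib.PSpFourRec
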