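import Cfsg.Agent.PSpFourRec.TwoLocal

/-!
# A symmetric group of degree six in the centralizer of the basis vector: the four group
-/

set_option autoImplicit false
set_option maxRecDepth 100000
set_option synthInstance.maxSize 100000
set_option linter.style.haveILetI false
set_option linter.unusedSectionVars false

namespace CfsgLib.PSpFourRec

open CfsgLib.AltNine CfsgLib.PSpFourThree Subgroup TwoModel Equiv
open CfsgLib.ThreeSymNine (Mat app mm pmat dmat mono pa pm pinv dig sm nv_nv pa_table app_pmat app_one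
  ext_app allSigns dx du db pd bc mono_tables)
open CfsgLib.ThreeLocalNine (p2 p3)
open CfsgLib.ThreeSymNine.Six (tp)

attribute [local instance 10000] List.decidableBAll List.decidableBEx

universe u

/-- Centralizing the three transpositions. -/
abbrev veP (σ : Perm (Fin 6)) : Prop :=
  σ * swap 0 3 = swap 0 3 * σ ∧ σ * swap 1 4 = swap 1 4 * σ ∧ σ * swap 2 5 = swap 2 5 * σ

/-- Representatives of the even part. -/
def vrep (v : Fin 4) : Perm (Fin 6) :=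
  ![1, swap 0 3 * swap 1 4, swap 0 3 * swap 2 5, swap 1 4 * swap 2 5] v

theorem tp_exp : ∀ σ : Perm (Fin 6), σ * tp = tp * σ → σ ^ 12 = 1 := by decide +kernel

theorem tp_two_part : ∀ σ : Perm (Fin 6), σ * tp = tp * σ → σ ^ 4 = 1 →
    (σ * ((p2 * p3) * σ * (p2 * p3)⁻¹)) ^ 4 = 1 → veP σ := by decide +kernel

theorem ve_gen : ∀ σ : Perm (Fin 6), veP σ → σ ≠ 1 → σ ≠ tp → ∀ τ : Perm (Fin 6), veP τ →
    ∃ a b c : Fin 2, τ = σ ^ (a : ℕ) * ((p2 * p3) * σ * (p2 * p3)⁻¹) ^ (b : ℕ) * tp ^ (c : ℕ) := by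
  decide +kernel

theorem vrep_tables : (∀ v, veP (vrep v)) ∧ veP (swap 2 5) ∧ (∀ v w, vrep v * vrep w = vrep (x4 v w)) ∧
    (∀ v, (swap 0 1 * swap 3 4) * vrep v * (swap 0 1 * swap 3 4) = vrep (al v)) ∧
    (∀ v, vrep v = 1 ∨ vrep v = tp → v = 0) ∧
    (∀ v, v ≠ 0 → ∃ σ, σ * vrep v * σ⁻¹ = swap 0 1 * swap 3 4) ∧
    (∀ v, v ≠ 0 → ∃ σ, σ * (vrep v * tp) * σ⁻¹ = swap 0 1) ∧
    (∃ σ, σ * swap 2 5 * σ⁻¹ = swap (0 : Fin 6) 1) ∧
    (∃ σ, σ * (swap 2 5 * tp) * σ⁻¹ = swap (0 : Fin 6) 1 * swap 3 4) ∧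
    swap (2 : Fin 6) 5 ≠ 1 ∧ swap (2 : Fin 6) 5 ≠ tp := by decide +kernel

theorem flip_perm : (pd 4 4 = 1 ∨ pd 5 4 = 1) ∧ (∃ a, pd a 5 = 3) ∧ dx 4 1 = 5 ∧ dx 4 3 = 7 ∧
    dx 1 2 = 3 := by decide +kernel

namespace Hyp

variable {G : Type u} [Group G]

/-- The element of the complement with a given permutation. -/
def lf {L : Subgroup G} (φ : L ≃* Perm (Fin 6)) (σ : Perm (Fin 6)) : G := (φ.symm σ : L)

section

variable {L : Subgroup G} (φ : L ≃* Perm (Fin 6))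

theorem lf_mem (σ : Perm (Fin 6)) : lf φ σ ∈ L := (φ.symm σ).2

theorem lf_mul (σ τ : Perm (Fin 6)) : lf φ (σ * τ) = lf φ σ * lf φ τ := by
  simp [lf]

theorem lf_one : lf φ 1 = 1 := by simp [lf]

theorem lf_inv (σ : Perm (Fin 6)) : lf φ σ⁻¹ = (lf φ σ)⁻¹ := by simp [lf]

theorem lf_pow (σ : Perm (Fin 6)) (n : ℕ) : lf φ (σ ^ n) = lf φ σ ^ n := by simp [lf]

theorem lf_conj (σ τ : Perm (Fin 6)) : lf φ (σ * τ * σ⁻¹) = lf φ σ * lf φ τ * (lf φ σ)⁻¹ := by
  rw [lf_mul, lf_mul, lf_inv]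

theorem lf_inj {σ τ : Perm (Fin 6)} (h : lf φ σ = lf φ τ) : σ = τ :=
  φ.symm.injective (Subtype.ext h)

theorem lf_app {g : G} (hg : g ∈ L) : lf φ (φ ⟨g, hg⟩) = g := by simp [lf]

theorem lf_isConj {σ τ : Perm (Fin 6)} (h : ∃ ρ, ρ * σ * ρ⁻¹ = τ) :
    IsConj (lf φ σ) (lf φ τ) := by
  obtain ⟨ρ, rfl⟩ := h
  exact isConj_iff.2 ⟨lf φ ρ, (lf_conj φ ρ σ).symm⟩

end

variable [Finite G] {H : Hyp G} {D : Fin 8 → G} {L : Subgroup G} {φ : L ≃* Perm (Fin 6)}
  {O : Subgroup G}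

theorem Six.lf_vals (hX : H.Six D L φ) : lf φ p2 = H.emb 1 ∧ lf φ p3 = H.emb 3 ∧
    lf φ (swap 0 1) = D 1 ∧ lf φ (swap 3 4) = D 2 ∧ lf φ tp = H.S 1 ∧
    lf φ (swap 0 1 * swap 3 4) = D 3 ∧ lf φ (p2 * p3) = H.emb 4 := by
  have v1 : lf φ p2 = H.emb 1 := by rw [← hX.val1, lf_app]
  have v3 : lf φ p3 = H.emb 3 := by rw [← hX.val3, lf_app]
  have d1 : lf φ (swap 0 1) = D 1 := by rw [← hX.vald1, lf_app]
  have d2 : lf φ (swap 3 4) = D 2 := by rw [← hX.vald2, lf_app]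
  refine ⟨v1, v3, d1, d2, by rw [← hX.valS, lf_app], ?_, ?_⟩
  · rw [lf_mul, d1, d2, hX.flips.mul, flip_perm.2.2.2.2]
  · rw [lf_mul, v1, v3, ← H.emb_add, show av 1 3 = (4 : Fin 27) by decide +kernel]

theorem Six.lf_four (hX : H.Six D L φ) (σ : Perm (Fin 6)) : Commute (D 4) (lf φ σ) :=
  hX.flip_comm _ (lf_mem φ σ)

theorem Six.lf_nine (hX : H.Six D L φ) (σ : Perm (Fin 6)) :
    Commute (lf φ σ) (H.emb 9) := hX.le _ (lf_mem φ σ)

theorem Flips.conj_one_four (h : H.Flips D) : IsConj (D 1) (D 4) := by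
  obtain ⟨a, ha⟩ : ∃ a, pd a 4 = 1 := by
    rcases flip_perm.1 with p | p
    · exact ⟨_, p⟩
    · exact ⟨_, p⟩
  exact (isConj_iff.2 ⟨H.S a, by rw [h.conj, ha]⟩ : IsConj (D 4) (D 1)).symm

theorem Flips.conj_five_three (h : H.Flips D) : IsConj (D 5) (D 3) := by
  obtain ⟨a, ha⟩ := flip_perm.2.1
  exact isConj_iff.2 ⟨H.S a, by rw [h.conj, ha]⟩

theorem Six.lf_ve_Cz (hX : H.Six D L φ) {σ : Perm (Fin 6)} (h : veP σ) : lf φ σ ∈ H.Cz := by
  have hc : σ * tp = tp * σ := by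
    rw [tp, ← mul_assoc, ← mul_assoc, h.1, mul_assoc _ σ, h.2.1, ← mul_assoc, mul_assoc _ σ, h.2.2,
      ← mul_assoc]
  rw [mem_Cz, ← hX.lf_vals.2.2.2.2.1, ← lf_mul, ← lf_mul, hc]

/-- The part centralizing the basis vector is the transposition or contains the four group. -/
theorem Core.part_nine_six (hC : H.Core D O) (hX : H.Six D L φ) :
    O ⊓ centralizer ({H.emb 9} : Set G) ≤ zpowers (H.S 1) ∨
      ∀ σ, veP σ → lf φ σ ∈ O := by
  have hv := hX.lf_vals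
  have key : ∀ r ∈ O ⊓ centralizer ({H.emb 9} : Set G), ∃ σ, lf φ σ = r ∧
      σ * tp = tp * σ ∧ σ ^ 4 = 1 := by
    rintro r ⟨hrO, hr9⟩
    have hcop := hC.coprime hrO
    obtain ⟨k, l, hl, hrl⟩ := hX.split r (mem_centralizer_singleton_iff.1 hr9)
    have h3 : r ^ 3 ∈ L := by
      have hc : Commute (H.emb (sm k 9)) l := by
        rw [H.emb_sm]; exact ((show Commute l (H.emb 9) from hX.le l hl).symm).pow_left _
      rw [hrl, hc.mul_pow, H.emb_cube, one_mul]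
      exact pow_mem hl 3
    obtain ⟨m, hm⟩ := exists_pow_eq_self_of_coprime hcop.symm
    have hrL : r ∈ L := hm ▸ pow_mem h3 m
    refine ⟨φ ⟨r, hrL⟩, lf_app φ hrL, ?_, ?_⟩
    · refine lf_inj φ ?_
      rw [lf_mul, lf_mul, lf_app φ hrL, hv.2.2.2.2.1, hC.comm_z hrO]
    · have hc : φ ⟨r, hrL⟩ * tp = tp * φ ⟨r, hrL⟩ := lf_inj φ (by
        rw [lf_mul, lf_mul, lf_app φ hrL, hv.2.2.2.2.1, hC.comm_z hrO])
      refine orderOf_dvd_iff_pow_eq_one.1 (Nat.Coprime.dvd_of_dvd_mul_right ?_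
        (show orderOf (φ ⟨r, hrL⟩) ∣ 4 * 3 from orderOf_dvd_of_pow_eq_one (tp_exp _ hc)))
      rwa [MulEquiv.orderOf_eq, orderOf_mk]
  have hp : ∀ r ∈ O ⊓ centralizer ({H.emb 9} : Set G),
      H.emb 4 * r * (H.emb 4)⁻¹ ∈ O ⊓ centralizer ({H.emb 9} : Set G) := by
    rintro r ⟨hrO, hr9⟩
    refine ⟨(mem_normalizer_iff.1 (hC.fix ((H.mem_Fix hC.flips.named.1).2
      ⟨4, line_facts.2.1, rfl⟩)) r).1 hrO, mem_centralizer_singleton_iff.2 ?_⟩
    have h49 : Commute (H.emb 4) (H.emb 9) := H.emb_comm 4 9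
    exact ((h49.mul_left (show Commute r (H.emb 9) from
      mem_centralizer_singleton_iff.1 hr9)).mul_left h49.inv_left).eq
  by_cases hall : O ⊓ centralizer ({H.emb 9} : Set G) ≤ zpowers (H.S 1)
  · exact Or.inl hall
  refine Or.inr ?_
  obtain ⟨r, hr, hrz⟩ := Set.not_subset.1 hall
  obtain ⟨σ, rfl, hc, h4⟩ := key r hr
  set p := p2 * p3
  have hr' : lf φ (p * σ * p⁻¹) ∈ O ⊓ centralizer ({H.emb 9} : Set G) := by
    rw [lf_conj, hv.2.2.2.2.2.2]
    exact hp _ hr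
  obtain ⟨τ, hτ, -, h4'⟩ := key _ (mul_mem hr hr')
  rw [← lf_mul] at hτ
  rw [lf_inj φ hτ] at h4'
  have hσ := tp_two_part σ hc h4 h4'
  intro ρ hρ
  obtain ⟨a, b, c, rfl⟩ := ve_gen σ hσ (fun e => hrz (by rw [e, lf_one]; exact one_mem _))
    (fun e => hrz (by rw [e, hv.2.2.2.2.1]; exact mem_zpowers _)) ρ hρ
  rw [lf_mul, lf_mul, lf_pow, lf_pow, lf_pow, hv.2.2.2.2.1]
  exact mul_mem (mul_mem (pow_mem hr.1 _) (pow_mem hr'.1 _)) (pow_mem hC.z_mem _)

variable {Vs : List (Fin 4)} {q e : Fin 4 → G}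

/-- Involutions are conjugate into the two-subgroup. -/
theorem Two.conj_into_Tb (h : H.Two D Vs q e) (hNK : h.NK) {y : H.Xq} (hy : y * y = 1) :
    ∃ x : H.Xq, x * y * x⁻¹ ∈ h.Tb := by
  haveI : Fact (Nat.Prime 2) := ⟨Nat.prime_two⟩
  obtain ⟨R, hR⟩ := h.isPGroup_Tb.exists_le_sylow
  have hodd := h.index_odd hNK
  have hRT : (R : Subgroup H.Xq) = h.Tb := by
    refine le_antisymm ?_ hR
    have e1 : h.Tb.relIndex R ∣ h.Tb.index := relIndex_dvd_index_of_le hR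
    obtain ⟨n, hn⟩ := R.2.exists_card_eq
    have e2 : h.Tb.relIndex R ∣ 2 ^ n := hn ▸ (h.Tb.subgroupOf R).index_dvd_card
    obtain ⟨m, -, hm⟩ := (Nat.dvd_prime_pow Nat.prime_two).1 e2
    rcases Nat.eq_zero_or_pos m with rfl | hm0
    · exact relIndex_eq_one.1 (hm.trans (pow_zero 2))
    · exact absurd (even_iff_two_dvd.2 ((dvd_pow_self 2 hm0.ne').trans (hm ▸ e1)))
        (Nat.not_even_iff_odd.2 hodd)
  have hp : IsPGroup 2 (zpowers y) := by
    intro g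
    obtain ⟨i, hi⟩ := mem_zpowers_iff.1 g.2
    refine ⟨1, Subtype.ext ?_⟩
    rw [pow_one, SubmonoidClass.coe_pow, ← hi, ← zpow_natCast, ← zpow_mul, mul_comm, zpow_mul,
      zpow_natCast, pow_two, hy, one_zpow]
    rfl
  obtain ⟨S, hS⟩ := hp.exists_le_sylow
  obtain ⟨c, hc⟩ := MulAction.exists_smul_eq H.Xq S R
  refine ⟨c, ?_⟩
  rw [← hRT, ← hc, Sylow.coe_subgroup_smul]
  exact ⟨y, hS (mem_zpowers y), rfl⟩

theorem Core.two_zero' (hC : H.Core D O) (hq : H.Reps D q) (hO : H.Q2 D ≤ O) :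
    H.Two D [0] q (fun _ => 1) where
  reps := hq
  vs := by simp [vsList]
  comm a b := (mem_centralizer_iff.1 (hC.le (hO (hC.flips.mem_Q2.2 (by
    rw [hC.flips.conj_four]; exact hq.mem b)))) _ (hq.mem a))
  e_zero := rfl
  e_z _ := by rw [one_mul, mul_one]
  e_add _ _ := Or.inl (one_mul 1)
  e_q _ _ := Commute.one_left _
  e_four _ := Commute.one_right _
  e_three _ := Or.inl (by rw [mul_one, hC.flips.sq])
  e_inj v hv _ := List.mem_singleton.1 hv
  e_conj v hv hv0 := absurd (List.mem_singleton.1 hv) hv0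

/-- The four group centralizes the quaternion group. -/
theorem Core.ve_le (hC : H.Core D O) (hX : H.Six D L φ) :
    ∀ σ, veP σ → lf φ σ ∈ O := by
  refine (hC.part_nine_six hX).resolve_left fun h9 => ?_
  have hF := hC.flips
  obtain ⟨q, hq⟩ := hF.exists_reps
  have hO : H.Q2 D = O := hC.Q2_le h9
  have hT : H.Two D [0] q (fun _ => 1) := hC.two_zero' hq hO.le
  have hNK : hT.NK := hT.nk_of_core hC hO
  obtain ⟨cfg, cfj, czf, cgj, -, -, -, cgj', cfj', cgz⟩ := hF.class_facts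
  obtain ⟨-, h25, -, -, -, -, -, hc1, hc2, hne1, hne2⟩ := vrep_tables
  have hv := hX.lf_vals
  set c := lf φ (swap 2 5) with hcdef
  have hcC : c ∈ H.Cz := hX.lf_ve_Cz h25
  have hcf : IsConj c (D 4) := by
    have := lf_isConj φ hc1
    rw [hv.2.2.1] at this
    exact this.trans hF.conj_one_four
  have hcg : IsConj (c * H.S 1) (D 3) := by
    have := lf_isConj φ hc2
    rwa [lf_mul, hv.2.2.2.2.1, hv.2.2.2.2.2.1] at this
  have hc2' : c * c = 1 := by rw [hcdef, ← lf_mul, Equiv.swap_mul_self, lf_one]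
  obtain ⟨x, ⟨k, s⟩, hk, -, hy⟩ := hT.conj_into_Tb hNK (y := H.bar c) (by
    rw [← bar_mul hcC hcC, hc2', bar_one])
  have hy2 : H.phi D q (fun _ => 1) (k, s) * H.phi D q (fun _ => 1) (k, s) = 1 := by
    rw [hy]
    calc x * H.bar c * x⁻¹ * (x * H.bar c * x⁻¹) = x * (H.bar c * H.bar c) * x⁻¹ := by group
      _ = 1 := by rw [← bar_mul hcC hcC, hc2', bar_one, mul_one, mul_inv_cancel]
  by_cases hs : s = 0
  · subst hs
    rw [show H.phi D q (fun _ => 1) (k, 0) = H.kap D q (fun _ => 1) k by simp [phi, bsig]] at hy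
    obtain ⟨a, b, v⟩ := k
    rw [List.mem_singleton] at hk
    simp only at hk
    subst hk
    by_cases hab : a = 0 ∧ b = 0
    · obtain ⟨rfl, rfl⟩ := hab
      rw [hT.kap_eq] at hy
      simp only [hq.one, mul_one, hF.sq, bar_one] at hy
      rw [eq_comm, conj_eq_one_iff, bar_eq_one hcC] at hy
      rcases hy with e | e
      · exact hne1 (lf_inj φ (e.trans (lf_one φ).symm))
      · exact hne2 (lf_inj φ (e.trans hv.2.2.2.2.1.symm))
    · have hw := hT.lift_mem (a, b, 0)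
      rw [hT.kap_eq] at hy
      obtain ⟨d, -, hd⟩ := hT.pair_same (not_and_or.1 hab) hw (hT.kap_eq _).symm
      have hd' := isConj_iff.2 ⟨d, hd⟩
      rcases bar_pairs hcC hw hy.symm with ⟨p, p'⟩ | ⟨p, p'⟩
      · exact cfg ((hcf.symm.trans p).trans (hd'.trans (p'.symm.trans hcg)))
      · exact cfg ((hcf.symm.trans p).trans (hd'.symm.trans (p'.symm.trans hcg)))
  · obtain ⟨x', v, hv0, -, hx'⟩ := hT.invol_rep hk hs hy2
    simp only at hx'
    rw [hy, bar_one, one_mul] at hx'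
    have hs' : ∀ s : Fin 4, s ≠ 0 → s = 1 ∨ s = 2 ∨ s = 3 := by decide
    have hxx : ∀ {d : G}, H.bsig D s = H.bar d →
        (x' * x) * H.bar c * (x' * x)⁻¹ = H.bar d := fun {d} e => by
      rw [← e, ← hx']; group
    rcases hs' s hs with rfl | rfl | rfl
    · rcases bar_pairs hcC (hF.mem_Cz' (by decide)) (hxx (d := D 4) rfl) with ⟨-, p⟩ | ⟨p, -⟩
      · exact cgj (hcg.symm.trans p)
      · exact cfj (hcf.symm.trans p)
    · rcases bar_pairs hcC (hF.mem_Cz' (by decide)) (hxx (d := D 3) rfl) with ⟨p, -⟩ | ⟨p, -⟩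
      · exact cfg (hcf.symm.trans p)
      · exact czf ((hcf.symm.trans p).trans cgz).symm
    · rcases bar_pairs hcC (hF.mem_Cz' (by decide)) (hxx (d := D 7) rfl) with ⟨-, p⟩ | ⟨p, -⟩
      · exact cgj' (hcg.symm.trans p)
      · exact cfj' (hcf.symm.trans p)

/-- The four group commutes with both quaternion groups. -/
theorem Six.ve_comm (hX : H.Six D L φ) {σ : Perm (Fin 6)} (hσ : veP σ) {u : G} (hu : u ∈ H.Q1) :
    Commute (lf φ σ) u ∧ Commute (lf φ σ) (D 4 * u * D 4) := by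
  obtain ⟨O, hC⟩ := hX.flips.exists_core'
  have h1 : Commute (lf φ σ) u :=
    ((mem_centralizer_iff.1 (hC.le (hC.ve_le hX σ hσ))) u hu).symm
  have h4 := (hX.lf_four σ).symm
  exact ⟨h1, (h4.mul_right h1).mul_right h4⟩

/-- The data of the two-subgroup when the quaternion groups commute. -/
theorem Six.two_all (hX : H.Six D L φ) (hq : H.Reps D q)
    (hcomm : ∀ a b, Commute (q a) (D 4 * q b * D 4)) :
    H.Two D [0, 1, 2, 3] q (fun v => lf φ (vrep v)) := by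
  have hF := hX.flips
  have hv := hX.lf_vals
  obtain ⟨hveP, -, hadd, hal, hinj, hg, hf, -⟩ := vrep_tables
  exact
    { reps := hq
      vs := by simp [vsList]
      comm := hcomm
      e_zero := lf_one φ
      e_z := fun v => mem_Cz.1 (hX.lf_ve_Cz (hveP v))
      e_add := fun v w => Or.inl (by rw [← lf_mul, hadd])
      e_q := fun v a => (hX.ve_comm (hveP v) (hq.mem a)).1
      e_four := fun v => hX.lf_four _
      e_three := fun v => Or.inl (by rw [← hv.2.2.2.2.2.1, ← lf_mul, ← lf_mul, hal])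
      e_inj := fun v _ he => hinj v (by
        rcases he with e | e
        · exact Or.inl (lf_inj φ (e.trans (lf_one φ).symm))
        · refine Or.inr (lf_inj φ ?_)
          rw [e, one_mul, hv.2.2.2.2.1])
      e_conj := fun v _ hv0 => by
        constructor
        · have := lf_isConj φ (hg v hv0)
          rwa [hv.2.2.2.2.2.1] at this
        · have := lf_isConj φ (hf v hv0)
          rw [hv.2.2.1, lf_mul, hv.2.2.2.2.1] at this
          exact this.trans hF.conj_one_four }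

/-- The products of the sign change and the four group. -/
theorem Six.ev_all (hX : H.Six D L φ) {q : Fin 4 → G}
    (hT : H.Two D [0, 1, 2, 3] q (fun v => lf φ (vrep v)))
    (hz7 : ¬ IsConj (D 7) (H.S 1)) : hT.EV := by
  have hF := hX.flips
  have hv := hX.lf_vals
  obtain ⟨-, -, -, -, -, hg, hf, -⟩ := vrep_tables
  have key : ∀ {σ τ : Perm (Fin 6)}, (∃ ρ, ρ * σ * ρ⁻¹ = τ) →
      IsConj (D 4 * lf φ σ) (D 4 * lf φ τ) := by
    rintro σ τ ⟨ρ, rfl⟩
    refine isConj_iff.2 ⟨lf φ ρ, ?_⟩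
    rw [lf_conj]
    calc lf φ ρ * (D 4 * lf φ σ) * (lf φ ρ)⁻¹ = (lf φ ρ * D 4) * lf φ σ * (lf φ ρ)⁻¹ := by group
      _ = _ := by rw [← (hX.lf_four ρ).eq]; group
  intro v _ hv0
  constructor
  · have := key (hf v hv0)
    rw [hv.2.2.1, hF.mul, flip_perm.2.2.1, lf_mul, hv.2.2.2.2.1] at this
    exact this.trans hF.conj_five_three
  · intro hc
    have := key (hg v hv0)
    rw [hv.2.2.2.2.2.1, hF.mul, flip_perm.2.2.2.1] at this
    exact hz7 (this.symm.trans hc)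

end Hyp

end CfsgLib.PSpFourRec
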