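import Cfsg.Agent.PSpFourRec.CaseBWeyl

/-!
# A symmetric group of degree six in the centralizer of the basis vector: the local subgroups in the
# symplectic group
-/

set_option autoImplicit false
set_option maxRecDepth 100000
set_option synthInstance.maxSize 100000
set_option linter.style.haveILetI false
set_option linter.unusedSectionVars false

namespace CfsgLib.PSpFourRec

open CfsgLib.AltNine CfsgLib.PSpFourThree Subgroup Equiv
open CfsgLib.ThreeSymNine (Mat app mm pmat dmat mono pa pm pinv dig sm nv_nv pa_table app_pmat app_one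
  ext_app allSigns dx du db pd bc mono_tables)
open CfsgLib.ThreeLocalNine (p2 p3)
open CfsgLib.ThreeSymNine.Six (tp)
open CfsgLib.SpPres (Spn)
open SpSix (t wact)

attribute [local instance 10000] List.decidableBAll List.decidableBEx

universe u v

theorem model_tables : (∀ s : S23, s.1 1 0 = 0 → ∃ v : Fin 27, ∃ a : Fin 6,
      ((((0, 0), s) : T)) = tmul (tE v) (tS a)) ∧
    (∀ h : PSpFourThree.H, ∀ s : S23, tmul (h, 1) ((0, 0), s) = (h, s)) ∧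
    (∀ h : PSpFourThree.H, ∃ v : Fin 27, ∃ a : Fin 6, ((h, 1) : T) = tmul (tE v) (tS a)) ∧
    (∀ g : S23, g.1 1 0 ≠ 0 → ∀ y : S23, y.1 1 0 ≠ 0 →
      ∃ v : Fin 27, (g⁻¹ * (tE v).2 * y).1 1 0 = 0) := by decide +kernel

theorem word_tables : (∀ x, wact [17, 6, 48, 4, 1, 14] x = wact ([17, 6] ++ [48, 4] ++ [1, 14]) x) ∧
    (∀ x, wact ([1, 2, 3, 2, 1, 0, 1, 2, 3, 4, 3, 2, 1, 0, 2].map gc) x = wact [35, 33, 2] x) ∧
    (∀ x, wact ([17, 6, 48, 4, 1, 14] ++ [3, 45]) x = wact ([3, 45] ++ [17, 6, 48, 4, 1, 14]) x) ∧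
    (∃ x, wact ([3, 45] ++ [1, 14] ++ [45, 3] ++ [1, 14]) x ≠
      wact ([1, 14] ++ ([3, 45] ++ [1, 14] ++ [45, 3])) x) ∧
    [1, 0].map gc = [17, 6] ∧ [3, 4].map gc = [48, 4] ∧ [3, 4].map gc' = [1, 14] ∧
    (∀ a : Fin 6, a ∈ ([0, 1, pm (pm 2 1) 2, pm 1 (pm (pm 2 1) 2), pm (pm (pm 2 1) 2) 1,
      pm (pm 1 (pm (pm 2 1) 2)) 1] : List (Fin 6))) ∧
    pinv 2 = 2 ∧ (∀ v : Fin 27, ∃ a b c : Fin 3, v = av (sm a 1) (av (sm b 3) (sm c 9))) ∧
    (∀ d : Fin 8, d ∈ ([0, 1, 2, 3, 4, dx 1 4, dx 2 4, dx 3 4] : List (Fin 8))) ∧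
    dx 1 2 = 3 ∧ dx 3 4 = 7 ∧ av 4 9 = 13 ∧ av 1 3 = 4 := by decide +kernel

namespace Hyp

variable {G : Type u} [Group G] [Finite G] {H : Hyp G} {D : Fin 8 → G} {L : Subgroup G}
  {φ : L ≃* Perm (Fin 6)} {F : Type v} [Field F] [CharP F 2] [Fintype F] {ι : Spn F 3 →* G}

theorem Coord.word (hc : Coord H D φ ι) (l : List (Fin 5)) :
    lf φ ((l.map gp).prod) = ι (SpSix.W (l.map gc)) ∧
      H.cS (lf φ ((l.map gp).prod)) = ι (SpSix.W (l.map gc')) := by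
  induction l with
  | nil => simp [lf_one, SpSix.W_nil]
  | cons i l ih =>
    simp only [List.map_cons, List.prod_cons, SpSix.W_cons, map_mul, lf_mul, hc.fst i, ih.1]
    refine ⟨trivial, ?_⟩
    rw [← hc.fst i, ← ih.1, hc.snd i, ih.2]

/-- The named elements as words. -/
theorem Coord.vals (hc : Coord H D φ ι) (hX : H.Six D L φ) :
    H.emb 1 = ι (SpSix.W [17, 6]) ∧ H.emb 3 = ι (SpSix.W [48, 4]) ∧
    H.emb 9 = ι (SpSix.W [1, 14]) ∧ H.x = ι (SpSix.W [17, 6, 48, 4, 1, 14]) ∧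
    H.S 1 = ι (SpSix.W [35, 33, 2]) ∧ D 1 = ι (SpSix.W [6]) ∧ D 2 = ι (SpSix.W [4]) ∧
    D 4 = ι (SpSix.W [14]) ∧ D 3 = ι (SpSix.W [6, 4]) ∧ D 7 = ι (SpSix.W [6, 4, 14]) := by
  have hv := hX.lf_vals
  obtain ⟨-, c3, -, -, -, -, f34⟩ := hX.cS_vals
  obtain ⟨ep2, ep3, e01, e34, etp, -⟩ := gp_words
  obtain ⟨wx, wz, -, -, l1, l3, l9, -, -, -, -, h12, h34, h49, h13⟩ := word_tables
  have e1 : H.emb 1 = ι (SpSix.W [17, 6]) := by rw [← hv.1, ep2, (hc.word _).1, l1]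
  have e3 : H.emb 3 = ι (SpSix.W [48, 4]) := by rw [← hv.2.1, ep3, (hc.word _).1, l3]
  have e9 : H.emb 9 = ι (SpSix.W [1, 14]) := by rw [← c3, ← hv.2.1, ep3, (hc.word _).2, l9]
  have d1 : D 1 = ι (SpSix.W [6]) := by rw [← hv.2.2.1, e01, hc.fst, SpSix.W_singleton]; rfl
  have d2 : D 2 = ι (SpSix.W [4]) := by rw [← hv.2.2.2.1, e34, hc.fst, SpSix.W_singleton]; rfl
  have d4 : D 4 = ι (SpSix.W [14]) := by rw [← f34, e34, hc.snd, SpSix.W_singleton]; rfl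
  have d3 : D 3 = ι (SpSix.W [6, 4]) := by
    rw [← h12, ← hX.flips.mul, d1, d2, ← map_mul, ← SpSix.W_append]; rfl
  refine ⟨e1, e3, e9, ?_, ?_, d1, d2, d4, d3, ?_⟩
  · rw [Hyp.x, ← h49, H.emb_add, ← h13, H.emb_add, e1, e3, e9, ← map_mul, ← map_mul,
      ← SpSix.W_append, ← SpSix.W_append, ← SpSix.W_eq hc.two wx]
  · rw [← hv.2.2.2.2.1, etp, (hc.word _).1, SpSix.W_eq hc.two wz]
  · rw [← h34, ← hX.flips.mul, d3, d4, ← map_mul, ← SpSix.W_append]; rfl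

/-- The normalizer of the elementary group lies in the symplectic group. -/
theorem Coord.N_le (hc : Coord H D φ ι) (hX : H.Six D L φ) : H.N ≤ ι.range := by
  have hF := hX.flips
  obtain ⟨e1, e3, e9, -, eS, d1, d2, d4, d3, -⟩ := hc.vals hX
  obtain ⟨-, -, -, -, -, -, -, hperm, hp2, hspan, hsign, -⟩ := word_tables
  intro g hg
  obtain ⟨v, d, a, rfl⟩ := hF.mem_N_iff.1 hg
  have hJ : H.emb v ∈ ι.range := by
    obtain ⟨i, j, k, rfl⟩ := hspan v
    rw [H.emb_add, H.emb_add, H.emb_sm, H.emb_sm, H.emb_sm, e1, e3, e9]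
    have hr : ∀ w : Spn F 3, ι w ∈ ι.range := fun w => ⟨w, rfl⟩
    exact mul_mem (pow_mem (hr _) _) (mul_mem (pow_mem (hr _) _) (pow_mem (hr _) _))
  have h1 : D 1 ∈ ι.range := d1 ▸ ⟨_, rfl⟩
  have h2 : D 2 ∈ ι.range := d2 ▸ ⟨_, rfl⟩
  have h3 : D 3 ∈ ι.range := d3 ▸ ⟨_, rfl⟩
  have h4 : D 4 ∈ ι.range := d4 ▸ ⟨_, rfl⟩
  have hD : D d ∈ ι.range := by
    have h := hsign d
    simp only [List.mem_cons, List.not_mem_nil, or_false] at h
    rcases h with rfl | rfl | rfl | rfl | rfl | rfl | rfl | rfl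
    · rw [hF.zero]; exact one_mem _
    · exact h1
    · exact h2
    · exact h3
    · exact h4
    · rw [← hF.mul]; exact mul_mem h1 h4
    · rw [← hF.mul]; exact mul_mem h2 h4
    · rw [← hF.mul]; exact mul_mem h3 h4
  have hS1 : H.S 1 ∈ ι.range := eS ▸ ⟨_, rfl⟩
  have hS' : H.S (pm (pm 2 1) 2) ∈ ι.range := by
    rw [← H.S_mul, ← H.S_mul]
    have : H.cS (H.S 1) ∈ ι.range := by
      rw [← hX.lf_vals.2.2.2.2.1, gp_words.2.2.2.2.1, (hc.word _).2]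
      exact ⟨_, rfl⟩
    rwa [cS_apply, H.S_inv, hp2] at this
  have hS : H.S a ∈ ι.range := by
    have h := hperm a
    simp only [List.mem_cons, List.not_mem_nil, or_false] at h
    rcases h with h | h | h | h | h | h <;> rw [h]
    · rw [H.S_zero]; exact one_mem _
    · exact hS1
    · exact hS'
    · rw [← H.S_mul]; exact mul_mem hS1 hS'
    · rw [← H.S_mul]; exact mul_mem hS' hS1
    · rw [← H.S_mul, ← H.S_mul]; exact mul_mem (mul_mem hS1 hS') hS1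
  exact mul_mem (mul_mem hJ hD) hS

/-- The centralizer of the centre lies in the symplectic group. -/
theorem Coord.C_x_le (hc : Coord H D φ ι) (hX : H.Six D L φ) :
    centralizer ({H.x} : Set G) ≤ ι.range := by
  obtain ⟨-, -, e9, ex, -⟩ := hc.vals hX
  obtain ⟨tb, tsplit, th, tmix⟩ := model_tables
  obtain ⟨-, -, wcx, ⟨x₀, hx₀⟩, -⟩ := word_tables
  have hN := hc.N_le hX
  have hlow : ∀ y : T, y.2.1 1 0 = 0 → H.par y ∈ ι.range ∧ ∀ w, H.par y * H.emb w * (H.par y)⁻¹ ∈ H.J := by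
    rintro ⟨h, s⟩ hs
    obtain ⟨v, a, e⟩ := th h
    obtain ⟨v', a', e'⟩ := tb s hs
    have hy : H.par (h, s) = H.emb v * H.S a * (H.emb v' * H.S a') := by
      rw [← tsplit h s, H.par_mul, e, e', H.par_t, H.par_t]
    have hm : H.par (h, s) ∈ H.N := by
      rw [hy]
      exact mul_mem (H.mk_induces v a).mem_N (H.mk_induces v' a').mem_N
    exact ⟨hN hm, fun w => (mem_normalizer_iff.1 hm _).1 (H.emb_mem w)⟩
  set g₀ := ι (SpSix.W [3, 45])
  have hg₀ : g₀ * H.x = H.x * g₀ := by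
    rw [ex, ← map_mul, ← map_mul, ← SpSix.W_append, ← SpSix.W_append, SpSix.W_eq hc.two wcx]
  obtain ⟨t₀, ht₀⟩ := H.commute_x_iff.1 hg₀
  have ht₀' : t₀.2.1 1 0 ≠ 0 := fun e => by
    have hJ := (hlow t₀ e).2 9
    rw [ht₀] at hJ
    have hcm := H.J_comm hJ (H.emb_mem 9)
    rw [e9, ← map_inv, SpSix.W_reverse, show ([3, 45] : List (Fin 64)).reverse = [45, 3] from rfl,
      ← map_mul, ← map_mul, ← map_mul, ← map_mul, ← SpSix.W_append, ← SpSix.W_append,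
      ← SpSix.W_append, ← SpSix.W_append] at hcm
    exact SpSix.W_ne hc.two hx₀ (hc.inj hcm)
  intro g hg
  obtain ⟨y, rfl⟩ := H.commute_x_iff.1 (mem_centralizer_singleton_iff.1 hg)
  by_cases hy : y.2.1 1 0 = 0
  · exact (hlow y hy).1
  obtain ⟨v, hv⟩ := tmix _ ht₀' _ hy
  have hu : (H.par t₀)⁻¹ * H.emb v * H.par y ∈ centralizer ({H.x} : Set G) :=
    mul_mem (mul_mem (inv_mem (H.par_mem_centralizer t₀)) (H.par_mem_centralizer _))
      (H.par_mem_centralizer y)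
  obtain ⟨u, hu⟩ := H.commute_x_iff.1 (mem_centralizer_singleton_iff.1 hu)
  have hmul : tmul t₀ u = tmul (tE v) y := H.par_inj (by
    rw [H.par_mul, H.par_mul, hu, show H.par (tE v) = H.emb v from rfl]; group)
  have hu2 : u.2 = t₀.2⁻¹ * (tE v).2 * y.2 := by
    rw [mul_assoc, eq_inv_mul_iff_mul_eq]
    exact congrArg Prod.snd hmul
  have h1 : H.par y = (H.emb v)⁻¹ * (g₀ * H.par u) := by rw [hu, ← ht₀]; group
  rw [h1]
  exact mul_mem (inv_mem (hN (H.J_le_N (H.emb_mem v))))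
    (mul_mem ⟨_, rfl⟩ (hlow u (by rw [hu2]; exact hv)).1)

end Hyp

end CfsgLib.PSpFourRec
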