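import Cfsg.Agent.PSpFourRec.CaseBComm

/-!
# A symmetric group of degree six in the centralizer of the basis vector: a second complement
# commuting with part of the first
-/

set_option autoImplicit false
set_option maxRecDepth 100000
set_option synthInstance.maxSize 100000
set_option linter.style.haveILetI false
set_option linter.unusedSectionVars false

namespace CfsgLib.PSpFourRec

open CfsgLib.AltNine CfsgLib.PSpFourThree Subgroup TwoModel Equiv
open CfsgLib.ThreeSymNine (Mat app mm pmat dmat mono pa pm pinv dig sm nv_nv pa_table app_pmat app_one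
  ext_app allSigns dx du db pd bc mono_tables)
open CfsgLib.ThreeLocalNine (p2 p3)
open CfsgLib.ThreeSymNine.Six (tp)

attribute [local instance 10000] List.decidableBAll List.decidableBEx

universe u

/-- Centralizing a transposition and two double transpositions. -/
abbrev uaP (σ : Perm (Fin 6)) : Prop := commP (swap 0 1) (swap 2 3 * swap 4 5) (swap 2 5 * swap 3 4) σ

theorem ua_tables : (∀ σ : Perm (Fin 6), uaP σ → σ * σ = 1 ∧ uaP (p3 * σ * p3⁻¹)) ∧
    uaP (swap 0 1) ∧ uaP (swap 2 3 * swap 4 5) ∧ uaP (swap 2 5 * swap 3 4) ∧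
    p3 * (swap (2 : Fin 6) 3 * swap 4 5) * p3⁻¹ ≠ swap 2 3 * swap 4 5 := by decide +kernel

theorem ua_abel : ∀ σ : Perm (Fin 6), uaP σ → ∀ τ : Perm (Fin 6), uaP τ → σ * τ = τ * σ := by
  decide +kernel

theorem ua_exp : ∀ σ : Perm (Fin 6), σ * swap 0 1 = swap 0 1 * σ → σ ^ 12 = 1 := by decide +kernel

theorem ua_two_part : ∀ σ : Perm (Fin 6), σ * swap 0 1 = swap 0 1 * σ → σ ^ 4 = 1 →
    (σ * (p3 * σ * p3⁻¹)) ^ 4 = 1 → uaP σ := by decide +kernel

theorem ua_gen : ∀ σ : Perm (Fin 6), uaP σ → σ ≠ 1 → σ ≠ swap 0 1 → ∀ τ : Perm (Fin 6), uaP τ →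
    ∃ a b c : Fin 2, τ = σ ^ (a : ℕ) * (p3 * σ * p3⁻¹) ^ (b : ℕ) * swap 0 1 ^ (c : ℕ) := by
  decide +kernel

theorem ua_transport : ∀ τ : Perm (Fin 6), uaP τ →
    veP (swap 0 2 * swap 1 5 * τ * (swap 0 2 * swap 1 5)) ∨
      veP (swap 0 2 * swap 1 5 * τ * (swap 0 2 * swap 1 5) * (swap 0 1 * swap 3 4)) := by
  decide +kernel

theorem ua_swaps : swap (0 : Fin 6) 2 * swap 1 5 * (swap 0 2 * swap 1 5) = 1 ∧
    swap (0 : Fin 6) 1 * swap 3 4 * (swap 0 1 * swap 3 4) = 1 := by decide +kernel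

theorem swap_lines : pa 2 3 = 9 ∧ pa 2 9 = 3 ∧ pd 2 1 = 1 ∧ pm 2 2 = 0 ∧ av 3 9 = 12 ∧
    av 3 (av 9 9) = 21 ∧
    (∀ v ∈ ([12, 21] : List (Fin 27)), ∃ d ∈ allSigns, ∃ a : Fin 6, app (mono d a) 4 = v) ∧
    (∀ d ∈ allSigns, ∀ a : Fin 6, ∀ v ∈ ([12, 21] : List (Fin 27)),
      app (mono d a) v = v → mm (mono d a) (mono d a) = pmat 0) := by decide +kernel

namespace Hyp

variable {G : Type u} [Group G] [Finite G] {H : Hyp G} {D : Fin 8 → G} {L : Subgroup G}
  {φ : L ≃* Perm (Fin 6)}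

theorem conj_mem_centralizer {U : Subgroup G} {d : G} (hd : d ∈ normalizer (U : Set G)) :
    ∀ r ∈ centralizer (U : Set G), d * r * d⁻¹ ∈ centralizer (U : Set G) := fun r hr =>
  mem_centralizer_iff.2 fun u hu => by
    have hu' : d⁻¹ * u * d ∈ U := by
      have := (mem_normalizer_iff.1 (inv_mem hd) u).1 hu
      rwa [inv_inv] at this
    calc u * (d * r * d⁻¹) = d * (d⁻¹ * u * d * r) * d⁻¹ := by group
      _ = d * (r * (d⁻¹ * u * d)) * d⁻¹ := by rw [mem_centralizer_iff.1 hr _ hu']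
      _ = _ := by group

/-- The second complement commutes with the elementary group of order eight. -/
theorem Six.swap_comm (hX : H.Six D L φ) : ∀ σ τ : Perm (Fin 6), uaP σ → uaP τ →
    Commute (H.S 2 * lf φ σ * (H.S 2)⁻¹) (lf φ τ) := by
  classical
  have hF := hX.flips
  have hv := hX.lf_vals
  obtain ⟨hP, ha, hb, hc, hne⟩ := ua_tables
  obtain ⟨l39, l93, l11, l22, l12, l21, hwt, hsqT⟩ := swap_lines
  set U := lfC φ (swap 0 1) (swap 2 3 * swap 4 5) (swap 2 5 * swap 3 4)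
  set R := centralizer (U : Set G)
  set e := H.emb 9
  set d := H.emb 3
  have hmU : ∀ {σ}, uaP σ → lf φ σ ∈ U := fun {σ} h => mem_lfC.2 ⟨σ, h, rfl⟩
  have hU2 : IsPGroup 2 U := lfC_two fun σ hσ => (hP σ hσ).1
  have hUR : U ≤ R := fun g hg => mem_centralizer_iff.2 fun u hu => by
    obtain ⟨σ, hσ, rfl⟩ := mem_lfC.1 hg
    obtain ⟨τ, hτ, rfl⟩ := mem_lfC.1 hu
    rw [← lf_mul, ← lf_mul, ua_abel σ hσ τ hτ]
  have heR : e ∈ R := mem_centralizer_iff.2 fun u hu => by
    obtain ⟨σ, hσ, rfl⟩ := mem_lfC.1 hu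
    exact (hX.lf_nine σ).eq
  have hd3 : d ^ 3 = 1 := H.emb_cube 3
  have hdU : d ∈ normalizer (U : Set G) := mem_normalizer_of_cube hd3 fun u hu => by
    obtain ⟨σ, hσ, rfl⟩ := mem_lfC.1 hu
    exact mem_lfC.2 ⟨_, (hP σ hσ).2, by rw [lf_conj, hv.2.1]⟩
  have hdR : d ∈ normalizer (R : Set G) :=
    mem_normalizer_of_cube hd3 (conj_mem_centralizer hdU)
  have hdn : d ∉ R := fun h => hne (lf_inj φ (by
    have e0 := mem_centralizer_iff.1 h _ (hmU hb)
    rw [lf_conj, hv.2.1, ← e0, mul_inv_cancel_right]))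
  have h1 : D 1 ∈ U := hv.2.2.1 ▸ hmU ha
  have hS2 : H.S 2 * H.S 2 = 1 := by rw [H.S_mul, l22, H.S_zero]
  have hSi : (H.S 2)⁻¹ = H.S 2 := inv_eq_of_mul_eq_one_right hS2
  set c : G →* G := (MulAut.conj (H.S 2)).toMonoidHom
  have hcc : ∀ g, c g = H.S 2 * g * (H.S 2)⁻¹ := fun g => rfl
  have hc3 : c d = e := by rw [hcc, H.S_act, l39]
  have hc9 : c e = d := by rw [hcc, H.S_act, l93]
  have hc1 : c (D 1) = D 1 := by rw [hcc, hF.conj, l11]
  have hinv : ∀ g, c (c g) = g := fun g => by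
    rw [hcc, hcc, hSi]
    calc H.S 2 * (H.S 2 * g * H.S 2) * H.S 2 = (H.S 2 * H.S 2) * g * (H.S 2 * H.S 2) := by group
      _ = g := by rw [hS2, one_mul, mul_one]
  -- elements of order prime to three centralizing `d`
  have hthree : ∀ r ∈ R, r * d = d * r → (orderOf r).Coprime 3 →
      ∃ ρ, lf φ ρ = c r ∧ ρ * swap 0 1 = swap 0 1 * ρ ∧ ρ ^ 4 = 1 := by
    intro r hr hrd h3
    have ho : orderOf (c r) = orderOf r := (MulAut.conj (H.S 2)).orderOf_eq r
    obtain ⟨ρ, hρ⟩ := hX.lf_of_coprime (r := c r) (by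
      show c r * e = e * c r
      rw [← hc3, ← map_mul, hrd, map_mul]) (ho.symm ▸ h3)
    have hcm : ρ * swap 0 1 = swap 0 1 * ρ := lf_inj φ (by
      rw [lf_mul, lf_mul, hρ, hv.2.2.1, ← hc1, ← map_mul, ← map_mul,
        mem_centralizer_iff.1 hr _ h1])
    refine ⟨ρ, hρ, hcm, lf_inj φ ?_⟩
    rw [lf_pow, hρ, lf_one]
    have h12 : orderOf (c r) ∣ 4 * 3 := orderOf_dvd_of_pow_eq_one (by
      rw [← hρ, ← lf_pow, show 4 * 3 = 12 from rfl, ua_exp ρ hcm, lf_one])
    exact orderOf_dvd_iff_pow_eq_one.1 ((ho.symm ▸ h3).dvd_of_dvd_mul_right h12)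
  -- the products of weight two
  have hei : e⁻¹ = H.emb (av 9 9) := by
    rw [H.emb_add]
    exact inv_eq_of_mul_eq_one_right (by
      rw [← mul_assoc, ← pow_two, ← pow_succ]; exact H.emb_cube 9)
  have hprod : ∀ i : ℤ, d * e ^ i = d ∨ ∃ v ∈ ([12, 21] : List (Fin 27)), d * e ^ i = H.emb v := by
    intro i
    rcases SelfCentCore.zpow_cases (x := e) (H.emb_cube 9) i with h | h | h <;> rw [h]
    · exact Or.inl (mul_one _)
    · exact Or.inr ⟨12, by decide, by rw [← H.emb_add, l12]⟩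
    · exact Or.inr ⟨21, by decide, by rw [hei, ← H.emb_add, l21]⟩
  have hinN : ∀ v ∈ ([12, 21] : List (Fin 27)), centralizer ({H.emb v} : Set G) ≤ H.N := fun v hv => by
    obtain ⟨d', hd', a, ha'⟩ := hwt v hv
    exact hF.signs.C_four_of hd' ha'
  have h2 : ∀ i : ℤ, ∀ r ∈ R, r * (d * e ^ i) = d * e ^ i * r → (orderOf r).Coprime 3 →
      ∃ k, orderOf r = 2 ^ k := by
    intro i r hr hri h3
    have hdvd : orderOf r ∣ 2 ^ 2 := by
      rcases hprod i with h | ⟨v, hv', h⟩ <;> rw [h] at hri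
      · obtain ⟨ρ, hρ, -, hρ4⟩ := hthree r hr hri h3
        refine orderOf_dvd_of_pow_eq_one ((MulAut.conj (H.S 2)).injective ?_)
        show c (r ^ 2 ^ 2) = c 1
        rw [map_pow, map_one, ← hρ, ← lf_pow, show (2 : ℕ) ^ 2 = 4 from rfl, hρ4, lf_one]
      · obtain ⟨Mt, hMt⟩ := H.exists_induces_of_mem (hinN v hv' (mem_centralizer_singleton_iff.2 hri))
        have hst : H.Stab [v] Mt := hMt.stab (H.C_singleton v ▸ mem_centralizer_singleton_iff.2 hri)
        obtain ⟨d', hd', a, rfl⟩ := (hF.signs Mt).1 hst.1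
        have hJ : r * r ∈ H.J := H.mem_J_of_induces_one
          (hsqT d' hd' a v hv' (hst.2 v List.mem_cons_self) ▸ hMt.mul hMt)
        have h6 : r ^ (2 * 3) = 1 := by rw [pow_mul, pow_two]; exact H.J_cube hJ
        exact (h3.dvd_of_dvd_mul_right (orderOf_dvd_of_pow_eq_one h6)).trans ⟨2, rfl⟩
    obtain ⟨k, -, hk⟩ := (Nat.dvd_prime_pow Nat.prime_two).1 hdvd
    exact ⟨k, hk⟩
  obtain ⟨M, hUM, hMR, hRM, hdM, hM2, -, hcomm, -, hgen, -⟩ :=
    SelfCentCore.exists_core R U hUR (centralizer_le_normalizer _) hU2 hX.emb_nine_order heR hd3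
      (H.emb_comm 3 9) hdR hdU hdn (hX.lfC_self ha hb hc) h2
  -- the two-group is bigger
  have hMU : ¬ M ≤ U := by
    intro hle
    have hMe : M = U := le_antisymm hle hUM
    obtain ⟨w, hw, hwe, hwi⟩ := hX.exists_witness
    set s := lf φ (swap 0 2 * swap 1 5) with hs
    have hs2 : s * s = 1 := by rw [hs, ← lf_mul, ua_swaps.1, lf_one]
    have hsi : s⁻¹ = s := inv_eq_of_mul_eq_one_right hs2
    have hse : Commute s e := hX.lf_nine _
    have hwR : s * w * s ∈ R := mem_centralizer_iff.2 fun u hu => by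
      obtain ⟨τ, hτ, rfl⟩ := mem_lfC.1 hu
      set σ := swap 0 2 * swap 1 5 * τ * (swap 0 2 * swap 1 5) with hσ
      have hwσ : Commute w (lf φ σ) := by
        rcases ua_transport τ hτ with h | h
        · exact hw _ (Or.inl h)
        · have h' := (hw _ (Or.inl h)).mul_right (hw _ (Or.inr rfl))
          rwa [← lf_mul, mul_assoc _ (swap 0 1 * swap 3 4), ua_swaps.2, mul_one] at h'
      have hτe : lf φ τ = s * lf φ σ * s := by
        rw [hσ, lf_mul, lf_mul, ← hs]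
        calc lf φ τ = (s * s) * lf φ τ * (s * s) := by rw [hs2, one_mul, mul_one]
          _ = _ := by group
      rw [hτe]
      calc s * lf φ σ * s * (s * w * s) = s * lf φ σ * (s * s) * w * s := by group
        _ = s * (lf φ σ * w) * s := by rw [hs2]; group
        _ = s * (w * lf φ σ) * s := by rw [hwσ.eq]
        _ = s * w * (s * s) * lf φ σ * s := by rw [hs2]; group
        _ = _ := by group
    have hx : s * w * s * e * (s * w * s)⁻¹ ∈ U ⊔ zpowers e := by
      have := mul_mem (hMe ▸ hcomm _ hwR) (mem_sup_right (mem_zpowers e) : e ∈ U ⊔ zpowers e)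
      rwa [inv_mul_cancel_right] at this
    have hen : zpowers e ≤ normalizer (U : Set G) :=
      zpowers_le.2 (centralizer_le_normalizer _ heR)
    have hx' : s * w * s * e * (s * w * s)⁻¹ ∈ (↑(U ⊔ zpowers e) : Set G) := hx
    rw [Subgroup.coe_mul_of_right_le_normalizer_left U (zpowers e) hen] at hx'
    obtain ⟨u, hu, z, hz, huz⟩ := Set.mem_mul.1 hx'
    obtain ⟨j, rfl⟩ := mem_zpowers_iff.1 hz
    have hue : Commute u (e ^ j) :=
      (show Commute u e from mem_centralizer_iff.1 heR u hu).zpow_right j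
    have hu1 : u = 1 := by
      have hu3 : u ^ 3 = 1 := by
        have h3 : (u * e ^ j) ^ 3 = 1 := by
          rw [huz, conj_pow, H.emb_cube, mul_one, mul_inv_cancel]
        rwa [hue.mul_pow, ← zpow_natCast (e ^ j), ← zpow_mul, mul_comm, zpow_mul, zpow_natCast,
          H.emb_cube, one_zpow, mul_one] at h3
      exact orderOf_eq_one_iff.1 (Nat.eq_one_of_dvd_coprimes (coprime_of_two hU2 hu) dvd_rfl
        (orderOf_dvd_of_pow_eq_one hu3))
    rw [hu1, one_mul] at huz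
    have hwe' : w * e * w⁻¹ = s * (s * w * s * e * (s * w * s)⁻¹) * s := by
      rw [show s * w * s * e * (s * w * s)⁻¹ = s * w * (s * e * s⁻¹) * w⁻¹ * s⁻¹ by group,
        hse.eq, mul_inv_cancel_right, hsi]
      calc w * e * w⁻¹ = (s * s) * w * e * w⁻¹ * (s * s) := by rw [hs2, one_mul, mul_one]
        _ = _ := by group
    rw [← huz] at hwe'
    have hsj : s * e ^ j * s = e ^ j := by
      rw [(hse.zpow_right j).eq, mul_assoc, hs2, mul_one]
    rw [hsj] at hwe'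
    rcases SelfCentCore.zpow_cases (x := e) (H.emb_cube 9) j with h | h | h <;> rw [h] at hwe'
    · rw [conj_eq_one_iff] at hwe'
      have : orderOf e = 3 := hX.emb_nine_order
      rw [hwe', orderOf_one] at this
      omega
    · exact hwe hwe'
    · exact hwi hwe'
  -- a part centralizing `d`
  obtain ⟨r, hrM, hrd, hrU⟩ : ∃ r ∈ M, r * d = d * r ∧ r ∉ U := by
    by_contra hno
    push Not at hno
    refine hMU (hgen U le_rfl fun i r hr hri => ?_)
    rcases hprod i with h | ⟨v, hv', h⟩ <;> rw [h] at hri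
    · exact hno r hr hri
    have hrN := hinN v hv' (mem_centralizer_singleton_iff.2 hri)
    have hre : r * e = e * r := by
      have hJ : e * r * e⁻¹ * r⁻¹ ∈ H.J := by
        rw [show e * r * e⁻¹ * r⁻¹ = e * (r * e⁻¹ * r⁻¹) by group]
        exact mul_mem (H.emb_mem 9) ((mem_normalizer_iff.1 hrN _).1 (inv_mem (H.emb_mem 9)))
      have hM' : e * r * e⁻¹ * r⁻¹ ∈ M :=
        mul_mem ((mem_normalizer_iff.1 (hRM heR) r).1 hr) (inv_mem hr)
      have h1 : e * r * e⁻¹ * r⁻¹ = 1 := orderOf_eq_one_iff.1 (Nat.eq_one_of_dvd_coprimes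
        (coprime_of_two hM2 hM') dvd_rfl (orderOf_dvd_of_pow_eq_one (H.J_cube hJ)))
      rw [mul_inv_eq_one, mul_inv_eq_iff_eq_mul] at h1
      exact h1.symm
    obtain ⟨k, hk⟩ := hX.lfC_self ha hb hc r (hMR hr) hre
    have h9 : e ^ k ∈ M := by
      have := mul_mem (inv_mem hr) (hUM hk)
      rwa [inv_mul_cancel_left] at this
    have h1 : e ^ k = 1 := orderOf_eq_one_iff.1 (Nat.eq_one_of_dvd_coprimes
      (coprime_of_two hM2 h9) dvd_rfl (orderOf_dvd_of_pow_eq_one (by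
        rw [← zpow_natCast, ← zpow_mul, mul_comm, zpow_mul, zpow_natCast, H.emb_cube, one_zpow])))
    rwa [h1, mul_one] at hk
  have hrR := hMR hrM
  obtain ⟨ρ, hρ, hρ1, hρ4⟩ := hthree r hrR hrd (coprime_of_two hM2 hrM)
  set r2 := e * r * e⁻¹
  have hr2M : r2 ∈ M := (mem_normalizer_iff.1 (hRM heR) r).1 hrM
  have hed : Commute e d := H.emb_comm 9 3
  have hr2d : r2 * d = d * r2 :=
    ((hed.mul_left (show Commute r d from hrd)).mul_left hed.inv_left).eq
  have hρ2 : lf φ (p3 * ρ * p3⁻¹) = c r2 := by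
    rw [lf_conj, hρ, hv.2.1, map_mul, map_mul, map_inv, hc9]
  obtain ⟨τ₀, hτ₀, -, hτ4⟩ := hthree (r * r2) (mul_mem hrR (hMR hr2M))
    ((show Commute r d from hrd).mul_left hr2d).eq (coprime_of_two hM2 (mul_mem hrM hr2M))
  rw [map_mul, ← hρ, ← hρ2, ← lf_mul] at hτ₀
  rw [lf_inj φ hτ₀] at hτ4
  have hρP := ua_two_part ρ hρ1 hρ4 hτ4
  have hρne : ρ ≠ 1 := by
    rintro rfl
    refine hrU ?_
    rw [← hinv r, ← hρ, lf_one, map_one]
    exact one_mem _
  have hρne' : ρ ≠ swap 0 1 := by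
    rintro rfl
    refine hrU ?_
    rw [← hinv r, ← hρ, hv.2.2.1, hc1]
    exact h1
  have hR' : ∀ σ, uaP σ → c (lf φ σ) ∈ R := by
    intro σ hσ
    obtain ⟨a, b, k, rfl⟩ := ua_gen ρ hρP hρne hρne' σ hσ
    rw [lf_mul, lf_mul, lf_pow, lf_pow, lf_pow, map_mul, map_mul, map_pow, map_pow, map_pow, hρ,
      hρ2, hinv, hinv, hv.2.2.1, hc1]
    exact mul_mem (mul_mem (pow_mem hrR _) (pow_mem (hMR hr2M) _)) (pow_mem (hUR h1) _)
  intro σ τ hσ hτ
  exact (mem_centralizer_iff.1 (hR' σ hσ) _ (hmU hτ)).symm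

end Hyp

end CfsgLib.PSpFourRec
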