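import Cfsg.Agent.PSpFourRec.SpSixClass
import Cfsg.Agent.ZStar.Final
import Cfsg.Agent.Signalizer.Basic

/-!
# Recognition of `Sp₆(2)` inside a finite group

A subgroup isomorphic to `Sp₆(2)` containing the centralizer of one kind of involution, with its four
classes of involutions separated in the whole group, is the whole group.
-/

set_option autoImplicit false
set_option maxRecDepth 100000
set_option linter.style.haveILetI false
set_option linter.unusedSectionVars false

namespace CfsgLib.PSpFourRec.SpSix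

open Subgroup CfsgLib.SpPres CfsgLib.SpMult CfsgLib.SpSixMult

universe u v

variable {F : Type v} [Field F] [CharP F 2]

/-- A transvection. -/
def f0 : Spn F 3 := tr (vec (Pi.single 0 1))

/-- A product of two orthogonal transvections. -/
def g0 : Spn F 3 := tr (vec (Pi.single 0 1)) * tr (vec (Pi.single 1 1))

/-- A product of three dependent orthogonal transvections. -/
def z0 : Spn F 3 :=
  tr (vec (Pi.single 0 1)) * tr (vec (Pi.single 1 1)) * tr (vec (Pi.single 0 1 + Pi.single 1 1))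

/-- A product of three independent orthogonal transvections. -/
def j0 : Spn F 3 := tr (vec (Pi.single 0 1)) * tr (vec (Pi.single 1 1)) * tr (vec (Pi.single 2 1))

theorem bits_units : bits 1 = Pi.single 0 1 ∧ bits 2 = Pi.single 1 1 ∧
    bits 3 = Pi.single 0 1 + Pi.single 1 1 ∧ bits 4 = Pi.single 2 1 := by decide +kernel

theorem f0_eq : (f0 : Spn F 3) = W [1] := by
  rw [W_singleton, t, vc, bits_units.1]; rfl

theorem g0_eq : (g0 : Spn F 3) = W [1, 2] := by
  simp only [W, List.map_cons, List.map_nil, List.prod_cons, List.prod_nil, mul_one, t, vc,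
    bits_units.1, bits_units.2.1, g0]

theorem z0_eq : (z0 : Spn F 3) = W [1, 2, 3] := by
  simp only [W, List.map_cons, List.map_nil, List.prod_cons, List.prod_nil, mul_one, t, vc,
    bits_units.1, bits_units.2.1, bits_units.2.2.1, z0, mul_assoc]

theorem j0_eq : (j0 : Spn F 3) = W [1, 2, 4] := by
  simp only [W, List.map_cons, List.map_nil, List.prod_cons, List.prod_nil, mul_one, t, vc,
    bits_units.1, bits_units.2.1, bits_units.2.2.2, j0, mul_assoc]

/-- The word of the representative of a class. -/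
def R (k : Fin 5) : Spn F 3 := W (rep k)

theorem R_eq : (R 1 : Spn F 3) = f0 ∧ (R 2 : Spn F 3) = g0 ∧ (R 3 : Spn F 3) = z0 ∧
    (R 4 : Spn F 3) = j0 := by
  obtain ⟨e1, e2, e3, e4⟩ : rep 1 = [1] ∧ rep 2 = [1, 2] ∧ rep 3 = [1, 2, 3] ∧ rep 4 = [1, 2, 4] := by
    decide +kernel
  simp only [R, e1, e2, e3, e4, f0_eq, g0_eq, z0_eq, j0_eq, and_self]

theorem R_one : (W (rep 1) : Spn F 3) = t 1 :=
  (R_eq (F := F)).1.trans (f0_eq.trans (W_singleton 1))

variable (h2 : ∀ x : F, x = 0 ∨ x = 1)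
include h2

theorem t_inj {u w : Fin 64} (h : (t u : Spn F 3) = t w) : u = w := by
  by_contra hne
  obtain ⟨x, hx⟩ := mv_inj u w hne
  exact hx (vc_inj (F := F) (by rw [← α_t, ← α_t, h]))

theorem W_ne {l l' : List (Fin 64)} {x : Fin 64} (h : wact l x ≠ wact l' x) :
    (W l : Spn F 3) ≠ W l' := fun e => h (vc_inj (F := F) (by rw [← α_W, ← α_W, e]))

theorem R_ne : ∀ k : Fin 5, k ≠ 0 → (R k : Spn F 3) ≠ 1 := by
  have h : ∀ k : Fin 5, k ≠ 0 → ∃ x, wact (rep k) x ≠ x := by decide +kernel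
  intro k hk
  obtain ⟨x, hx⟩ := h k hk
  rw [R, ← W_nil]
  exact W_ne h2 (l' := []) hx

theorem R_sq (k : Fin 5) : (R k : Spn F 3) * R k = 1 := by
  have h : ∀ k : Fin 5, ∀ c ∈ rep k, ∀ d ∈ rep k, fm c d = false := by decide +kernel
  exact W_sq h2 (h k)

theorem els_conj {m : Fin 128} {k : Fin 5} {l : List (Fin 64)} (he : els m = l) (hk : (witOf m).1 = k) :
    IsConj (R k : Spn F 3) (W l) := by
  subst he hk; exact std_conj h2 m

theorem W_rel {l l' : List (Fin 64)} (h : ∀ x, wact l x = wact l' x) :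
    (W l : Spn F 3) = W l' := W_eq h2 h

theorem two_conj {u w : Fin 64} (hu : u ≠ 0) (hw : w ≠ 0) (huw : u ≠ w) (ho : fm u w = false) :
    IsConj (g0 : Spn F 3) (W [u, w]) := by
  obtain ⟨g1, e1⟩ := move_one h2 hu
  obtain ⟨g2, e21, e22⟩ := move_two h2 (u := ac h2 g1 w)
    (fun e => hw (ac_inj h2 g1 (e.trans (ac_zero h2 g1).symm)))
    (fun e => huw (ac_inj h2 g1 (e1.trans e.symm))) (by rw [← e1, fm_ac, ho])
  refine (isConj_iff.2 ⟨g2 * g1, ?_⟩).symm
  rw [g0_eq, W_conj h2]
  simp only [List.map_cons, List.map_nil, ac_mul, e1, e21, e22]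

theorem three_dep {u w : Fin 64} (hu : u ≠ 0) (hw : w ≠ 0) (huw : u ≠ w) (ho : fm u w = false) :
    IsConj (z0 : Spn F 3) (W [u, w, cx u w]) := by
  obtain ⟨g1, e1⟩ := move_one h2 hu
  obtain ⟨g2, e21, e22⟩ := move_two h2 (u := ac h2 g1 w)
    (fun e => hw (ac_inj h2 g1 (e.trans (ac_zero h2 g1).symm)))
    (fun e => huw (ac_inj h2 g1 (e1.trans e.symm))) (by rw [← e1, fm_ac, ho])
  refine (isConj_iff.2 ⟨g2 * g1, ?_⟩).symm
  rw [z0_eq, W_conj h2]
  simp only [List.map_cons, List.map_nil, ac_cx, ac_mul, e1, e21, e22]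
  rfl

theorem three_indep {u w r : Fin 64} (hu : u ≠ 0) (hw : w ≠ 0) (hr : r ≠ 0) (huw : u ≠ w)
    (hur : u ≠ r) (hwr : w ≠ r) (hs : r ≠ cx u w) (ho : fm u w = false) (ho' : fm u r = false)
    (ho'' : fm w r = false) : IsConj (j0 : Spn F 3) (W [u, w, r]) := by
  obtain ⟨g1, e1⟩ := move_one h2 hu
  obtain ⟨g2, e21, e22⟩ := move_two h2 (u := ac h2 g1 w)
    (fun e => hw (ac_inj h2 g1 (e.trans (ac_zero h2 g1).symm)))
    (fun e => huw (ac_inj h2 g1 (e1.trans e.symm))) (by rw [← e1, fm_ac, ho])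
  have eu : ac h2 (g2 * g1) u = 1 := by rw [ac_mul, e1, e21]
  have ew : ac h2 (g2 * g1) w = 2 := by rw [ac_mul, e22]
  have hge : 4 ≤ (ac h2 (g2 * g1) r).val := by
    by_contra hlt
    rcases orth_small.2 _ (Nat.lt_of_not_le hlt) with e | e | e | e
    · exact hr (ac_inj h2 _ (e.trans (ac_zero h2 _).symm))
    · exact hur (ac_inj h2 _ (eu.trans e.symm))
    · exact hwr (ac_inj h2 _ (ew.trans e.symm))
    · refine hs (ac_inj h2 _ (e.trans ?_))
      rw [ac_cx, eu, ew]; rfl
  obtain ⟨g3, e31, e32, e33⟩ := move_three h2 hge (by rw [← eu, fm_ac, ho']) (by rw [← ew, fm_ac, ho''])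
  refine (isConj_iff.2 ⟨g3 * (g2 * g1), ?_⟩).symm
  rw [j0_eq, W_conj h2]
  simp only [List.map_cons, List.map_nil]
  rw [ac_mul h2 g3 _ u, ac_mul h2 g3 _ w, ac_mul h2 g3 _ r, eu, ew, e31, e32, e33]

/-- A product of two distinct orthogonal transvections. -/
theorem isConj_g0 {x y : Vec F 3} (hx : x ≠ 0) (hy : y ≠ 0) (hxy : x ≠ y) (ho : bl x y = 0) :
    IsConj (g0 : Spn F 3) (tr x * tr y) := by
  obtain ⟨a, rfl⟩ := vc_surj h2 x
  obtain ⟨b, rfl⟩ := vc_surj h2 y
  have h := two_conj h2 (u := a) (w := b) (fun e => hx (by rw [e, vc_zero]))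
    (fun e => hy (by rw [e, vc_zero])) (fun e => hxy (by rw [e])) (by
      rw [bl_vc] at ho; revert ho; cases fm a b <;> simp)
  simpa [W, t] using h

/-- A product of three dependent orthogonal transvections. -/
theorem isConj_z0 {x y : Vec F 3} (hx : x ≠ 0) (hy : y ≠ 0) (hxy : x ≠ y) (ho : bl x y = 0) :
    IsConj (z0 : Spn F 3) (tr x * tr y * tr (x + y)) := by
  obtain ⟨a, rfl⟩ := vc_surj h2 x
  obtain ⟨b, rfl⟩ := vc_surj h2 y
  have h := three_dep h2 (u := a) (w := b) (fun e => hx (by rw [e, vc_zero]))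
    (fun e => hy (by rw [e, vc_zero])) (fun e => hxy (by rw [e])) (by
      rw [bl_vc] at ho; revert ho; cases fm a b <;> simp)
  simpa [W, t, vc_cx, mul_assoc] using h

/-- A product of three independent orthogonal transvections. -/
theorem isConj_j0 {x y r : Vec F 3} (hx : x ≠ 0) (hy : y ≠ 0) (hr : r ≠ 0) (hxy : x ≠ y)
    (hxr : x ≠ r) (hyr : y ≠ r) (hs : r ≠ x + y) (ho : bl x y = 0) (ho' : bl x r = 0)
    (ho'' : bl y r = 0) : IsConj (j0 : Spn F 3) (tr x * tr y * tr r) := by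
  obtain ⟨a, rfl⟩ := vc_surj h2 x
  obtain ⟨b, rfl⟩ := vc_surj h2 y
  obtain ⟨c, rfl⟩ := vc_surj h2 r
  have hb : ∀ p q : Fin 64, bl (vc p : Vec F 3) (vc q) = 0 → fm p q = false := fun p q h => by
    rw [bl_vc] at h; revert h; cases fm p q <;> simp
  have h := three_indep h2 (u := a) (w := b) (r := c) (fun e => hx (by rw [e, vc_zero]))
    (fun e => hy (by rw [e, vc_zero])) (fun e => hr (by rw [e, vc_zero])) (fun e => hxy (by rw [e]))
    (fun e => hxr (by rw [e])) (fun e => hyr (by rw [e])) (fun e => hs (by rw [e, vc_cx]))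
    (hb _ _ ho) (hb _ _ ho') (hb _ _ ho'')
  simpa [W, t, mul_assoc] using h

/-- Every involution is conjugate to one of the four. -/
theorem involution_conj {i : Spn F 3} (hi : i * i = 1) (hi1 : i ≠ 1) :
    IsConj i f0 ∨ IsConj i g0 ∨ IsConj i z0 ∨ IsConj i j0 := by
  rcases classify h2 hi with h | ⟨k, hk, hc⟩
  · exact absurd h hi1
  obtain ⟨e1, e2, e3, e4⟩ := R_eq (F := F)
  rw [← e1, ← e2, ← e3, ← e4]
  fin_cases k
  · exact absurd rfl hk
  · exact Or.inl hc.symm
  · exact Or.inr (Or.inl hc.symm)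
  · exact Or.inr (Or.inr (Or.inl hc.symm))
  · exact Or.inr (Or.inr (Or.inr hc.symm))

/-- No element has a transvection as square. -/
theorem sq_ne_transvection (x : Spn F 3) : x * x ≠ t 1 := by
  intro hx
  have hfix : ac h2 x 1 = 1 := t_inj h2 (by rw [← t_conj h2, ← hx]; group)
  obtain ⟨p, hp⟩ := fm_nondeg 1 (by decide)
  have hsq : ac h2 x (ac h2 x p) = cx p 1 := by
    rw [← ac_mul, hx, ← W_singleton, ac_W]
    show mv 1 p = _
    rw [mv_eq, hp, if_pos rfl]
  set q := ac h2 x p with hq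
  have hq1 : fm 1 q = true := by rw [hq, ← hfix, fm_ac, hp]
  have h1 : fm q (cx p 1) = fm p q := by rw [← hsq, hq, fm_ac]
  rw [(fm_facts q _).1, fm_add h2, (fm_facts p q).1, hq1] at h1
  revert h1
  cases fm q p <;> simp

/-- The image of a moved vector under an element centralizing a word. -/
theorem ac_moved {h : Spn F 3} {l : List (Fin 64)} (hl : h * W l = W l * h) (x : Fin 64) :
    ac h2 h (cx (wact l x) x) = cx (wact l (ac h2 h x)) (ac h2 h x) := by
  rw [ac_cx, ← ac_W h2 l x, ← ac_mul, hl, ac_mul, ac_W]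

omit h2 in
/-- A word in three vectors permuted among themselves. -/
theorem three_set_fixed (h2 : ∀ x : F, x = 0 ∨ x = 1) {p q r : Fin 64} (h : Spn F 3)
    (hS : [p, q, r] ∈ ([[1, 2, 3], [3, 5, 6]] : List (List (Fin 64))))
    (hne : p ≠ q ∧ p ≠ r ∧ q ≠ r) (hm : ∀ v ∈ [p, q, r], ac h2 h v ∈ [p, q, r]) :
    h * W [p, q, r] = W [p, q, r] * h := by
  refine mul_inv_eq_iff_eq_mul.1 ?_
  rw [W_conj h2]
  exact W_eq h2 fun x => perm_three _ hS _ (hm p (by simp)) _ (hm q (by simp)) _ (hm r (by simp))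
    (fun e => hne.1 (ac_inj h2 h e)) (fun e => hne.2.1 (ac_inj h2 h e))
    (fun e => hne.2.2 (ac_inj h2 h e)) x

theorem central_g {h : Spn F 3} (hh : h * W [1, 2] = W [1, 2] * h) :
    h * W [1, 2, 3] = W [1, 2, 3] * h := by
  refine three_set_fixed h2 h (by simp) (by decide) fun v hv => ?_
  obtain ⟨x, rfl⟩ := pick_g.2 v hv
  rw [ac_moved h2 hh]
  refine pick_g.1 _ fun e => ?_
  rw [← ac_moved h2 hh] at e
  rw [ac_inj h2 h (e.trans (ac_zero h2 h).symm)] at hv
  revert hv; decide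

theorem central_j {h : Spn F 3} (hh : h * W [1, 2, 4] = W [1, 2, 4] * h) :
    h * W [3, 5, 6] = W [3, 5, 6] * h := by
  refine three_set_fixed h2 h (by simp) (by decide) fun v hv => ?_
  obtain ⟨x, rfl, hx⟩ := pick_j.2 v hv
  rw [ac_moved h2 hh]
  refine pick_j.1 _ (fun e => ?_) ?_
  · rw [← ac_moved h2 hh] at e
    rw [ac_inj h2 h (e.trans (ac_zero h2 h).symm)] at hv
    revert hv; decide
  · rw [← ac_moved h2 hh, fm_ac, hx]

end CfsgLib.PSpFourRec.SpSix

namespace CfsgLib.PSpFourRec.SpSix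

open Subgroup CfsgLib.SpPres CfsgLib.SpMult CfsgLib.SpSixMult

universe u v

variable {G : Type u} [Group G] {F : Type v} [Field F] [CharP F 2]

/-- The hypotheses of the recognition. -/
structure Sep (ι : Spn F 3 →* G) : Prop where
  two : ∀ x : F, x = 0 ∨ x = 1
  inj : Function.Injective ι
  cz : centralizer ({ι z0} : Set G) ≤ ι.range
  sep : ∀ j k : Fin 5, j ≠ 0 → k ≠ 0 → IsConj (ι (R j)) (ι (R k)) → j = k

variable {ι : Spn F 3 →* G}

namespace Sep

theorem order_two (h : Sep ι) {x : Spn F 3} (hx : x * x = 1) (hx1 : x ≠ 1) : orderOf (ι x) = 2 :=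
  Invol.orderOf_eq_two (by rw [← map_mul, hx, map_one]) fun e => hx1 (h.inj (e.trans (map_one ι).symm))

theorem conj_in (h : Sep ι) {x y : Spn F 3} (hx : x * x = 1) (hx1 : x ≠ 1)
    (hc : IsConj (ι x) (ι y)) : IsConj x y := by
  obtain ⟨g, hg⟩ := isConj_iff.1 hc
  have hy : y * y = 1 := h.inj (by
    rw [map_mul, map_one, ← hg, show g * ι x * g⁻¹ * (g * ι x * g⁻¹) = g * (ι x * ι x) * g⁻¹ by group,
      ← map_mul, hx, map_one, mul_one, mul_inv_cancel])
  have hy1 : y ≠ 1 := fun e => hx1 (h.inj (by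
    rw [e, map_one, conj_eq_one_iff] at hg
    rw [hg, map_one]))
  rcases classify h.two hx with e | ⟨j, hj, hjx⟩
  · exact absurd e hx1
  rcases classify h.two hy with e | ⟨k, hk, hky⟩
  · exact absurd e hy1
  have e : j = k := h.sep j k hj hk (((ι.map_isConj hjx).trans hc).trans (ι.map_isConj hky).symm)
  subst e
  exact hjx.symm.trans hky

/-- An element sending an involution with contained centralizer into the subgroup lies in it. -/
theorem mem_of_conj (h : Sep ι) {n : G} {i y : Spn F 3} (hi : i * i = 1) (hi1 : i ≠ 1)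
    (hC : centralizer ({ι i} : Set G) ≤ ι.range) (hy : n * ι i * n⁻¹ = ι y) : n ∈ ι.range := by
  obtain ⟨g, hg⟩ := isConj_iff.1 (h.conj_in hi hi1 (isConj_iff.2 ⟨n, hy⟩))
  have hm : (ι g)⁻¹ * n ∈ ι.range := hC (mem_centralizer_singleton_iff.2 (by
    rw [← hg, map_mul, map_mul, map_inv] at hy
    rw [show (ι g)⁻¹ * n * ι i = (ι g)⁻¹ * (n * ι i * n⁻¹) * n by group, hy]
    group))
  simpa using mul_mem (⟨g, rfl⟩ : ι g ∈ ι.range) hm

theorem cent_conj (_h : Sep ι) {i j : Spn F 3} (hc : IsConj i j)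
    (hC : centralizer ({ι i} : Set G) ≤ ι.range) : centralizer ({ι j} : Set G) ≤ ι.range := by
  obtain ⟨g, rfl⟩ := isConj_iff.1 hc
  intro x hx
  rw [mem_centralizer_singleton_iff] at hx
  have hm : (ι g)⁻¹ * x * ι g ∈ ι.range := hC (mem_centralizer_singleton_iff.2 (by
    rw [show (ι g)⁻¹ * x * ι g * ι i = (ι g)⁻¹ * (x * (ι g * ι i * (ι g)⁻¹)) * ι g by group,
      ← map_inv ι g, ← map_mul, ← map_mul, hx, map_mul, map_mul, map_inv]
    group))
  have hg : ι g ∈ ι.range := ⟨g, rfl⟩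
  have := mul_mem (mul_mem hg hm) (inv_mem hg)
  rwa [show ι g * ((ι g)⁻¹ * x * ι g) * (ι g)⁻¹ = x by group] at this

theorem cent_z (h : Sep ι) {l : List (Fin 64)} {m : Fin 128} (he : els m = l)
    (hk : (witOf m).1 = 3) : centralizer ({ι (W l)} : Set G) ≤ ι.range :=
  h.cent_conj (els_conj h.two he hk) (by rw [(R_eq (F := F)).2.2.1]; exact h.cz)

/-- The centralizer of a product of two or of three independent transvections. -/
theorem cent_gj [Finite G] (h : Sep ι) {li lz : List (Fin 64)} (hli : li = [1, 2] ∨ li = [1, 2, 4])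
    (hlz : lz ∈ ([[1, 2, 3], [1, 4, 5], [3, 5, 6]] : List (List (Fin 64))))
    (hcz : centralizer ({ι (W lz)} : Set G) ≤ ι.range) (hz1 : (W lz : Spn F 3) ≠ 1)
    (hcen : ∀ x : Spn F 3, x * W li = W li * x → x * W lz = W lz * x) :
    centralizer ({ι (W li)} : Set G) ≤ ι.range := by
  haveI : Fact (Nat.Prime 2) := ⟨Nat.prime_two⟩
  have h2 := h.two
  have hmem : li ∈ ([[1], [1, 2], [1, 2, 4]] : List (List (Fin 64))) := by
    rcases hli with rfl | rfl <;> simp
  have hsq : ∀ p ∈ ([[1, 2, 3], [1, 4, 5], [3, 5, 6]] : List (List (Fin 64))),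
      (W p : Spn F 3) * W p = 1 ∧ (W p : Spn F 3) * W li = W li * W p := fun p hp => by
    rw [← W_append, ← W_append, ← W_append, ← W_nil]
    exact ⟨W_eq h2 fun x => ((four_facts x).2.2.1 p hp).1,
      W_eq h2 fun x => ((four_facts x).2.2.1 p hp).2 li hmem⟩
  set K : Subgroup G := centralizer ({ι (W li)} : Set G) with hK
  have hKmem : ∀ {x : Spn F 3}, x * W li = W li * x → ι x ∈ K := fun hx =>
    mem_centralizer_singleton_iff.2 (by rw [← map_mul, ← map_mul, hx])
  have hzK : ι (W lz) ∈ K := hKmem (hsq lz hlz).2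
  have hiso : Cfsg.IsIsolatedInvolution (⟨ι (W lz), hzK⟩ : K) := by
    refine ⟨by rw [← Subgroup.orderOf_coe]; exact h.order_two (hsq lz hlz).1 hz1,
      fun g hg => Subtype.ext ?_⟩
    have hg' : (g : G) * ι (W lz) * (g : G)⁻¹ ∈ ι.range :=
      hcz (mem_centralizer_singleton_iff.2 (congrArg Subtype.val hg.eq).symm)
    obtain ⟨y, hy⟩ := hg'
    obtain ⟨x, hx⟩ := h.mem_of_conj (hsq lz hlz).1 hz1 hcz hy.symm
    have hxi : x * W li = W li * x := h.inj (by
      rw [map_mul, map_mul, hx]; exact mem_centralizer_singleton_iff.1 g.2)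
    show (g : G) * ι (W lz) * (g : G)⁻¹ = ι (W lz)
    rw [← hx, ← map_inv, ← map_mul, ← map_mul, hcen x hxi, mul_inv_cancel_right]
  obtain ⟨N, hN, hodd, hcom⟩ := ZStar.zstar hiso
  -- the four-group
  set a := ι (W [1, 2, 3]) with ha
  set b := ι (W [1, 4, 5]) with hb
  have hab : a * b = ι (W [2, 3, 4, 5]) := by
    rw [ha, hb, ← map_mul, ← W_append]
    exact congrArg ι (W_eq h2 fun x => (four_facts x).1)
  have hba : b * a = ι (W [2, 3, 4, 5]) := by
    rw [ha, hb, ← map_mul, ← W_append]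
    exact congrArg ι (W_eq h2 fun x => (four_facts x).2.1)
  have haa : a * a = 1 := by rw [ha, ← map_mul, (hsq _ (by simp)).1, map_one]
  have hbb : b * b = 1 := by rw [hb, ← map_mul, (hsq _ (by simp)).1, map_one]
  have hc : ∀ y : G, a * (b * y) = b * (a * y) := fun y => by rw [← mul_assoc, hab, ← hba, mul_assoc]
  let E : Subgroup G :=
    { carrier := {p | p = 1 ∨ p = a ∨ p = b ∨ p = a * b}
      one_mem' := Or.inl rfl
      mul_mem' := by
        have e0 : b * a = a * b := hba.trans hab.symm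
        have e1 : a * (a * b) = b := by rw [← mul_assoc, haa, one_mul]
        have e2 : b * (a * b) = a := by rw [← e0, ← mul_assoc, hbb, one_mul]
        have e3 : a * b * a = b := by rw [mul_assoc, e0, e1]
        have e4 : a * b * b = a := by rw [mul_assoc, hbb, mul_one]
        have e5 : a * b * (a * b) = 1 := by rw [← mul_assoc, e3, hbb]
        rintro p q (rfl | rfl | rfl | rfl) (rfl | rfl | rfl | rfl) <;>
          simp [haa, hbb, e0, e1, e2, e3, e4, e5]
      inv_mem' := by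
        rintro p (rfl | rfl | rfl | rfl)
        · exact Or.inl inv_one
        · exact Or.inr (Or.inl (inv_eq_of_mul_eq_one_right haa))
        · exact Or.inr (Or.inr (Or.inl (inv_eq_of_mul_eq_one_right hbb)))
        · refine Or.inr (Or.inr (Or.inr ?_))
          rw [mul_inv_rev, inv_eq_of_mul_eq_one_right haa, inv_eq_of_mul_eq_one_right hbb, hba, hab] }
  have hb2 : ∀ y : G, b * (b * y) = y := fun y => by rw [← mul_assoc, hbb, one_mul]
  have hEel : Cfsg.IsElementaryAbelian 2 E := by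
    refine ⟨⟨⟨fun p q => Subtype.ext ?_⟩⟩, fun p hp => ?_⟩
    · rcases p with ⟨p, hp⟩; rcases q with ⟨q, hq⟩
      show p * q = q * p
      rcases hp with rfl | rfl | rfl | rfl <;> rcases hq with rfl | rfl | rfl | rfl <;>
        simp [mul_assoc, hc, haa, hbb, hb2, hab.trans hba.symm]
    · rw [sq]
      rcases hp with rfl | rfl | rfl | rfl <;> simp [mul_assoc, hc, haa, hbb, hab.trans hba.symm]
  have hEcard : 2 ^ 2 ≤ Nat.card E := by
    classical
    have hne : a ≠ 1 ∧ b ≠ 1 ∧ a * b ≠ 1 := by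
      have key : ∀ p ∈ ([[1, 2, 3], [1, 4, 5], [2, 3, 4, 5]] : List (List (Fin 64))),
          ∃ x, wact p x ≠ x := by decide +kernel
      have key' : ∀ p ∈ ([[1, 2, 3], [1, 4, 5], [2, 3, 4, 5]] : List (List (Fin 64))),
          ι (W p : Spn F 3) ≠ 1 := fun p hp e => by
        obtain ⟨x, hx⟩ := key p hp
        exact W_ne h2 (l' := []) hx (h.inj (e.trans (map_one ι).symm))
      rw [hab]
      exact ⟨key' _ (by simp), key' _ (by simp), key' _ (by simp)⟩
    have hanb : a ≠ b := fun e => hne.2.2 (by rw [e, hbb])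
    have hsub : ((({1, a, b, a * b} : Finset G)) : Set G) ⊆ (E : Set G) := by
      intro p hp
      simpa [E] using hp
    have h4 : ({1, a, b, a * b} : Finset G).card = 4 := by
      simp [Finset.card_insert_of_notMem, hne.1.symm, hne.2.1.symm, hne.2.2.symm, hanb, hne.2.1,
        hne.1]
    have := Set.ncard_le_ncard hsub (Set.toFinite _)
    rw [Set.ncard_coe_finset, h4, ← Nat.card_coe_set_eq] at this
    exact this
  have hEK : E ≤ K := by
    have hla : a ∈ K := hKmem (hsq _ (by simp)).2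
    have hlb : b ∈ K := hKmem (hsq _ (by simp)).2
    rintro p (rfl | rfl | rfl | rfl)
    exacts [one_mem _, hla, hlb, mul_mem hla hlb]
  have hNH : N.map K.subtype ≤ ι.range := by
    refine Signalizer.le_of_forall_centralizer hEel le_rfl hEcard ?_ ?_ fun e he he1 =>
      inf_le_right.trans ?_
    · refine Signalizer.le_normalizer_of_conj_mem fun p hp u hu => ?_
      obtain ⟨w, hw, rfl⟩ := mem_map.1 hu
      exact ⟨⟨p, hEK hp⟩ * w * ⟨p, hEK hp⟩⁻¹, hN.conj_mem w hw _, rfl⟩
    · rw [card_map_of_injective K.subtype_injective]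
      exact hodd.not_two_dvd_nat
    · rcases he with rfl | rfl | rfl | rfl
      · exact absurd rfl he1
      · exact h.cent_z (m := 7) (by decide +kernel) (by decide +kernel)
      · exact h.cent_z masks.2.2.2.1 masks.2.2.2.2.2.2.2.2.1
      · rw [hab]; exact h.cent_z masks.2.2.2.2.1 masks.2.2.2.2.2.2.2.2.2.1
  intro g hg
  have h1 : ι (W lz) * g * (ι (W lz))⁻¹ * g⁻¹ ∈ ι.range :=
    hNH ⟨_, hcom ⟨g, hg⟩, rfl⟩
  have hzr : ι (W lz : Spn F 3) ∈ ι.range := ⟨_, rfl⟩
  have h3 : g * ι (W lz) * g⁻¹ ∈ ι.range := by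
    have := inv_mem (mul_mem (inv_mem hzr) h1)
    simpa [mul_assoc] using this
  obtain ⟨y, hy⟩ := h3
  exact h.mem_of_conj (hsq lz hlz).1 hz1 hcz hy.symm

variable [Finite G]

theorem cent_g (h : Sep ι) : centralizer ({ι (W [1, 2])} : Set G) ≤ ι.range :=
  h.cent_gj (lz := [1, 2, 3]) (Or.inl rfl) (by simp) (by rw [← z0_eq]; exact h.cz)
    (W_ne h.two (l' := []) (x := 8) (by decide +kernel)) fun _ hx => central_g h.two hx

theorem cent_j (h : Sep ι) : centralizer ({ι (W [1, 2, 4])} : Set G) ≤ ι.range :=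
  h.cent_gj (lz := [3, 5, 6]) (Or.inr rfl) (by simp)
    (h.cent_z masks.2.2.1 masks.2.2.2.2.2.2.2.1)
    (W_ne h.two (l' := []) (x := 8) (by decide +kernel)) fun _ hx => central_j h.two hx

/-- Outside the class of transvections the centralizers are contained. -/
theorem cent_ne_one (h : Sep ι) {k : Fin 5} (hk : k ≠ 0) (hk1 : k ≠ 1) {i : Spn F 3}
    (hc : IsConj (R k) i) : centralizer ({ι i} : Set G) ≤ ι.range := by
  obtain ⟨-, e2, e3, e4⟩ := R_eq (F := F)
  refine h.cent_conj hc ?_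
  fin_cases k
  · exact absurd rfl hk
  · exact absurd rfl hk1
  · exact (e2.trans g0_eq) ▸ h.cent_g
  · exact e3 ▸ h.cz
  · exact (e4.trans j0_eq) ▸ h.cent_j

/-- Conjugation inside the centralizer of a transvection. -/
theorem fact (h : Sep ι) {s y : Spn F 3} (hs : s * s = 1) (hs1 : s ≠ 1) (hsf : s ≠ t 1)
    (hcomm : s * t 1 = t 1 * s) {n : G} (hn : n * ι (t 1) = ι (t 1) * n)
    (hy : n * ι s * n⁻¹ = ι y) : n ∈ ι.range := by
  have h2 := h.two
  rcases classify h2 hs with e | ⟨k, hk, hc⟩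
  · exact absurd e hs1
  by_cases hk1 : k = 1
  · subst hk1
    obtain ⟨g, hg⟩ := isConj_iff.1 hc
    rw [R_one, t_conj h2] at hg
    obtain ⟨u, rfl⟩ : ∃ u, t u = s := ⟨_, hg⟩
    have hu0 : u ≠ 0 := fun e => hs1 (by
      rw [e, t, vc_zero, tr_zero])
    have hu1 : u ≠ 1 := fun e => hsf (by rw [e])
    have ho : fm u 1 = false := by
      have he : t 1 * t u * (t 1 : Spn F 3)⁻¹ = t (mv 1 u) := by
        rw [t_conj h2, ← W_singleton 1, ac_W]; rfl
      have e : mv 1 u = u := t_inj h2 (by rw [← he, ← hcomm, mul_inv_cancel_right])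
      rw [mv_eq] at e
      by_contra hne
      rw [Bool.not_eq_false] at hne
      rw [(fm_facts 1 u).1, hne, if_pos rfl] at e
      have := (cx_facts u 1).2.1
      rw [e, (cx_facts u u).2.2.2.2.1] at this
      exact absurd this (by decide)
    have hC : centralizer ({ι (W [u, 1])} : Set G) ≤ ι.range := by
      refine h.cent_conj (two_conj h2 hu0 (by decide) hu1 ho) ?_
      rw [g0_eq]; exact h.cent_g
    refine h.mem_of_conj (y := y * t 1) (W_sq h2 ?_) ?_ hC ?_
    · have ho' : fm 1 u = false := by rw [(fm_facts 1 u).1, ho]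
      simp [ho, ho', (fm_facts u u).2.1, (fm_facts 1 1).2.1]
    · intro e
      rw [W_cons, W_singleton, mul_eq_one_iff_eq_inv, inv_eq_of_mul_eq_one_right (t_sq 1)] at e
      exact hsf e
    · rw [W_cons, W_singleton, map_mul, map_mul, ← hy,
        show n * ι (t u) * n⁻¹ * ι (t 1) = n * ι (t u) * (n⁻¹ * ι (t 1)) by group,
        show n⁻¹ * ι (t 1) = ι (t 1) * n⁻¹ by
          rw [eq_mul_inv_iff_mul_eq, mul_assoc, ← hn, ← mul_assoc, inv_mul_cancel, one_mul]]
      group
  · exact h.mem_of_conj hs hs1 (h.cent_ne_one hk hk1 hc) hy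

/-- The centralizer of a transvection. -/
theorem cent_f (h : Sep ι) : centralizer ({ι (t 1)} : Set G) ≤ ι.range := by
  have h2 := h.two
  intro n hnK
  rw [mem_centralizer_singleton_iff] at hnK
  by_contra hn
  set f := ι (t 1) with hf
  have hff : f * f = 1 := by rw [hf, ← map_mul, t_sq, map_one]
  have hsK : (W [2, 4, 6] : Spn F 3) * t 1 = t 1 * W [2, 4, 6] := by
    rw [← W_singleton 1, ← W_append, ← W_append]
    exact W_eq h2 fun x => (four_facts x).2.2.2.2.2.1
  have hssq : (W [2, 4, 6] : Spn F 3) * W [2, 4, 6] = 1 := by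
    rw [← W_append, ← W_nil]
    exact W_eq h2 fun x => (four_facts x).2.2.2.2.2.2.1
  have hs1 : (W [2, 4, 6] : Spn F 3) ≠ 1 := W_ne h2 (l' := []) (x := 16) (by decide +kernel)
  have hsf : (W [2, 4, 6] : Spn F 3) ≠ t 1 := by
    rw [← W_singleton 1]; exact W_ne h2 (x := 16) (by decide +kernel)
  have h21 : (t 2 : Spn F 3) * t 1 = t 1 * t 2 := t_comm h2 (by decide +kernel)
  have h2ne : (t 2 : Spn F 3) ≠ t 1 := fun e => absurd (t_inj h2 e) (by decide)
  have h2one : (t 2 : Spn F 3) ≠ 1 := by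
    rw [← W_singleton]; exact W_ne h2 (l' := []) (x := 16) (by decide +kernel)
  set s := ι (W [2, 4, 6]) with hs
  set τ := n * ι (t 2) * n⁻¹ with hτ
  have os : orderOf s = 2 := h.order_two hssq hs1
  have oτ : orderOf τ = 2 := by
    rw [hτ, Invol.orderOf_conj_eq]; exact h.order_two (t_sq 2) h2one
  have hfs : Commute f s := by
    show f * s = s * f
    rw [hf, hs, ← map_mul, ← map_mul, hsK]
  have hfτ : Commute f τ := by
    have h1 : Commute f n := hnK.symm
    exact (h1.mul_right (by show f * ι (t 2) = ι (t 2) * f; rw [hf, ← map_mul, ← map_mul, h21])).mul_right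
      h1.inv_right
  have hτ2 : IsConj (ι (t 2)) τ := isConj_iff.2 ⟨n, rfl⟩
  have c2 : IsConj (R 1 : Spn F 3) (t 2) := by
    rw [← W_singleton]; exact els_conj h2 masks.2.1 masks.2.2.2.2.2.2.2.2.2.2.2.2
  have c246 : IsConj (R 3 : Spn F 3) (W [2, 4, 6]) :=
    els_conj h2 masks.2.2.2.2.2.1 masks.2.2.2.2.2.2.2.2.2.2.1
  have c1246 : IsConj (R 4 : Spn F 3) (W [1, 2, 4, 6]) :=
    els_conj h2 masks.2.2.2.2.2.2.1 masks.2.2.2.2.2.2.2.2.2.2.2.1
  have esf : s * f = ι (W [1, 2, 4, 6]) := by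
    rw [hs, hf, ← map_mul, ← W_singleton 1, ← W_append]
    exact congrArg ι (W_eq h2 fun x => (four_facts x).2.2.2.2.2.2.2)
  have not_z : ¬ IsConj τ s := fun e => absurd
    (h.sep 1 3 (by decide) (by decide)
      (((ι.map_isConj c2).trans (hτ2.trans e)).trans (ι.map_isConj c246).symm)) (by decide)
  have not_j : ¬ IsConj τ (s * f) := fun e => absurd
    (h.sep 1 4 (by decide) (by decide)
      (((ι.map_isConj c2).trans ((hτ2.trans e).trans (esf ▸ IsConj.refl _))).trans
        (ι.map_isConj c1246).symm)) (by decide)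
  have heven : Even (orderOf (τ * s)) := Invol.even_orderOf_mul_of_not_isConj oτ os not_z
  obtain ⟨oe, cτ, cs⟩ := Invol.half_props oτ os heven
  set e := (τ * s) ^ (orderOf (τ * s) / 2) with he
  have hfe : Commute f e := (hfτ.mul_right hfs).pow_right _
  have hef : e ≠ f := by
    intro e0
    rcases Nat.even_or_odd (orderOf (τ * s) / 2) with ⟨k, hk⟩ | hm
    · -- a square root of `f` sends `s` to `s * f`
      set r := (τ * s) ^ k with hr
      have hr2 : r * r = f := by rw [hr, ← pow_add, ← hk, ← he, e0]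
      have hinv : s * r * s⁻¹ = r⁻¹ := by
        rw [hr, ← conj_pow, ← inv_pow]
        congr 1
        rw [Invol.mul_inv_rev_invol oτ os, Invol.inv_eq_self os, mul_assoc, mul_assoc,
          Invol.mul_self_eq_one os, mul_one]
      have hconj : r * s * r⁻¹ = s * f := by
        rw [← hfs.eq, ← hr2, show r * s * r⁻¹ = r * (s * r⁻¹ * s⁻¹) * s by group]
        have hinv' : s * r⁻¹ * s⁻¹ = r := by
          rw [show s * r⁻¹ * s⁻¹ = (s * r * s⁻¹)⁻¹ by group, hinv, inv_inv]
        rw [hinv']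
      exact absurd (h.sep 3 4 (by decide) (by decide)
        (((ι.map_isConj c246).trans ((isConj_iff.2 ⟨r, hconj⟩).trans (esf ▸ IsConj.refl _))).trans
          (ι.map_isConj c1246).symm)) (by decide)
    · refine not_j (Invol.isConj_of_odd oτ ?_ (Odd.of_dvd_nat hm (orderOf_dvd_of_pow_eq_one ?_)))
      · refine Invol.orderOf_eq_two ?_ fun e1 => ?_
        · rw [hfs.mul_mul_mul_comm, Invol.mul_self_eq_one os, hff, mul_one]
        · rw [mul_eq_one_iff_eq_inv, inv_eq_of_mul_eq_one_right hff] at e1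
          exact hsf (h.inj e1)
      · rw [← mul_assoc, ((hfτ.mul_right hfs).symm).mul_pow, ← he, e0]
        obtain ⟨k, hk⟩ := hm
        rw [hk, pow_succ, pow_mul, sq, hff, one_pow, one_mul, hff]
  -- the involution commuting with both
  obtain ⟨e₁, he₁⟩ : e ∈ ι.range :=
    h.fact hssq hs1 hsf hsK hfe.symm.eq (y := W [2, 4, 6]) (mul_inv_eq_iff_eq_mul.2 cs.eq)
  have e1sq : e₁ * e₁ = 1 := h.inj (by rw [map_mul, he₁, Invol.mul_self_eq_one oe, map_one])
  have e1ne : e₁ ≠ 1 := fun z => Invol.ne_one oe (by rw [← he₁, z, map_one])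
  have e1f : e₁ ≠ t 1 := fun z => hef (by rw [← he₁, z])
  have e1c : e₁ * t 1 = t 1 * e₁ := h.inj (by rw [map_mul, map_mul, he₁]; exact hfe.symm.eq)
  obtain ⟨τ₁, hτ₁⟩ : τ ∈ ι.range :=
    h.fact e1sq e1ne e1f e1c hfτ.symm.eq (y := e₁)
      (by rw [he₁]; exact mul_inv_eq_iff_eq_mul.2 cτ.symm.eq)
  exact hn (h.fact (t_sq 2) h2one h2ne h21 hnK hτ₁.symm)

/-- Every centralizer of an involution is contained. -/
theorem cent_all (h : Sep ι) {i : Spn F 3} (hi : i * i = 1) (hi1 : i ≠ 1) :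
    centralizer ({ι i} : Set G) ≤ ι.range := by
  rcases classify h.two hi with e | ⟨k, hk, hc⟩
  · exact absurd e hi1
  by_cases hk1 : k = 1
  · subst hk1
    refine h.cent_conj hc ?_
    rw [R_one]
    exact h.cent_f
  · exact h.cent_ne_one hk hk1 hc

theorem range_eq_top (h : Sep ι) : ι.range = ⊤ := by
  refine (eq_top_iff' _).2 fun n => ?_
  have h1 := R_sq (F := F) h.two 1
  have n1 := R_ne (F := F) h.two 1 (by decide)
  have h3 := R_sq (F := F) h.two 3
  have n3 := R_ne (F := F) h.two 3 (by decide)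
  have oτ : orderOf (n * ι (R 1) * n⁻¹) = 2 := by
    rw [Invol.orderOf_conj_eq]; exact h.order_two h1 n1
  obtain ⟨e, oe, cτ, cz⟩ := Invol.exists_commuting_invol oτ (h.order_two h3 n3) fun hc =>
    absurd (h.sep 1 3 (by decide) (by decide) ((isConj_iff.2 ⟨n, rfl⟩).trans hc)) (by decide)
  obtain ⟨e₁, rfl⟩ : e ∈ ι.range := h.cent_all h3 n3 (mem_centralizer_singleton_iff.2 cz.eq)
  have e1sq : e₁ * e₁ = 1 := h.inj (by rw [map_mul, Invol.mul_self_eq_one oe, map_one])
  have e1ne : e₁ ≠ 1 := fun z => Invol.ne_one oe (by rw [z, map_one])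
  obtain ⟨y, hy⟩ : n * ι (R 1) * n⁻¹ ∈ ι.range :=
    h.cent_all e1sq e1ne (mem_centralizer_singleton_iff.2 cτ.symm.eq)
  exact h.mem_of_conj h1 n1 (h.cent_all h1 n1) hy.symm

end Sep

/-- A subgroup isomorphic to `Sp₆(2)` with contained centralizer of a `z`-involution and separated
classes is the whole group. -/
theorem spSix_range_eq_top [Finite G] (h2 : ∀ x : F, x = 0 ∨ x = 1) (ι : Spn F 3 →* G)
    (hinj : Function.Injective ι) (hC : centralizer ({ι z0} : Set G) ≤ ι.range)
    (hfg : ¬ IsConj (ι f0) (ι g0)) (hfz : ¬ IsConj (ι f0) (ι z0)) (hfj : ¬ IsConj (ι f0) (ι j0))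
    (hgz : ¬ IsConj (ι g0) (ι z0)) (hgj : ¬ IsConj (ι g0) (ι j0)) (hzj : ¬ IsConj (ι z0) (ι j0)) :
    ι.range = ⊤ := by
  refine Sep.range_eq_top ⟨h2, hinj, hC, fun j k hj hk hc => ?_⟩
  obtain ⟨e1, e2, e3, e4⟩ := R_eq (F := F)
  fin_cases j <;> fin_cases k
  all_goals first
    | rfl
    | exact absurd rfl hj
    | exact absurd rfl hk
    | skip
  all_goals simp only [Fin.mk_one, Fin.reduceFinMk, e1, e2, e3, e4] at hc
  all_goals first
    | exact absurd hc hfg
    | exact absurd hc hfz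
    | exact absurd hc hfj
    | exact absurd hc hgz
    | exact absurd hc hgj
    | exact absurd hc hzj
    | exact absurd hc.symm hfg
    | exact absurd hc.symm hfz
    | exact absurd hc.symm hfj
    | exact absurd hc.symm hgz
    | exact absurd hc.symm hgj
    | exact absurd hc.symm hzj

end CfsgLib.PSpFourRec.SpSix
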