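import Cfsg.Agent.PSpFourRec.CaseBSwap
import Cfsg.Agent.PSpFourRec.SpSixTop
import Cfsg.Agent.S0270
import Mathlib.GroupTheory.Perm.Closure

/-!
# A symmetric group of degree six in the centralizer of the basis vector: a subgroup isomorphic to
# the six-dimensional symplectic group over two elements
-/

set_option autoImplicit false
set_option maxRecDepth 100000
set_option synthInstance.maxSize 100000
set_option linter.style.haveILetI false
set_option linter.unusedSectionVars false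

namespace CfsgLib.PSpFourRec

open CfsgLib.AltNine CfsgLib.PSpFourThree Subgroup Equiv
open CfsgLib.ThreeSymNine (Mat app mm pmat dmat mono pa pm pinv dig sm nv_nv pa_table app_pmat app_one
  ext_app allSigns dx du db pd bc mono_tables)
open CfsgLib.ThreeLocalNine (p2 p3)
open CfsgLib.ThreeSymNine.Six (tp)
open CfsgLib.SpPres (Spn Vec)
open CfsgLib.SpSixMult (root gen exists_lift exists_phi card_sp6 card_W)
open SpSix (t)

attribute [local instance 10000] List.decidableBAll List.decidableBEx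

universe u v

/-- Generating transpositions. -/
def gp : Fin 5 → Perm (Fin 6) := ![swap 0 1, swap 0 2, swap 2 5, swap 3 5, swap 3 4]

/-- Their codes in the first complement. -/
def gc : Fin 5 → Fin 64 := ![6, 17, 2, 48, 4]

/-- Their codes in the second complement. -/
def gc' : Fin 5 → Fin 64 := ![6, 17, 8, 1, 14]

/-- The codes of the simple roots. -/
def code : Fin 7 → Fin 64 := ![1, 6, 8, 17, 2, 48, 4]

theorem code_bits : ∀ i, SpSix.bits (code i) = root i := by decide +kernel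

theorem gp_words : p2 = ([1, 0].map gp).prod ∧ p3 = ([3, 4].map gp).prod ∧
    swap (0 : Fin 6) 1 = gp 0 ∧ swap (3 : Fin 6) 4 = gp 4 ∧
    tp = ([1, 2, 3, 2, 1, 0, 1, 2, 3, 4, 3, 2, 1, 0, 2].map gp).prod ∧
    swap (1 : Fin 6) 2 = ([0, 1, 0].map gp).prod ∧ swap (2 : Fin 6) 3 = ([2, 3, 2].map gp).prod ∧
    swap (4 : Fin 6) 5 = ([4, 3, 4].map gp).prod ∧
    (∃ a b : Fin 3, swap (0 : Fin 6) 2 = p2 ^ (a : ℕ) * swap 0 1 * p2 ^ (b : ℕ)) ∧
    (∃ a b : Fin 3, swap (3 : Fin 6) 5 = p3 ^ (a : ℕ) * swap 3 4 * p3 ^ (b : ℕ)) ∧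
    uaP (swap 2 5 * swap 3 4) := by decide +kernel

theorem gp_ne : swap (3 : Fin 6) 5 ≠ 1 ∧ swap (3 : Fin 6) 5 ≠ swap 2 5 ∧ swap (3 : Fin 6) 5 ≠ swap 3 4 := by
  decide +kernel

theorem cent_six_table : (∀ d : Fin 8, ∀ a : Fin 6, app (mono d a) 1 = 1 → app (mono d a) 3 = 3 →
      a = 0 ∧ (d = 0 ∨ d = 4)) ∧
    (∀ v : Fin 27, app (mono 1 0) v = v → app (mono 2 0) v = v → ∃ k : Fin 3, v = sm k 9) ∧
    (∀ j k : Fin 3, av (sm k 9) (app (mono 4 0) (sm j 9)) = av (sm j 9) (app (mono 4 0) (sm k 9)) →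
      j = k) ∧
    pd 2 2 = 4 ∧ pa 2 1 = 1 ∧ av 1 3 = 4 ∧ (∀ k : Fin 3, k ≠ 0 → ∀ i : Fin 3, ∃ n : Fin 3,
      sm n (sm k 9) = (sm i 9 : Fin 27)) ∧
    (∀ j k : Fin 3, j ≠ k → ∃ i : Fin 3, i ≠ 0 ∧ av (sm k 9) (app (mono 4 0) (sm j 9)) = sm i 9) ∧
    (∀ a b c : Fin 3, a ≠ b → a ≠ c → b ≠ c → a = 0 ∨ b = 0 ∨ c = 0) ∧
    (∀ k : Fin 3, av (sm k 9) (sm k 9) = 0 → k = 0) := by decide +kernel

theorem card_two_eq {α : Type*} {x y z : α} (h : Nat.card α = 2) (hy : y ≠ x) (hz : z ≠ x) :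
    y = z := by
  obtain ⟨w, -, hw⟩ := (Nat.card_eq_two_iff' x).1 h
  exact (hw y hy).trans (hw z hz).symm

namespace Hyp

variable {G : Type u} [Group G] [Finite G] {H : Hyp G} {D : Fin 8 → G} {L : Subgroup G}
  {φ : L ≃* Perm (Fin 6)}

/-- The conjugation exchanging the two complements. -/
def cS (H : Hyp G) : G →* G := (MulAut.conj (H.S 2)).toMonoidHom

theorem cS_apply (g : G) : H.cS g = H.S 2 * g * (H.S 2)⁻¹ := rfl

theorem cS_inv (g : G) : H.cS (H.cS g) = g := by
  have hS2 : H.S 2 * H.S 2 = 1 := by rw [H.S_mul, swap_lines.2.2.2.1, H.S_zero]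
  rw [cS_apply, cS_apply, inv_eq_of_mul_eq_one_right hS2]
  calc H.S 2 * (H.S 2 * g * H.S 2) * H.S 2 = (H.S 2 * H.S 2) * g * (H.S 2 * H.S 2) := by group
    _ = g := by rw [hS2, one_mul, mul_one]

/-- The values of the conjugation. -/
theorem Six.cS_vals (hX : H.Six D L φ) : H.cS (H.emb 1) = H.emb 1 ∧ H.cS (H.emb 3) = H.emb 9 ∧
    H.cS (D 1) = D 1 ∧ H.cS (D 2) = D 4 ∧ H.cS (lf φ (swap 0 1)) = lf φ (swap 0 1) ∧
    H.cS (lf φ (swap 0 2)) = lf φ (swap 0 2) ∧ H.cS (lf φ (swap 3 4)) = D 4 := by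
  have hv := hX.lf_vals
  have e1 : H.cS (H.emb 1) = H.emb 1 := by rw [cS_apply, H.S_act, cent_six_table.2.2.2.2.1]
  have d1 : H.cS (D 1) = D 1 := by rw [cS_apply, hX.flips.conj, swap_lines.2.2.1]
  have d2 : H.cS (D 2) = D 4 := by rw [cS_apply, hX.flips.conj, cent_six_table.2.2.2.1]
  refine ⟨e1, by rw [cS_apply, H.S_act, swap_lines.1], d1, d2, by rw [hv.2.2.1, d1], ?_,
    by rw [hv.2.2.2.1, d2]⟩
  obtain ⟨a, b, hab⟩ := gp_words.2.2.2.2.2.2.2.2.1
  rw [hab, lf_mul, lf_mul, lf_pow, lf_pow, hv.1, hv.2.2.1, map_mul, map_mul, map_pow, map_pow, e1, d1]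

/-- The centralizer of the complement. -/
theorem Six.cent_L (hX : H.Six D L φ) {g : G} (hg : ∀ σ, Commute g (lf φ σ)) :
    ∃ k : Fin 3, g = H.emb (sm k 9) ∨ g = H.emb (sm k 9) * D 4 := by
  have hF := hX.flips
  have hv := hX.lf_vals
  have h1 : g * H.emb 1 = H.emb 1 * g := hv.1 ▸ hg _
  have h3 : g * H.emb 3 = H.emb 3 * g := hv.2.1 ▸ hg _
  have h4 : g * H.emb 4 = H.emb 4 * g := by
    rw [← cent_six_table.2.2.2.2.2.1, H.emb_add]
    exact ((show Commute g (H.emb 1) from h1).mul_right h3).eq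
  obtain ⟨v, d, a, rfl⟩ := hF.mem_N_iff.1
    (hF.four_le (v := 4) (by decide) (mem_centralizer_singleton_iff.2 h4))
  have fix : ∀ w, H.el D v d a * H.emb w = H.emb w * H.el D v d a → app (mono d a) w = w :=
    fun w hw => H.emb_inj (by rw [← hF.el_ind v d a w, hw, mul_inv_cancel_right])
  obtain ⟨ha, hd⟩ := cent_six_table.1 d a (fix 1 h1) (fix 3 h3)
  subst ha
  have hvd : H.el D v d 0 = H.emb v * D d := by rw [el, H.S_zero, mul_one]
  rw [hvd] at hg ⊢
  have hflip : ∀ c, Commute (H.emb v * D d) (D c) → app (mono c 0) v = v := fun c hc => by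
    refine H.emb_inj ?_
    rw [← hF.ind_flip c v]
    have e : D c * H.emb v * D d = H.emb v * D c * D d := by
      calc D c * H.emb v * D d = D c * (H.emb v * D d) := mul_assoc _ _ _
        _ = H.emb v * D d * D c := hc.eq.symm
        _ = _ := by rw [mul_assoc, hF.comm d c, ← mul_assoc]
    rw [mul_right_cancel e, mul_inv_cancel_right]
  obtain ⟨k, rfl⟩ := cent_six_table.2.1 v (hflip 1 (hv.2.2.1 ▸ hg _)) (hflip 2 (hv.2.2.2.1 ▸ hg _))
  rcases hd with rfl | rfl
  · exact ⟨k, Or.inl (by rw [hF.zero, mul_one])⟩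
  · exact ⟨k, Or.inr rfl⟩

/-- An involution centralizing the complement. -/
theorem Six.invol_cent_L (hX : H.Six D L φ) {g : G} (hg : ∀ σ, Commute g (lf φ σ))
    (h2 : g * g = 1) (h1 : g ≠ 1) : ∃ k : Fin 3, g = H.emb (sm k 9) * D 4 := by
  obtain ⟨k, rfl | rfl⟩ := hX.cent_L hg
  · rw [← H.emb_add, ← H.emb_zero] at h2
    rw [cent_six_table.2.2.2.2.2.2.2.2.2 k (H.emb_inj h2)] at h1
    exact absurd H.emb_zero (by simpa [sm] using h1)
  · exact ⟨k, rfl⟩

variable {F : Type v} [Field F] [CharP F 2] [Fintype F]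

/-- An embedding of the symplectic group with both complements in standard position. -/
structure Coord (H : Hyp G) (D : Fin 8 → G) {L : Subgroup G} (φ : L ≃* Perm (Fin 6))
    (ι : Spn F 3 →* G) : Prop where
  two : ∀ x : F, x = 0 ∨ x = 1
  inj : Function.Injective ι
  fst : ∀ i, lf φ (gp i) = ι (t (gc i))
  snd : ∀ i, H.cS (lf φ (gp i)) = ι (t (gc' i))

theorem spn_simple (h : Fintype.card F = 2) (N : Subgroup (Spn F 3)) [N.Normal] : N = ⊥ ∨ N = ⊤ := by
  haveI : IsSimpleGroup (Cfsg.PSp 3 F) := Cfsg.Agent.S0270.result 3 (by norm_num) (by norm_num)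
  have hZ : center (Spn F 3) = ⊥ := by
    rw [← Subgroup.card_eq_one, CfsgLib.Symp.card_center, Nat.card_eq_fintype_card, h]
    rfl
  let π : Spn F 3 →* Cfsg.PSp 3 F := QuotientGroup.mk' (center (Spn F 3))
  have hπ : Function.Injective π := (MonoidHom.ker_eq_bot_iff _).1 (by
    rw [QuotientGroup.ker_mk', hZ])
  have hn : (N.map π).Normal := Subgroup.Normal.map inferInstance π (QuotientGroup.mk'_surjective _)
  rcases IsSimpleGroup.eq_bot_or_eq_top_of_normal _ hn with e | e
  · exact Or.inl ((map_eq_bot_iff_of_injective N hπ).1 e)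
  · right
    rw [eq_top_iff]
    intro g _
    obtain ⟨g', hg', he⟩ : π g ∈ N.map π := e ▸ mem_top _
    exact hπ he ▸ hg'

set_option maxHeartbeats 1000000 in
/-- The subgroup generated by both complements. -/
theorem Six.exists_coord (hX : H.Six D L φ) (h : Fintype.card F = 2) :
    ∃ ι : Spn F 3 →* G, Coord H D φ ι := by
  classical
  have h2 := CfsgLib.SpMult.cases_of_card_two h
  have hF := hX.flips
  have hv := hX.lf_vals
  obtain ⟨c1, c3, cd1, cd2, f01, f02, f34⟩ := hX.cS_vals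
  set c := H.cS
  have hcinv : ∀ g, c (c g) = g := cS_inv
  have hcl : ∀ σ τ : Perm (Fin 6), σ * τ = τ * σ → Commute (c (lf φ σ)) (c (lf φ τ)) := fun σ τ e =>
    (show Commute (lf φ σ) (lf φ τ) from by
      show _ * _ = _ * _
      rw [← lf_mul, ← lf_mul, e]).map c
  have hll : ∀ σ τ : Perm (Fin 6), σ * τ = τ * σ → Commute (lf φ σ) (lf φ τ) := fun σ τ e => by
    show _ * _ = _ * _
    rw [← lf_mul, ← lf_mul, e]
  have hbl : ∀ σ τ : Perm (Fin 6), σ * τ * σ = τ * σ * τ →
      lf φ σ * lf φ τ * lf φ σ = lf φ τ * lf φ σ * lf φ τ := fun σ τ e => by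
    simp only [← lf_mul, e]
  -- the elements centralizing the first complement
  have hA : ∀ σ, Commute (c (lf φ (swap 3 5))) (lf φ σ) := by
    intro σ
    obtain ⟨a, b, hab⟩ := gp_words.2.2.2.2.2.2.2.2.2.1
    rw [hab, lf_mul, lf_mul, lf_pow, lf_pow, hv.2.1, map_mul, map_mul, map_pow, map_pow, c3, f34]
    have h9 : Commute (H.emb 9) (lf φ σ) := (hX.lf_nine σ).symm
    exact ((h9.pow_left _).mul_left (hX.lf_four σ)).mul_left (h9.pow_left _)
  have hB : ∀ σ, Commute (lf φ (swap 3 5)) (c (lf φ σ)) := fun σ => by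
    have := (hA σ).map c
    rwa [hcinv] at this
  have hB' : ∀ σ, Commute (lf φ (swap 3 4)) (c (lf φ σ)) := fun σ => by
    have := (hX.lf_four σ).map c
    rwa [← f34, hcinv] at this
  have hspecial : Commute (c (lf φ (swap 2 5))) (lf φ (swap 2 5)) := by
    have h0 := hX.swap_comm _ _ gp_words.2.2.2.2.2.2.2.2.2.2 gp_words.2.2.2.2.2.2.2.2.2.2
    rw [← cS_apply] at h0
    change Commute (c _) _ at h0
    rw [lf_mul, map_mul, f34] at h0
    set A := c (lf φ (swap 2 5))
    set B := lf φ (swap 2 5)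
    set P := D 4
    set Q := lf φ (swap 3 4)
    set X := A * P with hXdef
    set Y := B * Q with hYdef
    have hPB : Commute P B := hX.lf_four _
    have hAQ : Commute A Q := (hB' _).symm
    have hPQ : Commute P Q := hX.lf_four _
    have hP2 : P * P = 1 := hF.sq 4
    have hQ2 : Q * Q = 1 := by
      simp only [Q, ← lf_mul, Equiv.swap_mul_self, lf_one]
    have hXY : Commute X Y := h0
    have hA' : A = X * P := by rw [hXdef, mul_assoc, hP2, mul_one]
    have hB'' : B = Y * Q := by rw [hYdef, mul_assoc, hQ2, mul_one]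
    rw [hA', hB'']
    exact (hXY.mul_right (hAQ.mul_left hPQ)).mul_left
      ((hPB.mul_right hPQ).mul_right hPQ)
  -- the generators
  set f : Fin 7 → G := ![c (lf φ (swap 3 5)), lf φ (swap 0 1), c (lf φ (swap 2 5)), lf φ (swap 0 2),
    lf φ (swap 2 5), lf φ (swap 3 5), lf φ (swap 3 4)]
  have hsw : ∀ a b : Fin 6, lf φ (swap a b) * lf φ (swap a b) = 1 := fun a b => by
    rw [← lf_mul, Equiv.swap_mul_self, lf_one]
  have hsq : ∀ i, f i * f i = 1 := by
    intro i
    fin_cases i <;> simp only [f]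
    all_goals first
      | exact hsw _ _
      | (show c _ * c _ = 1; rw [← map_mul, hsw, map_one])
  have hcomm : ∀ i j : Fin 7, i < j → CoxeterMatrix.E₇ i j = 2 → Commute (f i) (f j) := by
    intro i j hij hm
    fin_cases i <;> fin_cases j <;> first
      | exact absurd hij (by decide)
      | exact absurd hm (by decide)
      | (simp only [f]
         first
          | exact hA _
          | exact hll _ _ (by decide)
          | exact (hB _).symm
          | exact (hB' _).symm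
          | exact hspecial
          | (rw [← f01]; exact hcl _ _ (by decide)))
  have hb02 : c (lf φ (swap 3 5)) * c (lf φ (swap 2 5)) * c (lf φ (swap 3 5)) =
      c (lf φ (swap 2 5)) * c (lf φ (swap 3 5)) * c (lf φ (swap 2 5)) := by
    simp only [← map_mul, hbl (swap 3 5) (swap 2 5) (by decide)]
  have hb23 : c (lf φ (swap 2 5)) * lf φ (swap 0 2) * c (lf φ (swap 2 5)) =
      lf φ (swap 0 2) * c (lf φ (swap 2 5)) * lf φ (swap 0 2) := by
    rw [← f02]
    simp only [← map_mul, hbl (swap 2 5) (swap 0 2) (by decide)]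
  have hbraid : ∀ i j : Fin 7, i < j → CoxeterMatrix.E₇ i j = 3 →
      f i * f j * f i = f j * f i * f j := by
    intro i j hij hm
    fin_cases i <;> fin_cases j <;> first
      | exact absurd hij (by decide)
      | exact absurd hm (by decide)
      | (simp only [f]
         first
          | exact hbl _ _ (by decide)
          | exact hb02
          | exact hb23)
  obtain ⟨Φ, hΦ⟩ := exists_lift f hsq (fun i j hm => by
      rcases lt_trichotomy i j with hij | rfl | hij
      · exact (hcomm i j hij hm).eq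
      · rfl
      · exact (hcomm j i hij (by rw [CoxeterMatrix.symmetric, hm])).eq.symm) (fun i j hm => by
      rcases lt_trichotomy i j with hij | rfl | hij
      · exact hbraid i j hij hm
      · rfl
      · exact (hbraid j i hij (by rw [CoxeterMatrix.symmetric, hm])).symm)
  obtain ⟨ψ, hψs, hψ⟩ := exists_phi (F := F) h2
  -- the first generator
  have hf0 : ∀ σ, Commute (f 0) (lf φ σ) := hA
  have hf0ne : f 0 ≠ 1 := fun e => gp_ne.1 (lf_inj φ (by
    rw [lf_one, ← hcinv (lf φ _)]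
    exact (congrArg c e).trans (map_one c)))
  obtain ⟨j, hj⟩ := hX.invol_cent_L hf0 (hsq 0) hf0ne
  -- the kernel
  have hker2 : Nat.card ψ.ker = 2 := by
    have := ψ.ker.card_mul_index
    rw [Subgroup.index_ker, MonoidHom.range_eq_top.2 hψs, Subgroup.card_top, card_sp6 h2,
      card_W] at this
    omega
  have hgenL : ∀ g : G, (∀ i, Commute g (lf φ (gp i))) → ∀ σ, Commute g (lf φ σ) := by
    intro g h5 σ
    have hw : ∀ l : List (Fin 5), Commute g (lf φ ((l.map gp).prod)) := by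
      intro l
      induction l with
      | nil => simp [lf_one]
      | cons i l ih => rw [List.map_cons, List.prod_cons, lf_mul]; exact (h5 i).mul_right ih
    induction σ using Submonoid.induction_of_closure_eq_top_left
        (Equiv.Perm.mclosure_swap_castSucc_succ 5) with
    | one => rw [lf_one]; exact Commute.one_right _
    | mul_left τ hτ σ ih =>
      rw [lf_mul]
      refine Commute.mul_right ?_ ih
      obtain ⟨i, rfl⟩ := hτ
      fin_cases i
      · exact h5 0
      · have := hw [0, 1, 0]; rwa [← gp_words.2.2.2.2.2.1] at this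
      · have := hw [2, 3, 2]; rwa [← gp_words.2.2.2.2.2.2.1] at this
      · exact h5 4
      · have := hw [4, 3, 4]; rwa [← gp_words.2.2.2.2.2.2.2.1] at this
  have hle : ψ.ker ≤ Φ.ker := by
    intro k hk
    by_cases hk1 : k = 1
    · rw [hk1]; exact one_mem _
    have hcen : ∀ g : SpSixMult.W, g * k = k * g := fun g => by
      have hg' : g * k * g⁻¹ ∈ ψ.ker := (MonoidHom.normal_ker ψ).conj_mem k hk g
      have h1 : g * k * g⁻¹ ≠ 1 := fun e => hk1 (conj_eq_one_iff.1 e)
      have := card_two_eq hker2 (x := 1) (y := (⟨_, hg'⟩ : ψ.ker)) (z := ⟨k, hk⟩)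
        (fun e => h1 (congrArg Subtype.val e)) (fun e => hk1 (congrArg Subtype.val e))
      exact mul_inv_eq_iff_eq_mul.1 (congrArg Subtype.val this)
    have hk2 : k * k = 1 := by
      by_contra hne
      have := card_two_eq hker2 (x := 1) (y := (⟨_, mul_mem hk hk⟩ : ψ.ker)) (z := ⟨k, hk⟩)
        (fun e => hne (congrArg Subtype.val e)) (fun e => hk1 (congrArg Subtype.val e))
      exact hk1 (mul_eq_left.1 (congrArg Subtype.val this))
    have hcc : ∀ i, Commute (Φ k) (f i) := fun i => by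
      rw [← hΦ i]
      show _ * _ = _ * _
      rw [← map_mul, ← map_mul, hcen]
    rw [MonoidHom.mem_ker]
    by_contra hne
    obtain ⟨i, hi⟩ := hX.invol_cent_L (hgenL _ fun i => by fin_cases i; exacts [hcc 1, hcc 3, hcc 4, hcc 5, hcc 6]) (by rw [← map_mul, hk2, map_one]) hne
    have hij : i = j := by
      refine (cent_six_table.2.2.1 i j (H.emb_inj ?_))
      have e := (hcc 0).eq
      rw [hi, hj] at e
      have e' : ∀ a b : Fin 3, H.emb (sm a 9) * D 4 * (H.emb (sm b 9) * D 4) =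
          H.emb (av (sm a 9) (app (mono 4 0) (sm b 9))) := fun a b => by
        rw [H.emb_add, ← hF.four_emb]
        group
      rw [e', e'] at e
      exact e.symm
    rw [hij, ← hj] at hi
    have h02 := hcc 2
    rw [hi] at h02
    have hb := hbraid 0 2 (by decide) (by decide)
    rw [h02.eq, mul_assoc, hsq 0, mul_one] at hb
    have hb' : f 2 = f 2 * (f 0 * f 2) := hb.trans (mul_assoc _ _ _)
    have e02 : f 0 = f 2 := by
      have := mul_eq_one_iff_eq_inv.1 (mul_eq_left.1 hb'.symm)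
      rwa [inv_eq_of_mul_eq_one_right (hsq 2)] at this
    exact gp_ne.2.1 (lf_inj φ (by
      have := congrArg c e02
      simpa [f, hcinv] using this))
  obtain ⟨ι, hι⟩ : ∃ ι : Spn F 3 →* G, ∀ w, ι (ψ w) = Φ w :=
    ⟨(ψ.liftOfSurjective hψs) ⟨Φ, hle⟩, fun w =>
      MonoidHom.liftOfRightInverse_comp_apply _ _ _ ⟨Φ, hle⟩ w⟩
  have hgen : ∀ i, ι (t (code i)) = f i := fun i => by
    rw [show (t (code i) : Spn F 3) = gen i by rw [SpSix.t, SpSix.vc, code_bits]; rfl, ← hψ i, hι, hΦ]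
  have hinj : Function.Injective ι := by
    refine (MonoidHom.ker_eq_bot_iff ι).1 ((spn_simple h ι.ker).resolve_right fun e => hf0ne ?_)
    rw [← hgen 0]
    exact MonoidHom.mem_ker.1 (e ▸ mem_top _)
  have hfst : ∀ i, lf φ (gp i) = ι (t (gc i)) := fun i => by
    fin_cases i
    exacts [(hgen 1).symm, (hgen 3).symm, (hgen 4).symm, (hgen 5).symm, (hgen 6).symm]
  -- the last reflection
  have hmid : ∀ u : Fin 64, (∀ i, SpSix.fm u (gc i) = false) → u ≠ 0 →
      ∃ k : Fin 3, ι (t u) = H.emb (sm k 9) * D 4 := by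
    intro u hu hu0
    refine hX.invol_cent_L (fun σ => ?_) (by rw [← map_mul, SpSix.t_sq, map_one]) fun e => hu0 ?_
    · refine hgenL _ (fun i => ?_) σ
      rw [hfst i]
      show _ * _ = _ * _
      rw [← map_mul, ← map_mul, SpSix.t_comm h2 (hu i)]
    · refine SpSix.t_inj h2 ?_
      rw [hinj (e.trans (map_one ι).symm), SpSix.t, SpSix.vc_zero, CfsgLib.SpMult.tr_zero]
  have hu1 : ∀ u ∈ ([1, 14, 15] : List (Fin 64)), u ≠ 0 ∧ ∀ i, SpSix.fm u (gc i) = false := by
    decide +kernel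
  have hne : ∀ u w : Fin 64, u ≠ w → ∀ a b : Fin 3, ι (t u) = H.emb (sm a 9) * D 4 →
      ι (t w) = H.emb (sm b 9) * D 4 → a ≠ b := fun u w huw a b ea eb e => huw
    (SpSix.t_inj h2 (hinj (ea.trans (e ▸ eb.symm))))
  obtain ⟨a1, e1⟩ := hmid 1 (hu1 1 (by simp)).2 (hu1 1 (by simp)).1
  obtain ⟨a2, e2⟩ := hmid 14 (hu1 14 (by simp)).2 (hu1 14 (by simp)).1
  obtain ⟨a3, e3⟩ := hmid 15 (hu1 15 (by simp)).2 (hu1 15 (by simp)).1
  have h1' : c (lf φ (swap 3 5)) = ι (t 1) := (hgen 0).symm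
  have hD4 : ∀ u, ι (t u) = D 4 → u = 14 ∨ u ≠ 15 ∧ u ≠ 1 := by
    intro u hu
    have hcm : Commute (D 4) (c (lf φ (swap 2 5))) := f34 ▸ hcl _ _ (by decide)
    have h8 : c (lf φ (swap 2 5)) = ι (t 8) := (hgen 2).symm
    rw [← hu, h8] at hcm
    have e : (t u : Spn F 3) * t 8 = t 8 * t u := hinj (by rw [map_mul, map_mul]; exact hcm.eq)
    rw [← mul_inv_eq_iff_eq_mul, SpSix.t_conj h2, ← SpSix.W_singleton u, SpSix.ac_W h2] at e
    have hwt : ∀ u ∈ ([1, 15] : List (Fin 64)), SpSix.wact [u] 8 ≠ 8 := by decide +kernel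
    refine Or.inr ⟨fun hu' => hwt u (by simp [hu']) (SpSix.t_inj h2 e),
      fun hu' => hwt u (by simp [hu']) (SpSix.t_inj h2 e)⟩
  have h14 : D 4 = ι (t 14) := by
    rcases cent_six_table.2.2.2.2.2.2.2.2.1 a1 a2 a3 (hne 1 14 (by decide) _ _ e1 e2)
      (hne 1 15 (by decide) _ _ e1 e3) (hne 14 15 (by decide) _ _ e2 e3) with rfl | rfl | rfl
    · rw [show sm (0 : Fin 3) 9 = (0 : Fin 27) from rfl, H.emb_zero, one_mul] at e1
      rcases hD4 1 e1 with e | ⟨-, e⟩
      · exact absurd e (by decide)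
      · exact absurd rfl e
    · rw [show sm (0 : Fin 3) 9 = (0 : Fin 27) from rfl, H.emb_zero, one_mul] at e2
      exact e2.symm
    · rw [show sm (0 : Fin 3) 9 = (0 : Fin 27) from rfl, H.emb_zero, one_mul] at e3
      rcases hD4 15 e3 with e | ⟨e, -⟩
      · exact absurd e (by decide)
      · exact absurd rfl e
  refine ⟨ι, h2, hinj, hfst, fun i => ?_⟩
  fin_cases i
  exacts [f01.trans (hfst 0), f02.trans (hfst 1), (hgen 2).symm, h1', f34.trans h14]

end Hyp

end CfsgLib.PSpFourRec
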