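import Cfsg.Agent.PSpFourRec.Auto
import Cfsg.Agent.PSpFourAmalgam.Finish
import Cfsg.Agent.PSpFourAmalgam.Centralizers
import Cfsg.Agent.ThreeSymNine.TablesB

/-!
# The automizer with an even number of signs: a frame for the recognition of `PSp₄(3)`
-/

set_option autoImplicit false
set_option maxRecDepth 100000
set_option synthInstance.maxSize 4000
set_option synthInstance.maxHeartbeats 400000
set_option linter.style.haveILetI false

namespace CfsgLib.PSpFourRec

open CfsgLib.AltNine CfsgLib.PSpFourThree Subgroup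
open CfsgLib.ThreeSymNine (Mat app mm pmat dmat mono pa pm pinv dig sm nv_nv pa_table app_pmat
  app_one ext_app zv zv_table evenSigns)
open CfsgLib.PSpFourAmalgam (V3 W24 act vz vd ve Frame Core)

attribute [local instance 10000] List.decidableBAll List.decidableBEx

universe u w

/-- The coordinates. -/
def vcode (v : Fin 27) : V3 := fun i => zd v i

/-- The element with given coordinates. -/
def vdec (u : V3) : Fin 27 :=
  ⟨((u 0).val + 3 * (u 1).val + 9 * (u 2).val) % 27, Nat.mod_lt _ (by decide)⟩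

theorem vdec_code : ∀ v, vdec (vcode v) = v := by decide +kernel

theorem vcode_dec : ∀ (u : V3) (i : Fin 3), vcode (vdec u) i = u i := by decide +kernel

theorem vcode_dec' (u : V3) : vcode (vdec u) = u := funext (vcode_dec u)

theorem vdec_add : ∀ u u' : V3, vdec (u + u') = av (vdec u) (vdec u') := by decide +kernel

theorem vdec_named : vdec vz = 13 ∧ vdec vd = 4 ∧ vdec ve = 9 := by decide +kernel

/-- The signed permutation of a pair. -/
def wOf (d : Fin 8) (a : Fin 6) : W24 :=
  (decide (d.1 % 2 = 1), decide (d.1 / 2 % 2 = 1),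
    ![1, Equiv.swap 0 1, Equiv.swap 0 2, Equiv.swap 1 2, finRotate 3, (finRotate 3)⁻¹] a)

theorem wOf_basis : ∀ d ∈ evenSigns, ∀ a : Fin 6, ∃ a' : Fin 6, ∀ v : Fin 27, ∀ i : Fin 3,
    vcode (app (mono d a) v) i = act (wOf d a') (vcode v) i := by decide +kernel

theorem wOf_surj : ∀ w : W24, ∃ d ∈ evenSigns, ∃ a : Fin 6, ∀ u : V3, ∀ i : Fin 3,
    act w u i = vcode (app (mono d a) (vdec u)) i := by decide +kernel

/-- Every vector is conjugate to one of the three named ones, or to the inverse of the first. -/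
theorem even_reps : ∀ v : Fin 27, v ≠ 0 → ∃ d ∈ evenSigns, ∃ a : Fin 6,
    ∃ r ∈ ([13, 26, 4, 9] : List (Fin 27)), app (mono d a) r = v := by decide +kernel

theorem even_mid : ∀ d ∈ evenSigns, ∀ a : Fin 6, app (mono d a) 13 ≠ 26 := by decide +kernel

theorem radical_centre : ∀ h : PSpFourThree.H,
    (∀ k : PSpFourThree.H, tmul (h, 1) (k, 1) = tmul (k, 1) (h, 1)) →
      ∃ n : Fin 3, (h, (1 : S23)) = ((0, (n.1 : ZMod 3)), 1) := by decide +kernel

theorem radical_comm : ∀ h k : PSpFourThree.H, ∃ n : Fin 3,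
    tmul (h, 1) (k, 1) = tmul ((0, (n.1 : ZMod 3)), 1) (tmul (k, 1) (h, 1)) := by decide +kernel

theorem tz_pow : ∀ n : Fin 3, ((0, (n.1 : ZMod 3)), (1 : S23)) =
    tE (sm n 13) := by decide +kernel

theorem radical_nat : ∀ g : S23, (∀ w : Fin 2 → ZMod 3, g.1.mulVec w = w) → g = 1 := by
  decide +kernel

namespace Hyp

variable {G : Type u} [Group G] [Finite G] (H : Hyp G)

/-- The frame. -/
def frame (hs : H.Signs evenSigns) : Frame G where
  j u := H.emb (vdec u)
  J := H.J
  inj u u' h := by rw [← vcode_dec' u, ← vcode_dec' u', H.emb_inj h]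
  add u u' := by rw [vdec_add, H.emb_add]
  mem_J g := ⟨fun ⟨v, hv⟩ => ⟨vcode v, by rw [vdec_code, hv]⟩, fun ⟨u, hu⟩ => ⟨_, hu⟩⟩
  act_ex g hg := by
    obtain ⟨M, hM⟩ := H.exists_induces_of_mem hg
    obtain ⟨d, hd, a, rfl⟩ := (hs M).1 ⟨g, hM⟩
    obtain ⟨a', ha'⟩ := wOf_basis d hd a
    refine ⟨wOf d a', fun u => ?_⟩
    rw [hM, show act (wOf d a') u = vcode (app (mono d a) (vdec u)) from funext fun i => by
      rw [ha', vcode_dec'], vdec_code]
  act_surj w := by
    obtain ⟨d, hd, a, h⟩ := wOf_surj w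
    obtain ⟨g, hg⟩ := hs.mem hd a
    exact ⟨g, hg.mem_N, fun u => by rw [hg, funext (h u), vdec_code]⟩
  cent g hg := H.mem_J_of_induces_one fun v => by
    rw [app_pmat, pa_table.1]
    have := hg (vcode v)
    rwa [vdec_code] at this
  sig K hK hn := H.eq_bot_of_normalized hK hn

/-- Without negations the centre is not conjugate to its inverse. -/
theorem not_real (hs : H.Signs evenSigns) (g : G) : g * H.emb 13 * g⁻¹ ≠ H.emb 26 := fun h => by
  obtain ⟨M, hM, hMv⟩ := H.fusion_app h
  obtain ⟨d, hd, a, rfl⟩ := (hs M).1 hM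
  exact even_mid d hd a hMv

/-- The data on the centralizer of the centre. -/
theorem nonempty_core (hs : H.Signs evenSigns) : Nonempty (Core (H.frame hs)) := by
  classical
  have hjz : (H.frame hs).j vz = H.x := congrArg H.emb vdec_named.1
  have hmem : ∀ g : G, g ∈ centralizer ({(H.frame hs).j vz} : Set G) ↔
      g * H.x = H.x * g := fun g => by rw [mem_centralizer_singleton_iff, hjz]
  have hparC : ∀ t, H.par t ∈ centralizer ({(H.frame hs).j vz} : Set G) := fun t =>
    (hmem _).2 (H.commute_x_iff.2 ⟨t, rfl⟩)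
  have hpar : ∀ c : centralizer ({(H.frame hs).j vz} : Set G),
      H.par (Function.invFun H.par (c : G)) = c :=
    fun c => Function.invFun_eq (H.commute_x_iff.1 ((hmem _).1 c.2))
  have hinv : ∀ t, Function.invFun H.par (H.par t) = t :=
    Function.leftInverse_invFun H.par_inj
  let π₀ : centralizer ({(H.frame hs).j vz} : Set G) →* S23 :=
    MonoidHom.mk' (fun c => (Function.invFun H.par (c : G)).2) fun c d => by
      rw [Subgroup.coe_mul]
      conv_lhs => rw [← hpar c, ← hpar d, ← H.par_mul, hinv]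
      rfl
  let R : Subgroup G := π₀.ker.map (Subgroup.subtype _)
  have hR : ∀ g : G, g ∈ R ↔ ∃ h, H.par (h, 1) = g := by
    intro g
    constructor
    · rintro ⟨c, hc, rfl⟩
      refine ⟨(Function.invFun H.par (c : G)).1, ?_⟩
      conv_rhs => rw [Subgroup.coe_subtype, ← hpar c]
      exact congrArg H.par (Prod.ext rfl (MonoidHom.mem_ker.1 hc).symm)
    · rintro ⟨h, rfl⟩
      refine ⟨⟨_, hparC (h, 1)⟩, MonoidHom.mem_ker.2 ?_, rfl⟩
      show (Function.invFun H.par (H.par (h, 1))).2 = 1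
      rw [hinv]
  refine ⟨{ Q := R, π := π₀, surj := ?_, le := map_subtype_le _, ker := ?_, card := ?_,
            z_mem := ?_, centre := ?_, comm := ?_, nat := ?_ }⟩
  · intro g
    exact ⟨⟨_, hparC ((0, 0), g)⟩, congrArg Prod.snd (hinv ((0, 0), g))⟩
  · intro x
    exact ⟨fun hx => ⟨x, MonoidHom.mem_ker.2 hx, rfl⟩, fun ⟨c, hc, hcx⟩ => by
      rw [← Subtype.ext hcx]; exact MonoidHom.mem_ker.1 hc⟩
  · rw [← Nat.card_congr (Equiv.ofBijective
      (fun h : PSpFourThree.H => (⟨H.par (h, 1), (hR _).2 ⟨h, rfl⟩⟩ : R))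
      ⟨fun a b e => (Prod.ext_iff.1 (H.par_inj (congrArg Subtype.val e))).1, fun ⟨g, hg⟩ => by
        obtain ⟨h, hh⟩ := (hR g).1 hg
        exact ⟨h, Subtype.ext hh⟩⟩), Nat.card_eq_fintype_card]
    rfl
  · rw [hR]
    refine ⟨tz.1, ?_⟩
    rw [hjz, Hyp.x, Hyp.emb, tE_mid.1]
    rfl
  · intro g hg hcomm
    obtain ⟨h, rfl⟩ := (hR g).1 hg
    obtain ⟨n, hn⟩ := radical_centre h fun k => H.par_inj (by
      rw [H.par_mul, H.par_mul]; exact hcomm _ ((hR _).2 ⟨k, rfl⟩))
    rw [hn, tz_pow, show H.par (tE (sm n 13)) = H.emb (sm n 13) from rfl, H.emb_sm, hjz]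
    exact pow_mem (mem_zpowers _) _
  · intro g hg g' hg'
    obtain ⟨h, rfl⟩ := (hR g).1 hg
    obtain ⟨k, rfl⟩ := (hR g').1 hg'
    obtain ⟨n, hn⟩ := radical_comm h k
    have e := congrArg H.par hn
    rw [tz_pow, H.par_mul, H.par_mul, H.par_mul, show H.par (tE (sm n 13)) = H.emb (sm n 13) from rfl,
      H.emb_sm] at e
    rw [e, hjz]
    simp only [mul_assoc, mul_inv_cancel_left, mul_inv_cancel, mul_one]
    exact pow_mem (mem_zpowers _) _
  · intro g hg hcomm
    rw [hjz] at hg
    obtain ⟨⟨h, s⟩, rfl⟩ := H.commute_x_iff.1 hg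
    have hs1 : s = 1 := radical_nat s fun w => by
      have e := hcomm _ ((hR _).2 ⟨(w, 0), rfl⟩)
      rw [← H.par_mul, ← H.par_mul] at e
      have := congrArg (fun t : T => t.1.1) (H.par_inj e)
      change h.1 + s.1.mulVec w = w + (1 : Matrix (Fin 2) (Fin 2) (ZMod 3)).mulVec h.1 at this
      rw [Matrix.one_mulVec] at this
      exact add_left_cancel (this.trans (add_comm _ _))
    exact (hR _).2 ⟨h, by rw [hs1]⟩

/-- Recognition when the two local subgroups generate. -/
theorem iso_of_gen (hs : H.Signs evenSigns)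
    (hgen : H.N ⊔ centralizer ({H.x} : Set G) = ⊤)
    (F : Type w) [Field F] [Fintype F] (hF : Fintype.card F = 3) :
    Nonempty (G ≃* Cfsg.PSp 2 F) := by
  obtain ⟨K⟩ := H.nonempty_core hs
  refine CfsgLib.PSpFourAmalgam.iso_of_frame K ?_ F hF
  rw [show (H.frame hs).j vz = H.x from congrArg H.emb vdec_named.1]
  exact hgen

/-- The centralizers of the elements outside the class of the centre normalize. -/
theorem C_le_N_even (hs : H.Signs evenSigns) {v : Fin 27} (hv : v ≠ 0)
    (h : ∀ d ∈ evenSigns, ∀ a : Fin 6, ∀ r ∈ ([13, 26] : List (Fin 27)), app (mono d a) r ≠ v) :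
    centralizer ({H.emb v} : Set G) ≤ H.N := by
  obtain ⟨d, hd, a, r, hr, hrv⟩ := even_reps v hv
  rw [← hrv]
  refine H.cent_le_transport (hs.mem hd a) fun g hg => ?_
  rw [mem_centralizer_singleton_iff] at hg
  have hr' : r = 4 ∨ r = 9 := by
    simp only [List.mem_cons, List.not_mem_nil, or_false] at hr
    rcases hr with e | e | e | e
    · exact absurd hrv (h d hd a r (by simp [e]))
    · exact absurd hrv (h d hd a r (by simp [e]))
    · exact Or.inl e
    · exact Or.inr e
  rcases hr' with rfl | rfl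
  · exact (H.frame hs).centralizer_d (by
      show g * H.emb (vdec vd) = H.emb (vdec vd) * g
      rwa [vdec_named.2.1])
  · exact (H.frame hs).centralizer_e (by
      show g * H.emb (vdec ve) = H.emb (vdec ve) * g
      rwa [vdec_named.2.2])

end Hyp

end CfsgLib.PSpFourRec
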