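import Cfsg.Agent.PSpFourRec.Cent
import Cfsg.Agent.ThreeSymNine.LocalFull

/-!
# The full monomial automizer: local facts and the sign changes
-/

set_option autoImplicit false
set_option maxRecDepth 100000
set_option synthInstance.maxSize 100000
set_option linter.style.haveILetI false
set_option linter.unusedSectionVars false

namespace CfsgLib.PSpFourRec

open CfsgLib.AltNine CfsgLib.PSpFourThree Subgroup
open CfsgLib.ThreeSymNine (Mat app mm pmat dmat mono pa pm pinv dig sm nv_nv pa_table app_pmat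
  app_one ext_app allSigns dx du db pd bc dx_table pd_table mono_tables mm_one
  fourStab fourChar nineTab nineDih full_reps four_tables four_loc nine_tables nine_full_loc)

attribute [local instance 10000] List.decidableBAll List.decidableBEx

universe u

namespace Hyp

variable {G : Type u} [Group G] [Finite G] {H : Hyp G}

/-- The stabilizer of a list of vectors, from a finite check. -/
theorem Signs.stab {Ds : List (Fin 8)} (hs : H.Signs Ds) (X : List (Fin 27))
    (St : List Mat)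
    (h : ∀ d ∈ Ds, ∀ a : Fin 6, (∀ v ∈ X, app (mono d a) v = v) → mono d a ∈ St)
    {M : Mat} (hM : H.Stab X M) : M ∈ St := by
  obtain ⟨d, hd, a, rfl⟩ := (hs M).1 hM.1
  exact h d hd a hM.2

/-- A reflection stabilizer, from finite checks. -/
theorem Signs.refl_le {Ds : List (Fin 8)} (hs : H.Signs Ds) (X : List (Fin 27))
    (d₀ : Fin 8) (a₀ : Fin 6) (q : Fin 27) (hd₀ : d₀ ∈ Ds)
    (h : ∀ d ∈ Ds, ∀ a : Fin 6, (∀ v ∈ X, app (mono d a) v = v) →
      mono d a ∈ [pmat 0, mono d₀ a₀])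
    (hX : ∀ v ∈ X, app (mono d₀ a₀) v = v) (hq : app (mono d₀ a₀) q = nv q) (hq0 : q ≠ 0)
    (hTT : ∀ v, app (mono d₀ a₀) (app (mono d₀ a₀) v) = v)
    (hdec : ∀ v, ∃ f k, app (mono d₀ a₀) f = f ∧ v = av f (sm k q)) : H.C X ≤ H.N :=
  H.C_le_N_refl X _ q ⟨hs.mem hd₀ a₀, hX⟩ (fun M hM => by
    rcases List.mem_cons.1 (hs.stab X _ h hM) with h | h
    · exact Or.inl h
    · exact Or.inr (List.mem_singleton.1 h)) hq hq0 hTT hdec

/-- A trivial stabilizer, from a finite check. -/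
theorem Signs.free_check {Ds : List (Fin 8)} (hs : H.Signs Ds) (X : List (Fin 27))
    (h : ∀ d ∈ Ds, ∀ a : Fin 6, (∀ v ∈ X, app (mono d a) v = v) → mono d a ∈ [pmat 0]) :
    H.C X ≤ H.N :=
  H.free_le X fun M hM => List.mem_singleton.1 (hs.stab X _ h hM)

/-- A centralizer of a pair with a vector of the complement normalizes. -/
theorem Signs.nine_loc (hs : H.Signs allSigns) (a b : Fin 3) (hne : av (sm a 1) (sm b 3) ≠ 0) :
    H.C [9, av (sm a 1) (sm b 3)] ≤ H.N := by
  rcases nine_full_loc a b hne with h | ⟨T, -, t1, t2, t3, t4, t5, t6, t7⟩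
  · exact hs.free_check _ h
  · exact hs.refl_le _ T.1 T.2.1 T.2.2 t2 t1 t3 t4 t5 t6 t7

theorem Signs.C_four (hs : H.Signs allSigns) : H.C [4] ≤ H.N := by
  obtain ⟨h1, h2, h3, h5, h6, h7, p1, p2, p3, p4⟩ := four_tables
  have hStW : ∀ M ∈ fourStab, H.Stab [4] M := fun M hM => by
    obtain ⟨e1, -, d, hd, a, rfl⟩ := h2 M hM
    exact ⟨hs.mem hd a, fun w hw => by rw [List.mem_singleton.1 hw]; exact e1⟩
  have hSt : ∀ M, H.Stab [4] M ↔ M ∈ fourStab :=
    fun M => ⟨fun hM => hs.stab [4] _ h1 hM, hStW M⟩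
  have hp : H.Pair 4 7 9 :=
    { inv1 := ⟨_, hStW (mono 0 1) (by decide +kernel), h3⟩
      inv2 := ⟨_, hStW (mono 4 0) (by decide +kernel), h5⟩
      free := fun M hM => List.mem_singleton.1 (hs.stab _ _ h6 hM)
      span := h7
      ne := by decide
      loc := fun a b hne => by
        rcases four_loc a b hne with h | ⟨T, -, t1, t2, t3, t4, t5, t6, t7⟩
        · exact hs.free_check _ h
        · exact hs.refl_le _ T.1 T.2.1 T.2.2 t2 t1 t3 t4 t5 t6 t7 }
  obtain ⟨L, hL⟩ := H.exists_ker [4] fun M hM => (h2 M ((hSt M).1 hM)).2.1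
  obtain ⟨T, hT, hcard, hcent, hexp, ⟨π, hπ, hker⟩, hloc, hfin⟩ :=
    H.pair_complement hp fourStab _ hSt p1 p2 p3 p4 L hL
  refine hfin (normalizer_eq_top_iff.1 ?_)
  haveI hn : ((T : Subgroup L).subgroupOf (normalizer ((T : Subgroup L) : Set L))).Normal :=
    hker ▸ π.normal_ker
  refine Cfsg.Agent.S3805.result T ⟨⟨⟨fun p q => ?_⟩⟩, fun t ht => hexp t ht⟩ hcard hcent ?_ hloc
  · exact Subtype.ext (Subtype.ext (H.J_comm (mem_subgroupOf.1 (hT ▸ p.2))
      (mem_subgroupOf.1 (hT ▸ q.2))))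
  · have e : (↥(normalizer ((T : Subgroup L) : Set L)) ⧸
        (T : Subgroup L).subgroupOf (normalizer ((T : Subgroup L) : Set L))) ≃*
        Multiplicative (ZMod 2 × ZMod 2) :=
      (QuotientGroup.quotientMulEquivOfEq hker.symm).trans
        (QuotientGroup.quotientKerEquivOfSurjective π hπ)
    haveI : IsKleinFour (Multiplicative (ZMod 2 × ZMod 2)) := inferInstance
    exact ⟨(Nat.card_congr e.toEquiv).trans IsKleinFour.card_four,
      (Monoid.exponent_eq_of_mulEquiv e).trans IsKleinFour.exponent_two⟩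

/-- The centralizer of a basis vector normalizes or has the symmetric group of degree six as
complement. -/
theorem Signs.C_nine (hs : H.Signs allSigns) : H.C [9] ≤ H.N ∨
    ∃ L : Subgroup G, H.Ker [9] L ∧ Nonempty (L ≃* Equiv.Perm (Fin 6)) := by
  obtain ⟨h1, h2, h3, h5, h6, h7, p1, p2, p3, p4⟩ := nine_tables
  have hStW : ∀ M ∈ nineTab.map Prod.fst, H.Stab [9] M := fun M hM => by
    obtain ⟨e1, -, d, hd, a, rfl⟩ := h2 M hM
    exact ⟨hs.mem hd a, fun w hw => by rw [List.mem_singleton.1 hw]; exact e1⟩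
  have hSt : ∀ M, H.Stab [9] M ↔ M ∈ nineTab.map Prod.fst :=
    fun M => ⟨fun hM => hs.stab [9] _ h1 hM, hStW M⟩
  have hp : H.Pair 9 1 3 :=
    { inv1 := ⟨_, hStW (mono 3 0) (by decide +kernel), h3⟩
      inv2 := ⟨_, hStW (mono 3 0) (by decide +kernel), h5⟩
      free := fun M hM => List.mem_singleton.1 (hs.stab _ _ h6 hM)
      span := h7
      ne := by decide
      loc := hs.nine_loc }
  obtain ⟨L, hL⟩ := H.exists_ker' [9] fun M hM => (h2 M ((hSt M).1 hM)).2.1
  obtain ⟨T, hT, hcard, hcent, -, ⟨π, hπ, hker⟩, hloc, hfin⟩ :=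
    H.pair_complement hp _ _ hSt p1 p2 p3 p4 L hL
  haveI hn : ((T : Subgroup L).subgroupOf (normalizer ((T : Subgroup L) : Set L))).Normal :=
    hker ▸ π.normal_ker
  rcases Cfsg.Agent.S3333.result T (T : Subgroup L) rfl hcard hcent
    ((QuotientGroup.quotientMulEquivOfEq hker.symm).trans
      (QuotientGroup.quotientKerEquivOfSurjective π hπ)) hloc with h | h
  · exact Or.inl (hfin h)
  · exact Or.inr ⟨L, hL, h⟩


/-- Commuting lifts of the sign changes, permuted by the block permutations. -/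
structure Flips (H : Hyp G) (D : Fin 8 → G) : Prop where
  signs : H.Signs allSigns
  ind : ∀ d, H.Induces (D d) (dmat d)
  mul : ∀ d e, D d * D e = D (dx d e)
  conj : ∀ a d, H.S a * D d * (H.S a)⁻¹ = D (pd a d)

theorem exists_flips (hs : H.Signs allSigns) : ∃ D, H.Flips D := by
  obtain ⟨t, ht⟩ := CfsgLib.ThreeSymNine.Hyp.exists_Full (H := H.nine)
    (fun M => (H.nine_W M).trans (hs M))
  refine ⟨fun d => (H.nine.dd t d : G), hs, fun d v => congrArg Subtype.val (ht.dd_ind d v),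
    fun d e => congrArg Subtype.val (ht.dd_mul d e),
    fun a d => congrArg Subtype.val (ht.dd_conj a d)⟩

variable {D : Fin 8 → G}

theorem Flips.zero (h : H.Flips D) : D 0 = 1 := by
  have e := h.mul 0 0
  rw [(dx_table.2.2.2.2 0).1] at e
  exact mul_eq_left.1 e

theorem Flips.sq (h : H.Flips D) (d : Fin 8) : D d * D d = 1 := by
  rw [h.mul, (dx_table.2.2.2.2 d).1, h.zero]

theorem Flips.comm (h : H.Flips D) (d e : Fin 8) : D d * D e = D e * D d := by
  rw [h.mul, h.mul, (show ∀ d e : Fin 8, dx d e = dx e d by decide +kernel) d e]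

theorem Flips.inv (h : H.Flips D) (d : Fin 8) : (D d)⁻¹ = D d :=
  inv_eq_of_mul_eq_one_right (h.sq d)

theorem Flips.mem_N (h : H.Flips D) (d : Fin 8) : D d ∈ H.N := (h.ind d).mem_N

theorem Flips.orderOf_flip (h : H.Flips D) {d : Fin 8} (hd : d ≠ 0) : orderOf (D d) = 2 := by
  refine orderOf_eq_prime ((pow_two _).trans (h.sq d)) fun e => hd ?_
  rw [← h.zero] at e
  exact dx_table.2.1 _ _ ((h.ind d).unique (e ▸ h.ind 0))

/-- An element of the normalizer. -/
def el (H : Hyp G) (D : Fin 8 → G) (v : Fin 27) (d : Fin 8) (a : Fin 6) : G :=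
  H.emb v * D d * H.S a

theorem Flips.el_mul (h : H.Flips D) (v w : Fin 27) (d e : Fin 8) (a b : Fin 6) :
    H.el D v d a * H.el D w e b =
      H.el D (av v (app (dmat d) (pa a w))) (dx d (pd a e)) (pm a b) := by
  simp only [el, H.emb_add, ← h.mul, ← H.S_mul, ← h.ind d (pa a w), ← H.S_act, ← h.conj a e]
  group

theorem Flips.el_ind (h : H.Flips D) (v : Fin 27) (d : Fin 8) (a : Fin 6) :
    H.Induces (H.el D v d a) (mono d a) := by
  have hz : ∀ d a, mm (pmat 0) (mono d a) = mono d a := fun _ _ => (mm_one _).1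
  show H.Induces (H.emb v * D d * H.S a) _
  rw [← hz, ← mono_tables.2.1, mul_assoc]
  exact (H.induces_J (H.emb_mem v)).mul ((h.ind d).mul (H.induces_S a))

theorem Flips.el_inj (h : H.Flips D) {v w : Fin 27} {d e : Fin 8} {a b : Fin 6}
    (he : H.el D v d a = H.el D w e b) : v = w ∧ d = e ∧ a = b := by
  obtain ⟨hd, ha⟩ := pd_table.2.1 d e a b ((h.el_ind v d a).unique (he ▸ h.el_ind w e b))
  subst hd ha
  exact ⟨H.emb_inj (mul_right_cancel (mul_right_cancel he)), rfl, rfl⟩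

theorem Flips.el_mem (h : H.Flips D) (v : Fin 27) (d : Fin 8) (a : Fin 6) : H.el D v d a ∈ H.N :=
  (h.el_ind v d a).mem_N

theorem Flips.mem_N_iff (h : H.Flips D) {n : G} : n ∈ H.N ↔ ∃ v d a, n = H.el D v d a := by
  refine ⟨fun hn => ?_, ?_⟩
  · obtain ⟨M, hM⟩ := H.exists_induces_of_mem hn
    obtain ⟨d, -, a, rfl⟩ := (h.signs M).1 ⟨n, hM⟩
    obtain ⟨w, hw⟩ : (H.el D 0 d a)⁻¹ * n ∈ H.J := hM.mul_inv_mem (h.el_ind 0 d a)
    refine ⟨app (mono d a) w, d, a, ?_⟩
    have hI := h.el_ind 0 d a w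
    rw [hw] at hI
    simp only [el, H.emb_zero, one_mul] at hI ⊢
    rw [← hI]
    group
  · rintro ⟨v, d, a, rfl⟩; exact h.el_mem v d a

end Hyp

end CfsgLib.PSpFourRec
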