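import Cfsg.Agent.PSpFourRec.Model
import Cfsg.Agent.ThreeSymNine.Sylow
import Mathlib.GroupTheory.Sylow

/-!
# The standing hypotheses: an element of order three with centralizer `3^{1+2}.SL₂(3)`

`emb` parametrises the elementary abelian group of order 27, `S` the block permutations.
-/

set_option autoImplicit false
set_option maxRecDepth 100000
set_option linter.style.haveILetI false

namespace CfsgLib.PSpFourRec

open CfsgLib.AltNine CfsgLib.PSpFourThree Subgroup
open CfsgLib.ThreeSymNine (Mat app mm pmat dmat mono pa pm pinv dig sm nv_nv pa_table app_pmat app_one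
  ext_app abelian_count zv zv_table)

attribute [local instance 10000] List.decidableBAll List.decidableBEx

universe u

/-- The standing hypotheses. -/
structure Hyp (G : Type u) [Group G] where
  /-- the parametrisation of the centralizer -/
  par : T → G
  par_mul : ∀ x y, par (tmul x y) = par x * par y
  par_inj : Function.Injective par
  par_cent : ∀ g, g * par tz = par tz * g ↔ ∃ t, par t = g
  sig : ∀ K : Subgroup G, (Nat.card K).Coprime 3 →
    (∀ v : Fin 27, ∀ k ∈ K, par (tE v) * k * (par (tE v))⁻¹ ∈ K) → K = ⊥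

namespace Hyp

variable {G : Type u} [Group G] (H : Hyp G)

/-- The elementary abelian subgroup as a map. -/
def emb (v : Fin 27) : G := H.par (tE v)

/-- The block permutations. -/
def S (a : Fin 6) : G := H.par (tS a)

theorem emb_add (u v : Fin 27) : H.emb (av u v) = H.emb u * H.emb v := by
  rw [emb, tE_add, H.par_mul]; rfl

theorem par_one : H.par t1 = 1 := by
  have h := H.par_mul t1 t1
  rw [show tmul t1 t1 = t1 by decide +kernel] at h
  exact mul_eq_left.1 h.symm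

theorem S_mul (a b : Fin 6) : H.S a * H.S b = H.S (pm a b) := by
  rw [S, S, ← H.par_mul, tS_mul]; rfl

theorem S_act (a : Fin 6) (v : Fin 27) : H.S a * H.emb v * (H.S a)⁻¹ = H.emb (pa a v) := by
  rw [mul_inv_eq_iff_eq_mul, S, emb, emb, ← H.par_mul, ← H.par_mul, tS_act]

theorem three_codes : ∀ a b : Fin 6, a ∈ ([0, 4, 5] : List (Fin 6)) →
    b ∈ ([0, 4, 5] : List (Fin 6)) →
    pm a b ∈ ([0, 4, 5] : List (Fin 6)) ∧ pinv a ∈ ([0, 4, 5] : List (Fin 6)) :=
  CfsgLib.ThreeSymNine.Hyp.three_codes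

theorem indep (v : Fin 27) (a : Fin 6) (h : H.emb v * H.S a = 1) : v = 0 ∧ a = 0 :=
  tES_one v a (H.par_inj (by rw [H.par_mul, H.par_one]; exact h))

theorem av_table : ∀ u v w : Fin 27, av u v = av v u ∧ (av u v = u → v = 0) ∧ av (nv u) u = 0 ∧
    av u (nv u) = 0 ∧ av 0 u = u ∧ av u 0 = u ∧ av u (av u u) = 0 ∧ (w = 0 → nv w = 0) :=
  CfsgLib.ThreeSymNine.Hyp.av_table

theorem emb_zero : H.emb 0 = 1 := by
  have h := H.emb_add 0 0
  rw [(av_table 0 0 0).2.2.2.2.1] at h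
  exact mul_eq_left.1 h.symm

theorem emb_nv (v : Fin 27) : H.emb (nv v) = (H.emb v)⁻¹ :=
  eq_inv_of_mul_eq_one_left (by rw [← H.emb_add, (av_table v v v).2.2.1, H.emb_zero])

theorem emb_comm (u v : Fin 27) : H.emb u * H.emb v = H.emb v * H.emb u := by
  rw [← H.emb_add, ← H.emb_add, (av_table u v v).1]

theorem emb_cube (v : Fin 27) : H.emb v ^ 3 = 1 := by
  rw [pow_succ', pow_two, ← H.emb_add, ← H.emb_add, (av_table v v v).2.2.2.2.2.2.1, H.emb_zero]

theorem S_zero : H.S 0 = 1 := by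
  have h := H.S_mul 0 0
  rw [(CfsgLib.ThreeSymNine.pa_table.2 0).2.1] at h
  exact mul_eq_left.1 h

theorem S_inv (a : Fin 6) : (H.S a)⁻¹ = H.S (pinv a) :=
  inv_eq_of_mul_eq_one_right (by rw [H.S_mul, (pa_table.2 a).2.2.2.2.1, H.S_zero])

theorem emb_inj : Function.Injective H.emb := by
  intro u v h
  have h1 : H.emb (av (nv u) v) * H.S 0 = 1 := by
    rw [H.S_zero, mul_one, H.emb_add, H.emb_nv, h, inv_mul_cancel]
  have := congrArg (av u) (H.indep _ _ h1).1
  rw [← av_assoc, (av_table u u u).2.2.2.1, (av_table v v v).2.2.2.2.1,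
    (av_table u u u).2.2.2.2.2.1] at this
  exact this.symm

theorem S_emb (a : Fin 6) (v : Fin 27) : H.S a * H.emb v = H.emb (pa a v) * H.S a :=
  mul_inv_eq_iff_eq_mul.1 (H.S_act a v)

theorem mul_mk (v w : Fin 27) (a b : Fin 6) :
    H.emb v * H.S a * (H.emb w * H.S b) = H.emb (av v (pa a w)) * H.S (pm a b) := by
  rw [H.emb_add, ← H.S_mul]
  simp only [mul_assoc]
  rw [← mul_assoc (H.S a), H.S_emb, mul_assoc]

theorem mk_inj {v w : Fin 27} {a b : Fin 6} (h : H.emb v * H.S a = H.emb w * H.S b) :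
    v = w ∧ a = b := by
  have h1 : H.emb (av (nv w) v) * H.S (pm a (pinv b)) = 1 := by
    rw [H.emb_add, H.emb_nv, ← H.S_mul, ← H.S_inv, ← mul_assoc, mul_assoc (H.emb w)⁻¹, h]
    group
  obtain ⟨hv, hab⟩ := H.indep _ _ h1
  constructor
  · have := congrArg (av w) hv
    rw [← av_assoc, (av_table w w w).2.2.2.1, (av_table v v v).2.2.2.2.1,
      (av_table w w w).2.2.2.2.2.1] at this
    exact this
  · have h3 : ∀ a b : Fin 6, pm a (pinv b) = 0 → a = b := by decide +kernel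
    exact h3 a b hab

/-- The central element. -/
def x : G := H.emb 13

/-- The elementary abelian subgroup. -/
def J : Subgroup G where
  carrier := Set.range H.emb
  mul_mem' := by
    rintro _ _ ⟨u, rfl⟩ ⟨v, rfl⟩
    exact ⟨av u v, H.emb_add u v⟩
  one_mem' := ⟨0, H.emb_zero⟩
  inv_mem' := by
    rintro _ ⟨u, rfl⟩
    exact ⟨nv u, H.emb_nv u⟩

theorem emb_mem (v : Fin 27) : H.emb v ∈ H.J := ⟨v, rfl⟩

theorem x_mem : H.x ∈ H.J := H.emb_mem 13

theorem J_comm {a b : G} (ha : a ∈ H.J) (hb : b ∈ H.J) : a * b = b * a := by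
  obtain ⟨u, rfl⟩ := ha
  obtain ⟨v, rfl⟩ := hb
  exact H.emb_comm u v

theorem J_cube {a : G} (ha : a ∈ H.J) : a ^ 3 = 1 := by
  obtain ⟨u, rfl⟩ := ha
  exact H.emb_cube u

theorem card_J : Nat.card H.J = 27 := by
  exact (Nat.card_congr (Equiv.ofInjective H.emb H.emb_inj).symm).trans (Nat.card_fin 27)

theorem commute_x_iff {g : G} : g * H.x = H.x * g ↔ ∃ t, H.par t = g := by
  rw [← H.par_cent, ← tE_mid.1]; rfl

theorem mem_J_of_centralizes {g : G} (hg : ∀ j ∈ H.J, g * j = j * g) : g ∈ H.J := by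
  obtain ⟨⟨h, s⟩, rfl⟩ := H.commute_x_iff.1 (hg _ H.x_mem)
  have key : ∀ w, tmul (h, s) (tE w) = tmul (tE w) (h, s) := fun w => H.par_inj (by
    rw [H.par_mul, H.par_mul]; exact hg _ (H.emb_mem w))
  obtain ⟨v, hv⟩ := t_cent s h (congrArg Prod.snd (key 1)) (key 3) (key 1)
  rw [hv]; exact H.emb_mem v

theorem centralizer_J : Subgroup.centralizer (H.J : Set G) = H.J := by
  refine le_antisymm (fun g hg => H.mem_J_of_centralizes fun j hj =>
    (Subgroup.mem_centralizer_iff.1 hg j hj).symm) fun g hg => ?_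
  exact Subgroup.mem_centralizer_iff.2 fun j hj => H.J_comm hj hg

/-- A subgroup of order prime to three normalised by the elementary abelian subgroup is trivial. -/
theorem eq_bot_of_normalized {K : Subgroup G} (hK : (Nat.card K).Coprime 3)
    (hn : H.J ≤ Subgroup.normalizer (K : Set G)) : K = ⊥ :=
  H.sig K hK fun v k hk => (Subgroup.mem_normalizer_iff.1 (hn (H.emb_mem v)) k).1 hk


theorem par_mem_centralizer (t : T) : H.par t ∈ centralizer ({H.x} : Set G) :=
  mem_centralizer_singleton_iff.2 (H.commute_x_iff.2 ⟨t, rfl⟩)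

theorem par_t (v : Fin 27) (a : Fin 6) : H.par (tmul (tE v) (tS a)) = H.emb v * H.S a := H.par_mul _ _

/-- An element of the centralizer normalizing the elementary abelian subgroup. -/
theorem cent {g : G} (hg : g * H.x = H.x * g) (hN : ∀ v, g * H.emb v * g⁻¹ ∈ H.J) :
    ∃ v a, g = H.emb v * H.S a := by
  obtain ⟨⟨h, s⟩, rfl⟩ := H.commute_x_iff.1 hg
  obtain ⟨w, hw⟩ := hN 1
  have hsw := congrArg Prod.snd (show tmul (h, s) (tE 1) = tmul (tE w) (h, s) from H.par_inj (by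
    rw [H.par_mul, H.par_mul]; exact mul_inv_eq_iff_eq_mul.1 hw.symm))
  obtain ⟨v, a, hva⟩ := lin_norm s ⟨_, hsw⟩
  obtain ⟨t', ht'⟩ := H.commute_x_iff.1 (mem_centralizer_singleton_iff.1
    (mul_mem (H.par_mem_centralizer (h, s)) (inv_mem (H.par_mem_centralizer (tmul (tE v) (tS a))))))
  have h1 : tmul t' (tmul (tE v) (tS a)) = (h, s) := H.par_inj (by
    rw [H.par_mul, ht', inv_mul_cancel_right])
  have h2 : t'.2 = 1 := by
    have := congrArg Prod.snd h1
    rw [show (tmul t' (tmul (tE v) (tS a))).2 = t'.2 * (tmul (tE v) (tS a)).2 from rfl, hva] at this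
    exact mul_eq_right.1 this
  obtain ⟨v', a', hva'⟩ := heis_cover t'.1
  refine ⟨av v' (pa a' v), pm a' a, ?_⟩
  rw [← h1, H.par_mul, show t' = (t'.1, 1) from Prod.ext rfl h2, hva', H.par_t, H.par_t, H.mul_mk]

theorem commute_mk (v : Fin 27) (a : Fin 6) : H.emb v * H.S a * H.x = H.x * (H.emb v * H.S a) :=
  H.commute_x_iff.2 ⟨_, H.par_t v a⟩

/-- The element `g` induces the matrix `M`. -/
def Induces (g : G) (M : Mat) : Prop := ∀ v, g * H.emb v * g⁻¹ = H.emb (app M v)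

/-- The matrices induced by the normalizer. -/
def W (M : Mat) : Prop := ∃ g, H.Induces g M

theorem induces_S (a : Fin 6) : H.Induces (H.S a) (pmat a) := fun v => by
  rw [app_pmat, H.S_act]

theorem W_pmat (a : Fin 6) : H.W (pmat a) := ⟨_, H.induces_S a⟩

theorem vec_split : ∀ v : Fin 27,
    av (av (sm (dig v 0) 1) (sm (dig v 1) 3)) (sm (dig v 2) 9) = v := by decide +kernel

theorem emb_sm (k : Fin 3) (v : Fin 27) : H.emb (sm k v) = H.emb v ^ k.1 := by
  fin_cases k
  · simp [sm, H.emb_zero]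
  · simp [sm]
  · show H.emb (nv v) = H.emb v ^ 2
    rw [H.emb_nv]
    exact inv_eq_of_mul_eq_one_right (by rw [← pow_succ']; exact H.emb_cube v)

theorem induces_of_basis {g : G} {M : Mat} (h1 : g * H.emb 1 * g⁻¹ = H.emb M.1)
    (h2 : g * H.emb 3 * g⁻¹ = H.emb M.2.1) (h3 : g * H.emb 9 * g⁻¹ = H.emb M.2.2) :
    H.Induces g M := fun v => by
  conv_lhs => rw [← vec_split v]
  simp only [app, H.emb_add, H.emb_sm, ← h1, ← h2, ← h3, ← MulAut.conj_apply, map_mul, map_pow]

/-- Every element normalizing the subgroup induces a matrix. -/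
theorem exists_induces {g : G} (hg : ∀ v, g * H.emb v * g⁻¹ ∈ H.J) : ∃ M, H.Induces g M := by
  obtain ⟨a, ha⟩ := hg 1
  obtain ⟨b, hb⟩ := hg 3
  obtain ⟨c, hc⟩ := hg 9
  exact ⟨(a, b, c), H.induces_of_basis ha.symm hb.symm hc.symm⟩

theorem Induces.comp {H : Hyp G} {g h : G} {A B : Mat} (hg : H.Induces g A) (hh : H.Induces h B) :
    ∀ v, g * h * H.emb v * (g * h)⁻¹ = H.emb (app A (app B v)) := fun v => by
  rw [← hg, ← hh]
  group

theorem Induces.mul {H : Hyp G} {g h : G} {A B : Mat} (hg : H.Induces g A) (hh : H.Induces h B) :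
    H.Induces (g * h) (mm A B) := by
  obtain ⟨b1, b3, b9⟩ := app_one B
  refine H.induces_of_basis ?_ ?_ ?_
  · rw [hg.comp hh, b1]; rfl
  · rw [hg.comp hh, b3]; rfl
  · rw [hg.comp hh, b9]; rfl

theorem Induces.app_mm {H : Hyp G} {g h : G} {A B : Mat} (hg : H.Induces g A) (hh : H.Induces h B)
    (v : Fin 27) : app (mm A B) v = app A (app B v) :=
  H.emb_inj ((hg.mul hh v).symm.trans (hg.comp hh v))

theorem Induces.unique {H : Hyp G} {g : G} {A B : Mat} (hA : H.Induces g A) (hB : H.Induces g B) :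
    A = B := ext_app fun v => H.emb_inj ((hA v).symm.trans (hB v))

theorem Induces.eq_zero {H : Hyp G} {g : G} {M : Mat} (hg : H.Induces g M) {v : Fin 27}
    (h : app M v = 0) : v = 0 := by
  have := hg v
  rw [h, H.emb_zero, conj_eq_one_iff] at this
  exact H.emb_inj (this.trans H.emb_zero.symm)


theorem W_mul {A B : Mat} (hA : H.W A) (hB : H.W B) : H.W (mm A B) :=
  let ⟨_, hg⟩ := hA; let ⟨_, hh⟩ := hB; ⟨_, hg.mul hh⟩

theorem W_app {A B : Mat} (hA : H.W A) (hB : H.W B) (v : Fin 27) :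
    app (mm A B) v = app A (app B v) :=
  let ⟨_, hg⟩ := hA; let ⟨_, hh⟩ := hB; hg.app_mm hh v


/-- The normalizer of the elementary abelian subgroup. -/
def N : Subgroup G := normalizer (H.J : Set G)

theorem mem_N [Finite G] {g : G} (hg : ∀ v, g * H.emb v * g⁻¹ ∈ H.J) : g ∈ H.N := by
  let f : H.J → H.J := fun y => ⟨g * y * g⁻¹, by
    obtain ⟨v, hv⟩ := y.2
    rw [← hv]
    exact hg v⟩
  have hf : Function.Injective f := fun a b e => Subtype.ext
    (mul_left_cancel (mul_right_cancel (show g * (a : G) * g⁻¹ = g * b * g⁻¹ from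
      congrArg Subtype.val e)))
  refine mem_normalizer_iff.2 fun y => ⟨fun hy => (f ⟨y, hy⟩).2, fun hy => ?_⟩
  obtain ⟨z, hz⟩ := Finite.surjective_of_injective hf ⟨_, hy⟩
  have e : g * (z : G) * g⁻¹ = g * y * g⁻¹ := congrArg Subtype.val hz
  rw [← mul_left_cancel (mul_right_cancel e)]
  exact z.2

theorem exists_induces_of_mem {g : G} (hg : g ∈ H.N) : ∃ M, H.Induces g M :=
  H.exists_induces fun v => (mem_normalizer_iff.1 hg _).1 (H.emb_mem v)

theorem Induces.mem_N {H : Hyp G} [Finite G] {g : G} {M : Mat} (hg : H.Induces g M) : g ∈ H.N :=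
  H.mem_N fun v => by rw [hg v]; exact H.emb_mem _

theorem J_le_N : H.J ≤ H.N := le_normalizer

theorem induces_J {j : G} (hj : j ∈ H.J) : H.Induces j (pmat 0) := fun v => by
  rw [app_pmat, pa_table.1 v, H.J_comm hj (H.emb_mem v), mul_inv_cancel_right]

theorem mem_J_of_induces_one {g : G} (hg : H.Induces g (pmat 0)) : g ∈ H.J :=
  H.mem_J_of_centralizes fun j hj => by
    obtain ⟨v, rfl⟩ := hj
    have := hg v
    rw [app_pmat, pa_table.1 v] at this
    exact mul_inv_eq_iff_eq_mul.1 this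

theorem Induces.mul_inv_mem {H : Hyp G} {g h : G} {M : Mat} (hg : H.Induces g M)
    (hh : H.Induces h M) : h⁻¹ * g ∈ H.J :=
  H.mem_J_of_centralizes fun j hj => by
    obtain ⟨v, rfl⟩ := hj
    have e : g * H.emb v * g⁻¹ = h * H.emb v * h⁻¹ := by rw [hg v, hh v]
    calc h⁻¹ * g * H.emb v = h⁻¹ * (g * H.emb v * g⁻¹) * g := by group
      _ = h⁻¹ * (h * H.emb v * h⁻¹) * g := by rw [e]
      _ = _ := by group

theorem mk_induces (v : Fin 27) (a : Fin 6) : H.Induces (H.emb v * H.S a) (pmat a) := fun w => by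
  rw [app_pmat, mul_inv_rev, ← mul_assoc, mul_assoc (H.emb v), mul_assoc (H.emb v), H.S_act,
    H.emb_comm v, mul_inv_cancel_right]
/-- The Sylow three-subgroup. -/
def P : Subgroup G where
  carrier := {g | ∃ v a, a ∈ ([0, 4, 5] : List (Fin 6)) ∧ g = H.emb v * H.S a}
  mul_mem' := by
    rintro _ _ ⟨v, a, ha, rfl⟩ ⟨w, b, hb, rfl⟩
    exact ⟨_, _, (three_codes a b ha hb).1, H.mul_mk v w a b⟩
  one_mem' := ⟨0, 0, by simp, by rw [H.emb_zero, H.S_zero, mul_one]⟩
  inv_mem' := by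
    rintro _ ⟨v, a, ha, rfl⟩
    refine ⟨pa (pinv a) (nv v), pinv a, (three_codes a a ha ha).2, ?_⟩
    rw [mul_inv_rev, H.S_inv, ← H.emb_nv, H.S_emb]


theorem P_le : H.P ≤ centralizer ({H.x} : Set G) := by
  rintro _ ⟨v, a, -, rfl⟩
  exact mem_centralizer_singleton_iff.2 (H.commute_mk v a)

theorem J_le_P : H.J ≤ H.P := by
  rintro _ ⟨v, rfl⟩
  exact ⟨v, 0, by simp, by rw [H.S_zero, mul_one]⟩

theorem card_P : Nat.card H.P = 81 := by
  let f : Fin 27 × Fin 3 → H.P := fun p =>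
    ⟨H.emb p.1 * H.S ([0, 4, 5].getD p.2.1 0), p.1, _,
      (show ∀ i : Fin 3, ([0, 4, 5] : List (Fin 6)).getD i.1 0 ∈ ([0, 4, 5] : List (Fin 6)) by
        decide) p.2, rfl⟩
  have hf : Function.Bijective f := by
    refine ⟨fun p q h => ?_, fun ⟨g, v, a, ha, hg⟩ => ?_⟩
    · obtain ⟨h1, h2⟩ := H.mk_inj (congrArg Subtype.val h)
      exact Prod.ext h1 ((show ∀ i j : Fin 3, ([0, 4, 5] : List (Fin 6)).getD i.1 0 =
        ([0, 4, 5] : List (Fin 6)).getD j.1 0 → i = j by decide) _ _ h2)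
    · obtain ⟨i, rfl⟩ : ∃ i : Fin 3, ([0, 4, 5] : List (Fin 6)).getD i.1 0 = a :=
        (show ∀ a : Fin 6, a ∈ ([0, 4, 5] : List (Fin 6)) →
          ∃ i : Fin 3, ([0, 4, 5] : List (Fin 6)).getD i.1 0 = a by decide) a ha
      exact ⟨(v, i), Subtype.ext hg.symm⟩
  rw [← Nat.card_congr (Equiv.ofBijective f hf)]
  simp

theorem isPGroup_P : IsPGroup 3 H.P := IsPGroup.of_card (n := 4) (H.card_P.trans rfl)

theorem isPGroup_J : IsPGroup 3 H.J := IsPGroup.of_card (n := 3) (H.card_J.trans rfl)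

theorem abelian_eq {A : Subgroup G} (hA : A ≤ H.P)
    (hcomm : ∀ a ∈ A, ∀ b ∈ A, a * b = b * a) (hcube : ∀ a ∈ A, a ^ 3 = 1)
    (hcard : Nat.card A = 27) : A = H.J := by
  classical
  haveI : Finite A := Nat.finite_of_card_ne_zero (by rw [hcard]; norm_num)
  haveI : Finite H.J := Nat.finite_of_card_ne_zero (by rw [H.card_J]; norm_num)
  refine Subgroup.eq_of_le_of_card_ge (fun g hg => ?_) (by rw [hcard, H.card_J])
  obtain ⟨v, a, -, rfl⟩ := hA hg
  by_cases ha : a = 0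
  · rw [ha, H.S_zero, mul_one]; exact H.emb_mem v
  exfalso
  have h3 := hcube _ hg
  rw [pow_succ', pow_two, H.mul_mk, H.mul_mk] at h3
  have hc3 : pm a (pm a a) = 0 := (H.indep _ _ h3).2
  choose co ca _ hca using fun b : A => (show ∃ v a, a ∈ ([0, 4, 5] : List (Fin 6)) ∧ (b : G) = H.emb v * H.S a from hA b.2)
  have hmem : ∀ b : A, (co b, ca b) ∈ Finset.univ.filter fun p : Fin 27 × Fin 6 =>
      av v (pa a p.1) = av p.1 (pa p.2 v) ∧ pm a p.2 = pm p.2 a := fun b => by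
    have := hcomm _ hg _ b.2
    rw [hca b, H.mul_mk, H.mul_mk] at this
    exact Finset.mem_filter.2 ⟨Finset.mem_univ _, H.mk_inj this⟩
  have hinj : Function.Injective fun b : A => (⟨_, hmem b⟩ : {p // p ∈ Finset.univ.filter
      fun p : Fin 27 × Fin 6 => av v (pa a p.1) = av p.1 (pa p.2 v) ∧ pm a p.2 = pm p.2 a}) := by
    intro b c e
    have e' := congrArg Subtype.val e
    simp only [Prod.mk.injEq] at e'
    exact Subtype.ext (by rw [hca b, hca c, e'.1, e'.2])
  have := Nat.card_le_card_of_injective _ hinj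
  rw [hcard, Nat.card_eq_fintype_card, Fintype.card_coe] at this
  exact absurd (abelian_count v a hc3 ha) (by omega)
theorem card_centralizer_x : Nat.card (centralizer ({H.x} : Set G)) = 648 := by
  rw [← CfsgLib.PSpFourThree.card_T]
  exact (Nat.card_congr (Equiv.ofBijective (fun t => (⟨H.par t, H.par_mem_centralizer t⟩ :
    centralizer ({H.x} : Set G))) ⟨fun a b e => H.par_inj (congrArg Subtype.val e), fun g => by
      obtain ⟨t, ht⟩ := H.commute_x_iff.1 (mem_centralizer_singleton_iff.1 g.2)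
      exact ⟨t, Subtype.ext ht⟩⟩)).symm

variable [Finite G]

theorem sylow_exists : ∃ Q : Sylow 3 G, (Q : Subgroup G) = H.P := by
  haveI : Fact (Nat.Prime 3) := ⟨Nat.prime_three⟩
  obtain ⟨Q, hQ⟩ := H.isPGroup_P.exists_le_sylow
  refine ⟨Q, le_antisymm ?_ hQ⟩
  by_contra hne
  have hlt : H.P.subgroupOf (Q : Subgroup G) < ⊤ :=
    lt_top_iff_ne_top.2 fun e => hne (subgroupOf_eq_top.1 e)
  haveI := Q.2.isNilpotent
  obtain ⟨⟨g, hgQ⟩, hgn, hgP⟩ := SetLike.exists_of_lt
    (Group.normalizerCondition_of_isNilpotent _ hlt)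
  have hgn' : ∀ y ∈ H.P, g * y * g⁻¹ ∈ H.P := fun y hy =>
    ((mem_normalizer_iff.1 hgn) ⟨y, hQ hy⟩).1 hy
  have h4 : H.S 4 ∈ H.P := ⟨0, 4, by simp, by rw [H.emb_zero, one_mul]⟩
  have e : H.J.map (MulAut.conj g).toMonoidHom = H.J := by
    refine H.abelian_eq ?_ ?_ ?_ ?_
    · rintro _ ⟨y, hy, rfl⟩; exact hgn' y (H.J_le_P hy)
    · rintro _ ⟨y, hy, rfl⟩ _ ⟨z, hz, rfl⟩; rw [← map_mul, ← map_mul, H.J_comm hy hz]
    · rintro _ ⟨y, hy, rfl⟩; rw [← map_pow, H.J_cube hy, map_one]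
    · rw [← Nat.card_congr (H.J.equivMapOfInjective _ (MulAut.conj g).injective).toEquiv, H.card_J]
  obtain ⟨M, hM⟩ := H.exists_induces (g := g) fun v => by
    rw [← e]; exact ⟨H.emb v, H.emb_mem v, rfl⟩
  have hfix : pa 4 (app M 13) = app M 13 := H.emb_inj (by
    obtain ⟨⟨y, hy⟩, hy'⟩ : ∃ y : H.P, g * (y : G) * g⁻¹ = H.S 4 := by
      let f : H.P → H.P := fun y => ⟨g * y * g⁻¹, hgn' y y.2⟩
      have hf : Function.Injective f := fun a b e => Subtype.ext (mul_left_cancel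
        (mul_right_cancel (show g * (a : G) * g⁻¹ = g * b * g⁻¹ from congrArg Subtype.val e)))
      obtain ⟨y, hy⟩ := Finite.surjective_of_injective hf ⟨_, h4⟩
      exact ⟨y, congrArg Subtype.val hy⟩
    have hcx : y * H.emb 13 = H.emb 13 * y := mem_centralizer_singleton_iff.1 (H.P_le hy)
    rw [← H.S_act, ← hM, ← hy']
    calc g * y * g⁻¹ * (g * H.emb 13 * g⁻¹) * (g * y * g⁻¹)⁻¹
        = g * (y * H.emb 13 * y⁻¹) * g⁻¹ := by group
      _ = _ := by rw [hcx, mul_inv_cancel_right])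
  have hdiag : ∀ v, pa 4 v = v → v = 0 ∨ v = 13 ∨ v = 26 := by decide +kernel
  obtain ⟨k, hk⟩ := Q.2 ⟨g, hgQ⟩
  have hk' : g ^ 3 ^ k = 1 := congrArg Subtype.val hk
  have hgx : g * H.emb 13 = H.emb 13 * g := by
    rcases hdiag _ hfix with h | h | h
    · exact absurd (hM.eq_zero h) (by decide +kernel)
    · have := hM 13
      rw [h] at this
      exact mul_inv_eq_iff_eq_mul.1 this
    · exfalso
      have h1 := hM 13
      rw [h, show (26 : Fin 27) = nv 13 by decide +kernel, H.emb_nv] at h1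
      have hi : ∀ n : ℕ, MulAut.conj (g ^ (2 * n + 1)) (H.emb 13) = (H.emb 13)⁻¹ := by
        intro n
        induction n with
        | zero => simpa using h1
        | succ n ih =>
          rw [show 2 * (n + 1) + 1 = 2 * n + 1 + 1 + 1 by ring, pow_succ, pow_succ, map_mul,
            map_mul, MulAut.mul_apply, MulAut.mul_apply, MulAut.conj_apply g (H.emb 13), h1,
            map_inv, MulAut.conj_apply g (H.emb 13), h1, inv_inv, ih]
      obtain ⟨n, hn⟩ := (show Odd (3 ^ k) from Odd.pow (by decide))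
      have := hi n
      rw [← hn, hk', map_one, MulAut.one_apply, ← H.emb_nv] at this
      exact absurd (H.emb_inj this) (by decide +kernel)
  obtain ⟨v, a, hva⟩ := H.cent (g := g) hgx fun w => by
    rw [← e]; exact ⟨H.emb w, H.emb_mem w, rfl⟩
  have ha : a ∈ ([0, 4, 5] : List (Fin 6)) := by
    by_contra ha
    have h2 : pm a a = 0 := (show ∀ a : Fin 6, a ∉ ([0, 4, 5] : List (Fin 6)) → pm a a = 0 by
      decide +kernel) a ha
    have hg2 : g * g ∈ H.J := by rw [hva, H.mul_mk, h2, H.S_zero, mul_one]; exact H.emb_mem _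
    obtain ⟨n, hn⟩ := (show Odd (3 ^ k) from Odd.pow (by decide))
    rw [hn, pow_succ, pow_mul, pow_two] at hk'
    apply hgP
    have : g = ((g * g) ^ n)⁻¹ := eq_inv_of_mul_eq_one_right hk'
    show g ∈ H.P
    rw [this]
    exact inv_mem (pow_mem (H.J_le_P hg2) n)
  exact hgP (show g ∈ H.P from ⟨v, a, ha, hva⟩)

/-- Two conjugates of the elementary abelian subgroup in a common three-subgroup coincide. -/
theorem mem_N_of_conj {Q : Subgroup G} (hQ : IsPGroup 3 Q) (hJ : H.J ≤ Q) {g : G}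
    (hg : ∀ v, g * H.emb v * g⁻¹ ∈ Q) : g ∈ H.N := by
  haveI : Fact (Nat.Prime 3) := ⟨Nat.prime_three⟩
  obtain ⟨T, hT⟩ := hQ.exists_le_sylow
  obtain ⟨S, hS⟩ := H.sylow_exists
  obtain ⟨u, hu⟩ := MulAction.exists_smul_eq G T S
  have hmap : ∀ y ∈ Q, u * y * u⁻¹ ∈ H.P := fun y hy => by
    rw [← hS, ← hu, Sylow.coe_subgroup_smul]
    exact ⟨y, hT hy, rfl⟩
  have key : ∀ c : G, (∀ v, c * H.emb v * c⁻¹ ∈ H.P) → c ∈ H.N := by
    intro c hc
    have e : H.J.map (MulAut.conj c).toMonoidHom = H.J := by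
      refine H.abelian_eq ?_ ?_ ?_ ?_
      · rintro _ ⟨y, ⟨v, rfl⟩, rfl⟩; exact hc v
      · rintro _ ⟨y, hy, rfl⟩ _ ⟨z, hz, rfl⟩; rw [← map_mul, ← map_mul, H.J_comm hy hz]
      · rintro _ ⟨y, hy, rfl⟩; rw [← map_pow, H.J_cube hy, map_one]
      · rw [← Nat.card_congr (H.J.equivMapOfInjective _ (MulAut.conj c).injective).toEquiv,
          H.card_J]
    exact H.mem_N fun v => by rw [← e]; exact ⟨H.emb v, H.emb_mem v, rfl⟩
  have hu' : u ∈ H.N := key u fun v => hmap _ (hJ (H.emb_mem v))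
  have hug : u * g ∈ H.N := key _ fun v => by
    have := hmap _ (hg v)
    simpa [mul_assoc] using this
  have := mul_mem (inv_mem hu') hug
  rwa [inv_mul_cancel_left] at this

/-- Fusion in the elementary abelian subgroup is controlled by the normalizer. -/
theorem fusion {v w : Fin 27} {g : G} (hg : g * H.emb v * g⁻¹ = H.emb w) :
    ∃ c, c * H.emb w = H.emb w * c ∧ c * g ∈ H.N := by
  haveI : Fact (Nat.Prime 3) := ⟨Nat.prime_three⟩
  set C := centralizer ({H.emb w} : Set G)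
  have hJC : H.J ≤ C := fun z hz =>
    mem_centralizer_singleton_iff.2 (H.J_comm hz (H.emb_mem w))
  set J' := H.J.map (MulAut.conj g).toMonoidHom
  have hJ'C : J' ≤ C := by
    rintro _ ⟨z, hz, rfl⟩
    refine mem_centralizer_singleton_iff.2 ?_
    rw [← hg]
    show MulAut.conj g z * MulAut.conj g (H.emb v) = MulAut.conj g (H.emb v) * MulAut.conj g z
    rw [← map_mul, ← map_mul, H.J_comm hz (H.emb_mem v)]
  have hp : IsPGroup 3 (H.J.subgroupOf C) :=
    H.isPGroup_J.of_equiv (subgroupOfEquivOfLe hJC).symm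
  have hp' : IsPGroup 3 (J'.subgroupOf C) :=
    (H.isPGroup_J.map _).of_equiv (subgroupOfEquivOfLe hJ'C).symm
  obtain ⟨Q1, hQ1⟩ := hp.exists_le_sylow
  obtain ⟨Q2, hQ2⟩ := hp'.exists_le_sylow
  obtain ⟨c, hc⟩ := MulAction.exists_smul_eq C Q2 Q1
  refine ⟨c, mem_centralizer_singleton_iff.1 c.2, ?_⟩
  refine H.mem_N_of_conj (Q := (Q1 : Subgroup C).map C.subtype) (Q1.2.map _)
    (fun z hz => ⟨⟨z, hJC hz⟩, hQ1 hz, rfl⟩) fun z => ?_
  have hz' : g * H.emb z * g⁻¹ ∈ J' := ⟨_, H.emb_mem z, rfl⟩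
  refine ⟨c * ⟨_, hJ'C hz'⟩ * c⁻¹, ?_, by simp [mul_assoc]⟩
  rw [← hc, Sylow.coe_subgroup_smul]
  exact ⟨⟨_, hJ'C hz'⟩, hQ2 hz', rfl⟩

/-- Conjugate elements of the elementary abelian subgroup are conjugate by an induced matrix. -/
theorem fusion_app {v w : Fin 27} {g : G} (hg : g * H.emb v * g⁻¹ = H.emb w) :
    ∃ M, H.W M ∧ app M v = w := by
  obtain ⟨c, hc, hcg⟩ := H.fusion hg
  obtain ⟨M, hM⟩ := H.exists_induces_of_mem hcg
  refine ⟨M, ⟨_, hM⟩, H.emb_inj ?_⟩
  rw [← hM]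
  calc c * g * H.emb v * (c * g)⁻¹ = c * (g * H.emb v * g⁻¹) * c⁻¹ := by group
    _ = _ := by rw [hg, hc, mul_inv_cancel_right]

/-- An element conjugating a member to one with centralizer in the normalizer normalizes. -/
theorem mem_N_of_fusion {v w : Fin 27} {g : G} (hg : g * H.emb v * g⁻¹ = H.emb w)
    (hC : centralizer ({H.emb w} : Set G) ≤ H.N) : g ∈ H.N := by
  obtain ⟨c, hc, hcg⟩ := H.fusion hg
  have := mul_mem (inv_mem (hC (mem_centralizer_singleton_iff.2 hc))) hcg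
  rwa [inv_mul_cancel_left] at this

/-- Centralizers in the normalizer pass to fused elements. -/
theorem cent_le_transport {M : Mat} (hM : H.W M) {v : Fin 27}
    (hC : centralizer ({H.emb v} : Set G) ≤ H.N) :
    centralizer ({H.emb (app M v)} : Set G) ≤ H.N := by
  obtain ⟨n, hn⟩ := hM
  intro c hc
  have h1 : n⁻¹ * c * n ∈ centralizer ({H.emb v} : Set G) := by
    rw [mem_centralizer_singleton_iff] at hc ⊢
    rw [← hn] at hc
    calc n⁻¹ * c * n * H.emb v = n⁻¹ * (c * (n * H.emb v * n⁻¹)) * n := by group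
      _ = n⁻¹ * (n * H.emb v * n⁻¹ * c) * n := by rw [hc]
      _ = _ := by group
  have := mul_mem (mul_mem hn.mem_N (hC h1)) (inv_mem hn.mem_N)
  simpa [mul_assoc] using this
end Hyp

end CfsgLib.PSpFourRec
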