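import Cfsg.Agent.PSpFourRec.Cent
import Cfsg.Agent.Signalizer.Basic

/-!
# Involutions centralizing a subgroup of order nine, and subgroups with a three-group normalizer
-/

set_option autoImplicit false
set_option maxRecDepth 100000
set_option linter.style.haveILetI false

namespace CfsgLib.PSpFourRec

open CfsgLib.AltNine CfsgLib.PSpFourThree Subgroup
open CfsgLib.ThreeSymNine (Mat app mm pmat dmat mono pa pm pinv dig sm nv_nv pa_table app_pmat app_one ext_app)

universe u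

namespace Hyp

variable {G : Type u} [Group G] (H : Hyp G)

/-- The members centralized by `t`. -/
def Fix (t : G) : Subgroup G := H.J ⊓ centralizer {t}

theorem mem_Fix {t : G} {T : Mat} (hT : H.Induces t T) {g : G} :
    g ∈ H.Fix t ↔ ∃ v, app T v = v ∧ g = H.emb v := by
  constructor
  · rintro ⟨⟨v, rfl⟩, hg⟩
    refine ⟨v, H.emb_inj ?_, rfl⟩
    rw [← hT, ← mem_centralizer_singleton_iff.1 hg, mul_inv_cancel_right]
  · rintro ⟨v, hv, rfl⟩
    refine ⟨H.emb_mem v, mem_centralizer_singleton_iff.2 ?_⟩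
    have := hT v
    rw [hv, mul_inv_eq_iff_eq_mul] at this
    exact this.symm

theorem card_Fix {t : G} {T : Mat} (hT : H.Induces t T) :
    Nat.card (H.Fix t) = (Finset.univ.filter fun v => app T v = v).card := by
  rw [← Fintype.card_subtype, ← Nat.card_eq_fintype_card]
  refine (Nat.card_congr (Equiv.ofBijective
    (fun v : {v // app T v = v} => (⟨H.emb v, (H.mem_Fix hT).2 ⟨v, v.2, rfl⟩⟩ : H.Fix t))
    ⟨fun a b e => Subtype.ext (H.emb_inj (congrArg Subtype.val e)), fun ⟨g, hg⟩ => ?_⟩)).symm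
  obtain ⟨v, hv, rfl⟩ := (H.mem_Fix hT).1 hg
  exact ⟨⟨v, hv⟩, rfl⟩

theorem isElementaryAbelian_Fix (t : G) : Cfsg.IsElementaryAbelian 3 (H.Fix t) :=
  ⟨⟨⟨fun a b => Subtype.ext (H.J_comm a.2.1 b.2.1)⟩⟩, fun _ hb => H.J_cube hb.1⟩

variable [Finite G]

/-- Subgroups of order prime to three of `C(t)` invariant under the fixed subgroup. -/
theorem signalizer_le {t : G} {T : Mat} (hT : H.Induces t T) (ht : t * t = 1)
    (h9 : 9 ≤ (Finset.univ.filter fun v => app T v = v).card)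
    (hC : ∀ v, app T v = v → v ≠ 0 → centralizer {t} ⊓ H.C [v] ≤ H.N)
    (hst : ∀ M, H.W M → (∀ v, app T v = v → app M v = v) → M = pmat 0 ∨ M = T)
    {R : Subgroup G} (hR : R ≤ centralizer {t}) (hc : (Nat.card R).Coprime 3)
    (hn : H.Fix t ≤ normalizer (R : Set G)) : R ≤ zpowers t := by
  haveI : Fact (Nat.Prime 3) := ⟨Nat.prime_three⟩
  have h3 : ¬ 3 ∣ Nat.card R := Nat.prime_three.coprime_iff_not_dvd.1 hc.symm
  refine CfsgLib.Signalizer.le_of_forall_centralizer (p := 3) (H.isElementaryAbelian_Fix t) le_rfl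
    (by rw [H.card_Fix hT]; norm_num; omega) hn h3 fun e he he1 r hr => ?_
  obtain ⟨hrR, hre⟩ := hr
  obtain ⟨v, hv, rfl⟩ := (H.mem_Fix hT).1 he
  have hv0 : v ≠ 0 := fun h => he1 (by rw [h, H.emb_zero])
  have hrN : r ∈ H.N := hC v hv hv0 ⟨hR hrR, (H.C_singleton v).symm ▸ hre⟩
  have hfix : ∀ f ∈ H.Fix t, r * f * r⁻¹ * f⁻¹ = 1 := by
    intro f hf
    have hJ : r * f * r⁻¹ * f⁻¹ ∈ H.J :=
      mul_mem ((mem_normalizer_iff.1 hrN f).1 hf.1) (inv_mem hf.1)
    have hR' : r * f * r⁻¹ * f⁻¹ ∈ R := by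
      rw [show r * f * r⁻¹ * f⁻¹ = r * (f * r⁻¹ * f⁻¹) by group]
      exact mul_mem hrR ((mem_normalizer_iff.1 (hn hf) r⁻¹).1 (inv_mem hrR))
    exact orderOf_eq_one_iff.1 (Nat.eq_one_of_dvd_coprimes hc (orderOf_dvd_natCard _ hR')
      (orderOf_dvd_of_pow_eq_one (H.J_cube hJ)))
  obtain ⟨M, hM⟩ := H.exists_induces_of_mem hrN
  have hone : ∀ y ∈ R, y ∈ H.J → y = 1 := fun y hy hyJ =>
    orderOf_eq_one_iff.1 (Nat.eq_one_of_dvd_coprimes hc (orderOf_dvd_natCard _ hy)
      (orderOf_dvd_of_pow_eq_one (H.J_cube hyJ)))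
  rcases hst M ⟨r, hM⟩ (fun w hw => H.emb_inj (by
      rw [← hM]
      exact mul_inv_eq_one.1 (hfix _ ((H.mem_Fix hT).2 ⟨w, hw, rfl⟩)))) with rfl | rfl
  · rw [hone r hrR (H.mem_J_of_induces_one hM)]; exact one_mem _
  · have hj : t⁻¹ * r ∈ H.J := hM.mul_inv_mem hT
    have hrt : r * t = t * r := mem_centralizer_singleton_iff.1 (hR hrR)
    have hjt : (t⁻¹ * r) * t = t * (t⁻¹ * r) := by rw [mul_assoc, hrt]; group
    have hsq : (t⁻¹ * r) * (t⁻¹ * r) = r * r := by
      have hti : t⁻¹ = t := inv_eq_of_mul_eq_one_right ht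
      rw [hti, mul_assoc, ← mul_assoc r t, hrt, mul_assoc t r, ← mul_assoc t t, ht, one_mul]
    have h2 : t⁻¹ * r * (t⁻¹ * r) = 1 := by
      rw [hsq]; exact hone _ (mul_mem hrR hrR) (hsq ▸ mul_mem hj hj)
    have h1 : t⁻¹ * r = 1 := by
      have := H.J_cube hj
      rwa [pow_succ, pow_two, h2, one_mul] at this
    rw [inv_mul_eq_one.1 h1 |>.symm]
    exact mem_zpowers t

/-- The fixed subgroup is a Sylow subgroup of the centralizer of `t`. -/
theorem sylow_centralizer {t : G} {T : Mat} (hT : H.Induces t T)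
    (h9 : ∃ v, app T v = v ∧ H.C [v] ≤ H.N)
    (h4 : ∀ M, H.W M → (∀ v, app M (app T v) = app T (app M v)) →
      ∀ v, app M (app M (app M (app M v))) = v) :
    ∃ Q : Sylow 3 (centralizer {t}), (Q : Subgroup (centralizer {t})) =
        (H.Fix t).subgroupOf (centralizer {t}) ∧
      ∀ n ∈ normalizer ((Q : Subgroup (centralizer {t})) : Set (centralizer {t})),
        (n : G) ∈ H.N := by
  haveI : Fact (Nat.Prime 3) := ⟨Nat.prime_three⟩
  set C := centralizer ({t} : Set G)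
  have hle : H.Fix t ≤ C := inf_le_right
  have hp : IsPGroup 3 ((H.Fix t).subgroupOf C) :=
    (H.isPGroup_J.to_le (inf_le_left : H.Fix t ≤ H.J)).of_equiv (subgroupOfEquivOfLe hle).symm
  have hnorm : ∀ n ∈ normalizer (((H.Fix t).subgroupOf C : Subgroup C) : Set C),
      (n : G) ∈ H.N := by
    intro n hn
    obtain ⟨v, hv, hC⟩ := h9
    have := (mem_normalizer_iff.1 hn ⟨H.emb v, hle ((H.mem_Fix hT).2 ⟨v, hv, rfl⟩)⟩).1
      ((H.mem_Fix hT).2 ⟨v, hv, rfl⟩)
    obtain ⟨w, hw, hvw⟩ := (H.mem_Fix hT).1 this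
    obtain ⟨M, hM, rfl⟩ := H.fusion_app hvw
    exact H.mem_N_of_fusion hvw (H.cent_le_transport hM (H.C_singleton v ▸ hC))
  obtain ⟨Q, hQ⟩ := hp.exists_le_sylow
  have heq : (Q : Subgroup C) = (H.Fix t).subgroupOf C := by
    refine le_antisymm ?_ hQ
    by_contra hne
    have hlt : ((H.Fix t).subgroupOf C).subgroupOf (Q : Subgroup C) < ⊤ :=
      lt_top_iff_ne_top.2 fun e => hne (subgroupOf_eq_top.1 e)
    haveI := Q.2.isNilpotent
    obtain ⟨⟨g, hgQ⟩, hgn, hgF⟩ := SetLike.exists_of_lt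
      (Group.normalizerCondition_of_isNilpotent _ hlt)
    have hgn' : g ∈ normalizer (((H.Fix t).subgroupOf C : Subgroup C) : Set C) :=
      mem_normalizer_iff.2 fun y => ⟨fun hy => (mem_normalizer_iff.1 hgn ⟨y, hQ hy⟩).1 hy,
        fun hy => by
          have hyQ : y ∈ (Q : Subgroup C) := by
            have := mul_mem (mul_mem (inv_mem hgQ) (hQ hy)) hgQ
            simpa [mul_assoc] using this
          exact (mem_normalizer_iff.1 hgn ⟨y, hyQ⟩).2 hy⟩
    obtain ⟨M, hM⟩ := H.exists_induces_of_mem (hnorm g hgn')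
    have hcomm : ∀ v, app M (app T v) = app T (app M v) := fun v => H.emb_inj (by
      rw [← hM.comp hT, ← hT.comp hM, mem_centralizer_singleton_iff.1 g.2])
    have h44 : (g : G) * g * ((g : G) * g) ∈ H.J := H.mem_J_of_induces_one fun v => by
      rw [(hM.mul hM).comp (hM.mul hM), hM.app_mm hM, hM.app_mm hM, h4 M ⟨_, hM⟩ hcomm v,
        app_pmat, pa_table.1 v]
    have hF : g ^ 4 ∈ (H.Fix t).subgroupOf C := by
      refine ⟨?_, mem_centralizer_singleton_iff.2 ?_⟩
      · show (g : G) ^ 4 ∈ H.J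
        rwa [show (g : G) ^ 4 = (g : G) * g * ((g : G) * g) by
          rw [show (4 : ℕ) = 1 + 1 + 1 + 1 from rfl, pow_add, pow_add, pow_add, pow_one, mul_assoc,
            mul_assoc]]
      · exact ((show Commute (g : G) t from
          mem_centralizer_singleton_iff.1 g.2).pow_left 4).eq
    obtain ⟨k, hk⟩ := Q.2 ⟨g, hgQ⟩
    have hk' : g ^ 3 ^ k = 1 := congrArg Subtype.val hk
    apply hgF
    show g ∈ (H.Fix t).subgroupOf C
    have hcop : Nat.Coprime (orderOf g) 4 :=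
      (Nat.Coprime.pow_left k (show Nat.Coprime 3 4 by decide)).coprime_dvd_left
        (orderOf_dvd_of_pow_eq_one hk')
    obtain ⟨m, hm⟩ := exists_pow_eq_self_of_coprime hcop.symm
    rw [← hm]
    exact pow_mem hF m
  exact ⟨Q, heq, fun n hn => hnorm n (heq ▸ hn)⟩

end Hyp

end CfsgLib.PSpFourRec
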