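import Cfsg.Agent.PSpFourRec.Model

/-!
# The centralizer of the transposition in the coordinates: a direct product of a group of order
# three and `SL₂(3)`
-/

set_option autoImplicit false
set_option maxRecDepth 100000
set_option synthInstance.maxSize 4000
set_option synthInstance.maxHeartbeats 400000

namespace CfsgLib.PSpFourRec

open CfsgLib.AltNine CfsgLib.ThreeSymNine CfsgLib.PSpFourThree

attribute [local instance 10000] List.decidableBAll List.decidableBEx

/-- Commuting with the transposition. -/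
abbrev zP (t : T) : Prop := tmul t (tS 1) = tmul (tS 1) t

/-- Square. -/
def tsq (t : T) : T := tmul t t

/-- The quaternion group. -/
abbrev qP (t : T) : Prop := zP t ∧ tsq (tsq t) = t1

theorem qP_facts : qP t1 ∧ qP (tS 1) ∧ tS 1 ≠ t1 ∧ tsq (tS 1) = t1 ∧
    (Finset.univ.filter fun t : T => qP t).card = 8 := by decide +kernel

theorem qP_mul : ∀ t : T, qP t → ∀ t' : T, qP t' → qP (tmul t t') := by decide +kernel

theorem qP_inv : ∀ t : T, qP t → ∃ t' : T, qP t' ∧ tmul t t' = t1 := by decide +kernel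

theorem qP_sq : ∀ t : T, qP t → t = t1 ∨ t = tS 1 ∨ tsq t = tS 1 := by decide +kernel

theorem qP_norm : ∀ c : T, zP c → ∀ t : T, qP t → ∃ t' : T, qP t' ∧ tmul c t = tmul t' c := by
  decide +kernel

theorem zP_exp : ∀ c : T, zP c → tmul (tsq (tsq c)) (tmul (tsq (tsq c)) (tsq (tsq c))) = t1 := by
  decide +kernel

theorem qP_cent : ∀ c : T, zP c → (∀ t : T, qP t → tmul c t = tmul t c) →
    ∃ k : Fin 3, c = tE (sm k 13) ∨ c = tmul (tE (sm k 13)) (tS 1) := by decide +kernel

theorem qP_gen : ∀ t : T, qP t → tsq t ≠ t1 → ∀ t' : T, qP t' →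
    ∃ w : T, tmul (tE 22) t = tmul w (tE 22) ∧
      ∃ a ∈ [t1, t, tsq t, tmul t (tsq t)], ∃ b ∈ [t1, w, tsq w, tmul w (tsq w)],
        t' = tmul a b := by decide +kernel

theorem no_invert : ∀ c : T, zP c → ∀ k : Fin 3, ∀ i : T, (i = t1 ∨ i = tS 1) →
    tmul (tE 22) (tmul c (tE 22)) ≠ tmul (tmul (tE (sm k 13)) i) c := by decide +kernel

theorem no_invert' : ∀ c : T, zP c → ∀ k : Fin 3, ∀ i : T, (i = t1 ∨ i = tS 1) →
    tmul (tE 22) (tmul c (tE 22)) ≠ tmul c (tmul (tE (sm k 13)) i) := by decide +kernel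

theorem plane_zP : ∀ v : Fin 27, app (mono 0 1) v = v → zP (tE v) := by decide +kernel

theorem zP_card : (Finset.univ.filter fun t : T => zP t).card = 72 := by decide +kernel

theorem qP_plane : ∀ v : Fin 27, app (mono 0 1) v = v → qP (tE v) → v = 0 := by decide +kernel

theorem qP_cent_nine : ∀ t : T, qP t → tmul t (tE 9) = tmul (tE 9) t → t = t1 ∨ t = tS 1 := by
  decide +kernel

theorem qP_moved : ∀ t : T, qP t → tsq t ≠ t1 → ∀ i ∈ [t1, tS 1],
    tmul (tE 22) t ≠ tmul (tmul t i) (tE 22) := by decide +kernel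

end CfsgLib.PSpFourRec
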