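import Cfsg.Agent.PSpFourRec.Types
import Cfsg.Agent.PSpFourRec.QuatModel
import Cfsg.Agent.Signalizer.Basic
import Cfsg.Agent.Solvable.Basics

/-!
# The quaternion group in the centralizer of the transposition and its centralizer
-/

set_option autoImplicit false
set_option maxRecDepth 100000
set_option synthInstance.maxSize 100000
set_option linter.style.haveILetI false
set_option linter.unusedSectionVars false

namespace CfsgLib.PSpFourRec

open CfsgLib.AltNine CfsgLib.PSpFourThree Subgroup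
open CfsgLib.ThreeSymNine (Mat app mm pmat dmat mono pa pm pinv dig sm nv_nv pa_table app_pmat
  app_one ext_app allSigns dx du db pd bc mono_tables)

attribute [local instance 10000] List.decidableBAll List.decidableBEx

universe u

theorem plane_tables : app (mono 0 1) 22 = 22 ∧ app (mono 7 0) 13 = 26 ∧
    app (mono 7 0) 22 = nv 22 ∧ app (mono 4 0) 13 = 22 ∧ app (mono 4 0) 22 = 13 ∧
    nv (26 : Fin 27) = 13 ∧ dx 4 4 = 0 ∧ pd 1 7 = 7 ∧ pd 1 4 = 4 ∧
    (∀ v, app (mono 0 1) v = v → app (mono 0 1) (app (mono 4 0) v) = app (mono 4 0) v) ∧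
    (∀ v, app (mono 0 1) v = v → v ≠ 0 → ∃ r ∈ ([13, 22, 9, 4] : List (Fin 27)),
      v = r ∨ v = nv r) ∧
    (∀ v, v = 22 → app (mono 4 0) v = 13) := by decide +kernel

theorem swap_stab : ∀ d ∈ allSigns, ∀ a : Fin 6,
    (∀ v ∈ ([13, 9] : List (Fin 27)), app (mono d a) v = v) →
    (∀ v ∈ ([1, 3, 9] : List (Fin 27)),
      app (mono d a) (app (mono 0 1) v) = app (mono 0 1) (app (mono d a) v)) →
    mono d a = pmat 0 ∨ mono d a = mono 0 1 := by decide +kernel

namespace Hyp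

variable {G : Type u} [Group G] [Finite G] (H : Hyp G)

/-- The quaternion group centralizing the centre. -/
def Q1 : Subgroup G where
  carrier := {g | ∃ t, qP t ∧ H.par t = g}
  mul_mem' := by
    rintro _ _ ⟨t, ht, rfl⟩ ⟨t', ht', rfl⟩
    exact ⟨_, qP_mul t ht t' ht', H.par_mul t t'⟩
  one_mem' := ⟨t1, qP_facts.1, H.par_one⟩
  inv_mem' := by
    rintro _ ⟨t, ht, rfl⟩
    obtain ⟨t', ht', e⟩ := qP_inv t ht
    exact ⟨t', ht', eq_inv_of_mul_eq_one_right (by rw [← H.par_mul, e, H.par_one])⟩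

variable {H}

theorem mem_Q1 {g : G} : g ∈ H.Q1 ↔ ∃ t, qP t ∧ H.par t = g := Iff.rfl

theorem S_mem_Q1 : H.S 1 ∈ H.Q1 := ⟨_, qP_facts.2.1, rfl⟩

theorem S_sq : H.S 1 * H.S 1 = 1 := by
  rw [H.S_mul, show pm 1 1 = (0 : Fin 6) by decide +kernel, H.S_zero]

theorem card_Q1 : Nat.card H.Q1 = 8 := by
  rw [← qP_facts.2.2.2.2, ← Fintype.card_subtype, ← Nat.card_eq_fintype_card]
  exact (Nat.card_congr (Equiv.ofBijective
    (fun t : {t : T // qP t} => (⟨H.par t.1, t.1, t.2, rfl⟩ : H.Q1))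
    ⟨fun a b e => Subtype.ext (H.par_inj (congrArg Subtype.val e)), fun ⟨g, t, ht, e⟩ =>
      ⟨⟨t, ht⟩, Subtype.ext e⟩⟩)).symm

theorem Q1_cent {q : G} (hq : q ∈ H.Q1) : q * H.x = H.x * q ∧ q * H.S 1 = H.S 1 * q := by
  obtain ⟨t, ht, rfl⟩ := hq
  refine ⟨H.commute_x_iff.2 ⟨t, rfl⟩, ?_⟩
  show H.par t * H.par (tS 1) = H.par (tS 1) * H.par t
  rw [← H.par_mul, ← H.par_mul, ht.1]

theorem Q1_sq {q : G} (hq : q ∈ H.Q1) : q = 1 ∨ q = H.S 1 ∨ q * q = H.S 1 := by
  obtain ⟨t, ht, rfl⟩ := hq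
  rcases qP_sq t ht with rfl | rfl | h
  · exact Or.inl H.par_one
  · exact Or.inr (Or.inl rfl)
  · right; right
    rw [← H.par_mul]
    exact congrArg H.par h

theorem exists_par {g : G} (hx : g * H.x = H.x * g) (hz : g * H.S 1 = H.S 1 * g) :
    ∃ t, zP t ∧ H.par t = g := by
  obtain ⟨t, rfl⟩ := H.commute_x_iff.1 hx
  refine ⟨t, H.par_inj ?_, rfl⟩
  rw [H.par_mul, H.par_mul]
  exact hz

theorem conj_Q1 {c q : G} (hx : c * H.x = H.x * c) (hz : c * H.S 1 = H.S 1 * c)
    (hq : q ∈ H.Q1) : c * q * c⁻¹ ∈ H.Q1 := by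
  obtain ⟨u, hu, rfl⟩ := exists_par hx hz
  obtain ⟨t, ht, rfl⟩ := hq
  obtain ⟨t', ht', e⟩ := qP_norm u hu t ht
  refine ⟨t', ht', ?_⟩
  rw [eq_mul_inv_iff_mul_eq, ← H.par_mul, ← H.par_mul, e]

/-- An element of order prime to three centralizing the centre and the transposition. -/
theorem mem_Q1_of_coprime {g : G} (hx : g * H.x = H.x * g) (hz : g * H.S 1 = H.S 1 * g)
    (h3 : (orderOf g).Coprime 3) : g ∈ H.Q1 := by
  obtain ⟨t, ht, rfl⟩ := exists_par hx hz
  refine ⟨t, ⟨ht, H.par_inj ?_⟩, rfl⟩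
  rw [H.par_one]
  have h12 : H.par t ^ 12 = 1 := by
    have := congrArg H.par (zP_exp t ht)
    simp only [tsq, H.par_mul, H.par_one] at this
    simp only [pow_succ, pow_zero, one_mul]
    simp only [← mul_assoc] at this ⊢
    exact this
  have h4 : orderOf (H.par t) ∣ 4 :=
    h3.dvd_of_dvd_mul_right (show orderOf (H.par t) ∣ 4 * 3 from orderOf_dvd_of_pow_eq_one h12)
  have := orderOf_dvd_iff_pow_eq_one.1 h4
  simp only [tsq, H.par_mul]
  simp only [pow_succ, pow_zero, one_mul, ← mul_assoc] at this ⊢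
  exact this

theorem plane_comm {v : Fin 27} (hv : app (mono 0 1) v = v) :
    H.emb v * H.x = H.x * H.emb v ∧ H.emb v * H.S 1 = H.S 1 * H.emb v := by
  refine ⟨H.emb_comm v 13, ?_⟩
  show H.par (tE v) * H.par (tS 1) = H.par (tS 1) * H.par (tE v)
  rw [← H.par_mul, ← H.par_mul, plane_zP v hv]

theorem mem_Fix_swap {D : Fin 8 → G} (h : H.Flips D) {g : G} (hg : g ∈ H.Fix (H.S 1)) :
    ∃ v, app (mono 0 1) v = v ∧ g = H.emb v := (H.mem_Fix h.named.1).1 hg

/-- A subgroup of order prime to three invariant under the plane is trivial or contains the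
quaternion group. -/
theorem Q1_dichotomy {R : Subgroup G} (hR : (Nat.card R).Coprime 3)
    (hRC : ∀ r ∈ R, r * H.x = H.x * r ∧ r * H.S 1 = H.S 1 * r)
    (hn : ∀ r ∈ R, H.emb 22 * r * (H.emb 22)⁻¹ ∈ R) :
    R ≤ H.Q1 ∧ (R ≤ zpowers (H.S 1) ∨ H.Q1 ≤ R) := by
  have hle : R ≤ H.Q1 := fun r hr => mem_Q1_of_coprime (hRC r hr).1 (hRC r hr).2
    (hR.coprime_dvd_left (orderOf_dvd_natCard R hr))
  refine ⟨hle, ?_⟩
  by_cases h : R ≤ zpowers (H.S 1)
  · exact Or.inl h
  right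
  obtain ⟨r, hr, hrz⟩ := Set.not_subset.1 h
  obtain ⟨t, ht, rfl⟩ := hle hr
  have ht1 : tsq t ≠ t1 := by
    intro e
    rcases qP_sq t ht with rfl | rfl | e'
    · exact hrz (by rw [H.par_one]; exact one_mem _)
    · exact hrz (mem_zpowers (H.S 1))
    · exact qP_facts.2.2.1 (e'.symm.trans e)
  rintro _ ⟨t', ht', rfl⟩
  obtain ⟨w, hw, a, ha, b, hb, rfl⟩ := qP_gen t ht ht1 t' ht'
  have hw' : H.par w ∈ R := by
    have e := congrArg H.par hw
    rw [H.par_mul, H.par_mul] at e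
    have := hn _ hr
    rw [show H.emb 22 * H.par t * (H.emb 22)⁻¹ = H.par w from mul_inv_eq_iff_eq_mul.2 e] at this
    exact this
  have hpow : ∀ u : T, H.par u ∈ R → ∀ c ∈ [t1, u, tsq u, tmul u (tsq u)], H.par c ∈ R := by
    intro u hu c hc
    simp only [List.mem_cons, List.not_mem_nil, or_false] at hc
    rcases hc with rfl | rfl | rfl | rfl
    · rw [H.par_one]; exact one_mem _
    · exact hu
    · rw [tsq, H.par_mul]; exact mul_mem hu hu
    · rw [tsq, H.par_mul, H.par_mul]; exact mul_mem hu (mul_mem hu hu)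
  rw [H.par_mul]
  exact mul_mem (hpow t hr a ha) (hpow w hw' b hb)

variable {D : Fin 8 → G}

/-- The part in the normalizer of a subgroup invariant under the plane is small. -/
theorem small_part (h : H.Flips D) {R : Subgroup G} (hR : (Nat.card R).Coprime 3)
    (hRN : R ≤ H.N) (hRz : ∀ r ∈ R, r * H.S 1 = H.S 1 * r)
    (hn : H.Fix (H.S 1) ≤ normalizer (R : Set G)) : R ≤ zpowers (H.S 1) := by
  intro r hr
  have hT := h.named.1
  have hfix : ∀ f ∈ H.Fix (H.S 1), r * f * r⁻¹ * f⁻¹ = 1 := by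
    intro f hf
    have hJ : r * f * r⁻¹ * f⁻¹ ∈ H.J :=
      mul_mem ((mem_normalizer_iff.1 (hRN hr) f).1 hf.1) (inv_mem hf.1)
    have hR' : r * f * r⁻¹ * f⁻¹ ∈ R := by
      rw [show r * f * r⁻¹ * f⁻¹ = r * (f * r⁻¹ * f⁻¹) by group]
      exact mul_mem hr ((mem_normalizer_iff.1 (hn hf) r⁻¹).1 (inv_mem hr))
    exact orderOf_eq_one_iff.1 (Nat.eq_one_of_dvd_coprimes hR (orderOf_dvd_natCard _ hR')
      (orderOf_dvd_of_pow_eq_one (H.J_cube hJ)))
  obtain ⟨M, hM⟩ := H.exists_induces_of_mem (hRN hr)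
  obtain ⟨d, hd, a, rfl⟩ := (h.signs M).1 ⟨r, hM⟩
  have hone : ∀ y ∈ R, y ∈ H.J → y = 1 := fun y hy hyJ =>
    orderOf_eq_one_iff.1 (Nat.eq_one_of_dvd_coprimes hR (orderOf_dvd_natCard _ hy)
      (orderOf_dvd_of_pow_eq_one (H.J_cube hyJ)))
  have hc : ∀ v, app (mono d a) (app (mono 0 1) v) = app (mono 0 1) (app (mono d a) v) :=
    fun v => H.emb_inj (by rw [← hM.comp hT, ← hT.comp hM, hRz r hr])
  have hfx : ∀ v ∈ ([13, 9] : List (Fin 27)), app (mono d a) v = v := fun v hv =>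
    H.emb_inj (by
      rw [← hM]
      exact mul_inv_eq_one.1 (hfix _ ((H.mem_Fix hT).2 ⟨v, (show ∀ v ∈ ([13, 9] : List (Fin 27)),
        app (mono 0 1) v = v by decide +kernel) v hv, rfl⟩)))
  rcases swap_stab d hd a hfx (fun v _ => hc v) with e | e
  · rw [e] at hM
    rw [hone r hr (H.mem_J_of_induces_one hM)]
    exact one_mem _
  · rw [e] at hM
    have hj : (H.S 1)⁻¹ * r ∈ H.J := hM.mul_inv_mem hT
    have hsi : (H.S 1)⁻¹ = H.S 1 := inv_eq_of_mul_eq_one_right S_sq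
    have hsq : (H.S 1)⁻¹ * r * ((H.S 1)⁻¹ * r) = r * r := by
      rw [hsi, mul_assoc, ← mul_assoc r, hRz r hr, mul_assoc (H.S 1) r, ← mul_assoc (H.S 1) (H.S 1),
        S_sq, one_mul]
    have h2 : (H.S 1)⁻¹ * r * ((H.S 1)⁻¹ * r) = 1 := by
      rw [hsq]; exact hone _ (mul_mem hr hr) (hsq ▸ mul_mem hj hj)
    have h1 : (H.S 1)⁻¹ * r = 1 := by
      have := H.J_cube hj
      rwa [pow_succ, pow_two, h2, one_mul] at this
    rw [← inv_mul_eq_one.1 h1]
    exact mem_zpowers _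

/-- The negation of the coordinates. -/
theorem Flips.seven (h : H.Flips D) : D 7 * H.S 1 = H.S 1 * D 7 ∧
    D 7 * H.x * D 7 = H.x⁻¹ ∧ D 7 * H.emb 22 * D 7 = (H.emb 22)⁻¹ ∧
    ∀ q ∈ H.Q1, D 7 * q * D 7 ∈ H.Q1 := by
  have hz : D 7 * H.S 1 = H.S 1 * D 7 := by
    have := h.conj 1 7
    rw [plane_tables.2.2.2.2.2.2.2.1, mul_inv_eq_iff_eq_mul] at this
    exact this.symm
  have hx : D 7 * H.x * D 7 = H.x⁻¹ := by
    conv_lhs => arg 2; rw [← h.inv]
    rw [Hyp.x, h.ind_flip 7, plane_tables.2.1, ← H.emb_nv, ← (nv_nv 26).1, plane_tables.2.2.2.2.2.1]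
  refine ⟨hz, hx, ?_, fun q hq => ?_⟩
  · conv_lhs => arg 2; rw [← h.inv]
    rw [h.ind_flip 7, plane_tables.2.2.1, H.emb_nv]
  · obtain ⟨hqx, hqz⟩ := Q1_cent hq
    have hconj : ∀ y : G, D 7 * y * D 7 = MulAut.conj (D 7) y := fun y => by
      rw [MulAut.conj_apply, h.inv]
    refine mem_Q1_of_coprime ?_ ?_ ?_
    · have := (show Commute q H.x⁻¹ from (show Commute q H.x from hqx).inv_right).map
        (MulAut.conj (D 7)).toMonoidHom
      rw [hconj]
      rw [MulEquiv.coe_toMonoidHom, map_inv, ← hconj H.x, hx, inv_inv] at this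
      exact this.eq
    · have := (show Commute q (H.S 1) from hqz).map (MulAut.conj (D 7)).toMonoidHom
      rw [hconj]
      rw [MulEquiv.coe_toMonoidHom, show MulAut.conj (D 7) (H.S 1) = H.S 1 by
        rw [MulAut.conj_apply, hz, mul_inv_cancel_right]] at this
      exact this.eq
    · rw [hconj, MulEquiv.orderOf_eq]
      have h8 : orderOf q ∣ 8 := card_Q1 (H := H) ▸ orderOf_dvd_natCard H.Q1 hq
      exact (show Nat.Coprime 8 3 by decide).coprime_dvd_left h8

theorem eq_comm_of_centralizes {c : G} (hx : c * H.x = H.x * c) (hz : c * H.S 1 = H.S 1 * c)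
    (hc : ∀ q ∈ H.Q1, c * q = q * c) :
    ∃ k : Fin 3, ∃ i : T, (i = t1 ∨ i = tS 1) ∧ c = H.par (tmul (tE (sm k 13)) i) := by
  obtain ⟨t, ht, rfl⟩ := exists_par hx hz
  obtain ⟨k, hk⟩ := qP_cent t ht fun u hu => H.par_inj (by
    rw [H.par_mul, H.par_mul]; exact hc _ ⟨u, hu, rfl⟩)
  rcases hk with rfl | rfl
  · exact ⟨k, t1, Or.inl rfl, by rw [H.par_mul, H.par_one, mul_one]⟩
  · exact ⟨k, tS 1, Or.inr rfl, rfl⟩

/-- No element centralizing the quaternion group inverts the centre. -/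
theorem Flips.no_inverting (h : H.Flips D) {n : G} (hn : ∀ q ∈ H.Q1, n * q = q * n)
    (hinv : n * H.x * n⁻¹ = H.x⁻¹) : False := by
  obtain ⟨hjz, hjx, hja, hjQ⟩ := h.seven
  set j := D 7
  set a := H.emb 22
  have ha := plane_comm (H := H) plane_tables.1
  have hnz : n * H.S 1 = H.S 1 * n := hn _ S_mem_Q1
  set c := n * j
  have hcx : c * H.x = H.x * c := by
    have e1 : j * H.x = H.x⁻¹ * j := by
      rw [← hjx, mul_assoc, h.sq, mul_one]
    have e2 : n * H.x⁻¹ = H.x * n := by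
      have := congrArg Inv.inv hinv
      rw [mul_inv_rev, mul_inv_rev, inv_inv, inv_inv, ← mul_assoc] at this
      exact mul_inv_eq_iff_eq_mul.1 this
    rw [mul_assoc, e1, ← mul_assoc, e2, mul_assoc]
  have hcz : c * H.S 1 = H.S 1 * c := by rw [mul_assoc, hjz, ← mul_assoc, hnz, mul_assoc]
  have hcq : ∀ q ∈ H.Q1, c * q * c⁻¹ = j * q * j := fun q hq => by
    rw [mul_inv_rev, h.inv, show n * j * q * (j * n⁻¹) = n * (j * q * j) * n⁻¹ by group,
      hn _ (hjQ q hq), mul_inv_cancel_right]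
  have hci : c⁻¹ * H.x = H.x * c⁻¹ :=
    ((show Commute c H.x from hcx).inv_left).eq
  have hciz : c⁻¹ * H.S 1 = H.S 1 * c⁻¹ :=
    ((show Commute c (H.S 1) from hcz).inv_left).eq
  set m := c⁻¹ * a * c * a
  have hmc : ∀ q ∈ H.Q1, m * q = q * m := by
    intro q hq
    have hq' : a * q * a⁻¹ ∈ H.Q1 := conj_Q1 ha.1 ha.2 hq
    have e : c * (a * q * a⁻¹) * c⁻¹ = a⁻¹ * (c * q * c⁻¹) * a := by
      rw [hcq _ hq', hcq _ hq]
      have e1 : j * a = a⁻¹ * j := by rw [← hja, mul_assoc, h.sq, mul_one]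
      have e2 : a⁻¹ * j = j * a := e1.symm
      calc j * (a * q * a⁻¹) * j = (j * a) * q * (a⁻¹ * j) := by group
        _ = (a⁻¹ * j) * q * (j * a) := by rw [e1, ← e1]
        _ = _ := by group
    refine mul_inv_eq_iff_eq_mul.1 ?_
    calc m * q * m⁻¹ = c⁻¹ * (a * (c * (a * q * a⁻¹) * c⁻¹) * a⁻¹) * c := by
          show c⁻¹ * a * c * a * q * (c⁻¹ * a * c * a)⁻¹ = _
          group
      _ = q := by rw [e]; group
  obtain ⟨k, i, hi, hm⟩ := eq_comm_of_centralizes (c := m)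
    (((Commute.mul_left (Commute.mul_left (Commute.mul_left (show Commute c⁻¹ H.x from hci)
      (show Commute a H.x from ha.1)) (show Commute c H.x from hcx))
      (show Commute a H.x from ha.1))).eq)
    (((Commute.mul_left (Commute.mul_left (Commute.mul_left (show Commute c⁻¹ (H.S 1) from hciz)
      (show Commute a (H.S 1) from ha.2)) (show Commute c (H.S 1) from hcz))
      (show Commute a (H.S 1) from ha.2))).eq) hmc
  obtain ⟨t, ht, htc⟩ := exists_par hcx hcz
  refine no_invert' t ht k i hi (H.par_inj ?_)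
  rw [H.par_mul, H.par_mul, H.par_mul, htc, ← hm]
  show a * (c * a) = c * (c⁻¹ * a * c * a)
  group

/-- The centralizer of the quaternion group has a normal complement to the centre. -/
theorem Flips.exists_core (h : H.Flips D) : ∃ O : Subgroup G,
    O ≤ centralizer (H.Q1 : Set G) ∧ (Nat.card O).Coprime 3 ∧
    normalizer ((centralizer (H.Q1 : Set G)) : Set G) ≤ normalizer (O : Set G) ∧
    H.Fix (H.S 1) ≤ normalizer (O : Set G) ∧
    (∀ g ∈ centralizer (H.Q1 : Set G), (orderOf g).Coprime 3 → g ∈ O) ∧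
    ∀ g ∈ centralizer (H.Q1 : Set G), ∃ i : ℤ, g * H.x ^ i ∈ O := by
  classical
  haveI : Fact (Nat.Prime 3) := ⟨Nat.prime_three⟩
  set R := centralizer (H.Q1 : Set G)
  have hRz : ∀ g ∈ R, g * H.S 1 = H.S 1 * g := fun g hg =>
    (mem_centralizer_iff.1 hg _ S_mem_Q1).symm
  have hxR : H.x ∈ R := mem_centralizer_iff.2 fun q hq => (Q1_cent hq).1
  let x' : R := ⟨H.x, hxR⟩
  have hx3 : orderOf x' = 3 := by
    rw [orderOf_mk]
    exact orderOf_eq_prime (H.emb_cube 13) fun e =>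
      absurd (H.emb_inj (e.trans H.emb_zero.symm)) (by decide)
  have hp : IsPGroup 3 (zpowers x') := IsPGroup.of_card (n := 1) (by
    rw [Nat.card_zpowers, hx3, pow_one])
  have hinv : ∀ n : R, n * x' * n⁻¹ ∈ zpowers x' → n * x' = x' * n := by
    intro n hn
    obtain ⟨k, hk⟩ := hn
    have h3' : ∀ k : ℤ, x' ^ k = 1 ∨ x' ^ k = x' ∨ x' ^ k = x'⁻¹ := fun k => by
      have hc : x' * x' * x' = 1 := by
        have := pow_orderOf_eq_one x'
        rwa [hx3, pow_succ, pow_two] at this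
      rw [← zpow_mod_orderOf, hx3]
      have h0 : 0 ≤ k % 3 := Int.emod_nonneg _ (by norm_num)
      have h1 : k % 3 < 3 := Int.emod_lt_of_pos _ (by norm_num)
      push_cast
      obtain e | e | e : k % 3 = 0 ∨ k % 3 = 1 ∨ k % 3 = 2 := by omega
      · exact Or.inl (by rw [e, zpow_zero])
      · exact Or.inr (Or.inl (by rw [e, zpow_one]))
      · exact Or.inr (Or.inr (by rw [e, zpow_two]; exact eq_inv_of_mul_eq_one_left hc))
    rcases h3' k with e | e | e
    · have hk' : n * x' * n⁻¹ = 1 := hk.symm.trans e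
      rw [conj_eq_one_iff] at hk'
      rw [hk', orderOf_one] at hx3
      omega
    · exact mul_inv_eq_iff_eq_mul.1 (hk.symm.trans e)
    · exact (h.no_inverting (fun q hq => (mem_centralizer_iff.1 n.2 q hq).symm)
        (congrArg Subtype.val (hk.symm.trans e))).elim
  obtain ⟨P, hP⟩ := hp.exists_le_sylow
  have hPeq : (P : Subgroup R) = zpowers x' := by
    refine le_antisymm ?_ hP
    by_contra hne
    have hlt : (zpowers x').subgroupOf (P : Subgroup R) < ⊤ :=
      lt_top_iff_ne_top.2 fun e => hne (subgroupOf_eq_top.1 e)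
    haveI := P.2.isNilpotent
    obtain ⟨⟨g, hgP⟩, hgn, hgx⟩ := SetLike.exists_of_lt
      (Group.normalizerCondition_of_isNilpotent _ hlt)
    have hc := hinv g (((mem_normalizer_iff.1 hgn) ⟨x', hP (mem_zpowers x')⟩).1 (mem_zpowers x'))
    obtain ⟨k, i, hi, hg⟩ := eq_comm_of_centralizes (c := (g : G)) (congrArg Subtype.val hc)
      (hRz g g.2) (fun q hq => (mem_centralizer_iff.1 g.2 q hq).symm)
    rw [H.par_mul, show H.par (tE (sm k 13)) = H.emb (sm k 13) from rfl, H.emb_sm] at hg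
    rcases hi with rfl | rfl
    · rw [H.par_one, mul_one] at hg
      exact hgx (by
        show g ∈ zpowers x'
        rw [show g = x' ^ (k : ℕ) from Subtype.ext hg]
        exact pow_mem (mem_zpowers _) _)
    · obtain ⟨m, hm⟩ := P.2 ⟨g, hgP⟩
      have hm' : (g : G) ^ 3 ^ m = 1 := by
        simpa using congrArg (fun y : (P : Subgroup R) => ((y : R) : G)) hm
      have hcz : Commute (H.emb 13 ^ (k : ℕ)) (H.par (tS 1)) :=
        (show Commute (H.emb 13) (H.S 1) from (plane_comm (H := H) (v := 13)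
          (by decide +kernel)).2).pow_left _
      rw [hg, hcz.mul_pow] at hm'
      rcases Nat.eq_zero_or_pos m with rfl | hm0
      · refine hgx (Eq.mpr ?_ (one_mem (zpowers x')))
        rw [pow_zero, pow_one, pow_one, ← hg] at hm'
        show (g ∈ zpowers x') = ((1 : R) ∈ zpowers x')
        rw [show g = 1 from Subtype.ext hm']
      · obtain ⟨m', rfl⟩ := Nat.exists_eq_succ_of_ne_zero hm0.ne'
        rw [← pow_mul, pow_succ', ← mul_assoc, mul_comm (k : ℕ), mul_assoc, pow_mul, H.emb_cube,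
          one_pow, one_mul] at hm'
        have h2 := orderOf_dvd_of_pow_eq_one hm'
        rw [show H.par (tS 1) = H.S 1 from rfl, show orderOf (H.S 1) = 2 from
          orderOf_eq_prime ((pow_two _).trans S_sq) fun e => qP_facts.2.2.1
            (H.par_inj (e.trans H.par_one.symm))] at h2
        rw [← pow_succ'] at h2
        exact absurd (Nat.prime_two.dvd_of_dvd_pow h2) (by norm_num)
  have hle : normalizer ((P : Subgroup R) : Set R) ≤ centralizer ((P : Subgroup R) : Set R) := by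
    rw [hPeq]
    intro n hn
    have hc : Commute n x' := hinv n ((mem_normalizer_iff.1 hn x').1 (mem_zpowers x'))
    refine mem_centralizer_iff.2 ?_
    rintro _ ⟨i, rfl⟩
    exact ((hc.zpow_right i).eq).symm
  have hcomp := MonoidHom.ker_transferSylow_isComplement' P hle
  set K := (MonoidHom.transferSylow P hle).ker
  set O := (Cfsg.pPrimeCore 3 R).map R.subtype
  have hKO : K ≤ Cfsg.pPrimeCore 3 R := CfsgLib.Solvable.le_pPrimeCore 3 inferInstance
    (Nat.prime_three.coprime_iff_not_dvd.2 (MonoidHom.not_dvd_card_ker_transferSylow P hle)).symm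
  have hdec : ∀ g : R, ∃ i : ℤ, g * x' ^ i ∈ Cfsg.pPrimeCore 3 R := fun g => by
    obtain ⟨⟨a, b⟩, hab⟩ := hcomp.2 g
    have hab' : (a : R) * b = g := hab
    obtain ⟨i, hi⟩ : (b : R) ∈ zpowers x' := hPeq ▸ b.2
    refine ⟨-i, hKO ?_⟩
    rw [← hab', zpow_neg, show x' ^ i = b from hi, mul_inv_cancel_right]
    exact a.2
  haveI hcoren : (Cfsg.pPrimeCore 3 R).Normal := CfsgLib.Solvable.pPrimeCore_normal 3
  have hnorm : normalizer (R : Set G) ≤ normalizer (O : Set G) := by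
    refine fun n hn => CfsgLib.Signalizer.le_normalizer_of_conj_mem (A := zpowers n) ?_ (mem_zpowers n)
    rintro m hm _ ⟨o, ho, rfl⟩
    have hmR : m ∈ normalizer (R : Set G) := (zpowers_le.2 hn) hm
    let f : MulAut R := ⟨{
      toFun := fun r => ⟨m * r * m⁻¹, (mem_normalizer_iff.1 hmR r).1 r.2⟩
      invFun := fun r => ⟨m⁻¹ * r * m, by
        have := (mem_normalizer_iff.1 (inv_mem hmR) r).1 r.2
        rwa [inv_inv] at this⟩
      left_inv := fun r => Subtype.ext (by simp [mul_assoc])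
      right_inv := fun r => Subtype.ext (by simp [mul_assoc]) },
      fun a b => Subtype.ext (by simp [mul_assoc])⟩
    have hM := CfsgLib.Solvable.le_pPrimeCore (p := 3) (N := (Cfsg.pPrimeCore 3 R).map f.toMonoidHom)
      (hcoren.map _ f.surjective)
      (Nat.card_congr ((Cfsg.pPrimeCore 3 R).equivMapOfInjective f.toMonoidHom
        f.injective).toEquiv ▸ CfsgLib.Solvable.coprime_card_pPrimeCore 3)
    exact ⟨_, hM ⟨o, ho, rfl⟩, rfl⟩
  refine ⟨O, map_subtype_le _, ?_, hnorm, ?_, fun g hg hg3 => ?_, fun g hg => ?_⟩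
  · rw [← Nat.card_congr ((Cfsg.pPrimeCore 3 R).equivMapOfInjective R.subtype
      R.subtype_injective).toEquiv]
    exact CfsgLib.Solvable.coprime_card_pPrimeCore 3
  · refine le_trans (fun f hf => ?_) hnorm
    obtain ⟨v, hv, rfl⟩ := mem_Fix_swap h hf
    refine CfsgLib.Signalizer.le_normalizer_of_conj_mem (A := H.Fix (H.S 1)) ?_ hf
    intro b hb r hr
    obtain ⟨w, hw, rfl⟩ := mem_Fix_swap h hb
    refine mem_centralizer_iff.2 fun q hq => ?_
    obtain ⟨hwx, hwz⟩ := plane_comm (H := H) hw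
    have hq' : (H.emb w)⁻¹ * q * H.emb w ∈ H.Q1 := by
      have := conj_Q1 (c := (H.emb w)⁻¹) ((show Commute (H.emb w) H.x from hwx).inv_left).eq
        ((show Commute (H.emb w) (H.S 1) from hwz).inv_left).eq hq
      rwa [inv_inv] at this
    have e := mem_centralizer_iff.1 hr _ hq'
    calc q * (H.emb w * r * (H.emb w)⁻¹)
        = H.emb w * ((H.emb w)⁻¹ * q * H.emb w * r) * (H.emb w)⁻¹ := by group
      _ = H.emb w * (r * ((H.emb w)⁻¹ * q * H.emb w)) * (H.emb w)⁻¹ := by rw [e]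
      _ = _ := by group
  · obtain ⟨i, hi⟩ := hdec ⟨g, hg⟩
    refine ⟨⟨g, hg⟩, ?_, rfl⟩
    refine (QuotientGroup.eq_one_iff _).1 ?_
    have hgx : (QuotientGroup.mk ⟨g, hg⟩ : R ⧸ Cfsg.pPrimeCore 3 R) * QuotientGroup.mk x' ^ i = 1 := by
      rw [← QuotientGroup.mk_zpow, ← QuotientGroup.mk_mul]
      exact (QuotientGroup.eq_one_iff _).2 hi
    refine orderOf_eq_one_iff.1 (Nat.eq_one_of_dvd_coprimes hg3 ?_ ?_)
    · exact (orderOf_map_dvd (QuotientGroup.mk' _) _).trans (by rw [orderOf_mk])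
    · refine orderOf_dvd_of_pow_eq_one ?_
      rw [mul_eq_one_iff_eq_inv.1 hgx, inv_pow, ← zpow_natCast (_ ^ i), ← zpow_mul, mul_comm,
        zpow_mul, zpow_natCast, ← QuotientGroup.mk_pow, show x' ^ 3 = 1 by
          rw [← hx3, pow_orderOf_eq_one], QuotientGroup.mk_one, one_zpow, inv_one]
  · obtain ⟨i, hi⟩ := hdec ⟨g, hg⟩
    exact ⟨i, _, hi, rfl⟩

end Hyp

end CfsgLib.PSpFourRec
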