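import Cfsg.Agent.PSpFourRec.LocalZ
import Cfsg.Agent.PSpFourRec.TransferKill

/-!
# The centralizer of the quaternion group contains more than the transposition
-/

set_option autoImplicit false
set_option maxRecDepth 100000
set_option synthInstance.maxSize 100000
set_option linter.style.haveILetI false
set_option linter.unusedSectionVars false

namespace CfsgLib.PSpFourRec

open CfsgLib.AltNine CfsgLib.PSpFourThree Subgroup
open CfsgLib.ThreeSymNine (Mat app mm pmat dmat mono pa pm pinv dig sm nv_nv pa_table app_pmat app_one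
  ext_app allSigns dx du db pd bc mono_tables)

attribute [local instance 10000] List.decidableBAll List.decidableBEx

universe u

theorem qP_conj_four : ∀ v : Fin 27, app (mono 0 1) v = v →
    app (mono 0 1) (app (mono 4 0) v) = app (mono 4 0) v ∧
      app (mono 4 0) (app (mono 4 0) v) = v := by decide +kernel

theorem elem_tables : pd 1 3 = 3 ∧ pd 1 4 = 4 ∧ dx 3 4 = 7 ∧
    (∀ d : Fin 8, d ∈ ([3, 4, 7] : List (Fin 8)) → mono d 0 ≠ mono 0 1 ∧ d ≠ 0) := by
  decide +kernel

namespace Hyp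

variable {G : Type u} [Group G] [Finite G] {H : Hyp G} {D : Fin 8 → G}

/-- The conjugate of the quaternion group by the single sign change. -/
def Q2 (H : Hyp G) (D : Fin 8 → G) : Subgroup G :=
  H.Q1.map (MulAut.conj (D 4)).toMonoidHom

theorem Flips.conj_four (h : H.Flips D) (y : G) : D 4 * (D 4 * y * D 4) * D 4 = y := by
  rw [← mul_assoc, ← mul_assoc, h.sq, one_mul, mul_assoc, h.sq, mul_one]

theorem Flips.mem_Q2 (h : H.Flips D) {g : G} : g ∈ H.Q2 D ↔ D 4 * g * D 4 ∈ H.Q1 := by
  constructor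
  · rintro ⟨q, hq, rfl⟩
    rw [MulEquiv.coe_toMonoidHom, MulAut.conj_apply, h.inv, h.conj_four]
    exact hq
  · intro hg
    refine ⟨_, hg, ?_⟩
    rw [MulEquiv.coe_toMonoidHom, MulAut.conj_apply, h.inv, h.conj_four]

theorem Flips.four_z (h : H.Flips D) :
    D 4 * H.S 1 = H.S 1 * D 4 ∧ D 3 * H.S 1 = H.S 1 * D 3 := by
  constructor
  · have := h.conj 1 4
    rw [elem_tables.2.1, mul_inv_eq_iff_eq_mul] at this
    exact this.symm
  · have := h.conj 1 3
    rw [elem_tables.1, mul_inv_eq_iff_eq_mul] at this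
    exact this.symm

theorem Flips.four_emb (h : H.Flips D) (v : Fin 27) :
    D 4 * H.emb v * D 4 = H.emb (app (mono 4 0) v) := by
  conv_lhs => arg 2; rw [← h.inv]
  rw [h.ind_flip 4]

theorem S_ne_one : H.S 1 ≠ 1 := fun e => qP_facts.2.2.1 (H.par_inj (e.trans H.par_one.symm))

theorem mem_zpowers_z {g : G} : g ∈ zpowers (H.S 1) ↔ g = 1 ∨ g = H.S 1 := by
  constructor
  · rintro ⟨i, rfl⟩
    rcases Int.even_or_odd' i with ⟨k, rfl | rfl⟩
    · left
      show H.S 1 ^ (2 * k) = 1
      rw [zpow_mul, zpow_two, S_sq, one_zpow]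
    · right
      show H.S 1 ^ (2 * k + 1) = H.S 1
      rw [zpow_add, zpow_mul, zpow_two, S_sq, one_zpow, one_mul, zpow_one]
  · rintro (rfl | rfl)
    · exact one_mem _
    · exact mem_zpowers _

/-- A complement to the centre in the centralizer of the quaternion group. -/
structure Core (H : Hyp G) (D : Fin 8 → G) (O : Subgroup G) : Prop where
  flips : H.Flips D
  le : O ≤ centralizer (H.Q1 : Set G)
  cop : (Nat.card O).Coprime 3
  fix : H.Fix (H.S 1) ≤ normalizer (O : Set G)
  mem : ∀ g ∈ centralizer (H.Q1 : Set G), (orderOf g).Coprime 3 → g ∈ O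
  split : ∀ g ∈ centralizer (H.Q1 : Set G), ∃ i : ℤ, g * H.x ^ i ∈ O

theorem Flips.exists_core' (h : H.Flips D) : ∃ O, H.Core D O := by
  obtain ⟨O, h1, h2, -, h4, h5, h6⟩ := h.exists_core
  exact ⟨O, h, h1, h2, h4, h5, h6⟩

variable {O : Subgroup G}

theorem Core.comm_z (hC : H.Core D O) {g : G} (hg : g ∈ O) : g * H.S 1 = H.S 1 * g :=
  (mem_centralizer_iff.1 (hC.le hg) _ S_mem_Q1).symm

theorem Core.z_mem (hC : H.Core D O) : H.S 1 ∈ O := by
  refine hC.mem _ (mem_centralizer_iff.2 fun q hq => (Q1_cent hq).2) ?_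
  rw [orderOf_eq_prime ((pow_two _).trans S_sq) S_ne_one]
  norm_num

theorem Core.coprime (hC : H.Core D O) {g : G} (hg : g ∈ O) : (orderOf g).Coprime 3 :=
  hC.cop.coprime_dvd_left (orderOf_dvd_natCard O hg)

theorem Core.part_x (hC : H.Core D O) :
    O ⊓ centralizer ({H.x} : Set G) ≤ zpowers (H.S 1) := by
  rintro g ⟨hg, hgx⟩
  have hx := mem_centralizer_singleton_iff.1 hgx
  have hz := hC.comm_z hg
  have hc : ∀ q ∈ H.Q1, g * q = q * g := fun q hq => (mem_centralizer_iff.1 (hC.le hg) q hq).symm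
  obtain ⟨k, i, hi, hge⟩ := eq_comm_of_centralizes hx hz hc
  obtain ⟨t, ⟨htz, ht⟩, htg⟩ := mem_Q1_of_coprime hx hz (hC.coprime hg)
  have key : ∀ k : Fin 3, ∀ i ∈ [t1, tS 1],
      tsq (tsq (tmul (tE (sm k 13)) i)) = t1 → k = 0 := by decide +kernel
  have hte : t = tmul (tE (sm k 13)) i := H.par_inj (htg.trans hge)
  have hk := key k i (by rcases hi with rfl | rfl <;> simp) (hte ▸ ht)
  subst hk
  rw [hge, H.par_mul, show H.par (tE (sm 0 13)) = H.emb 0 from rfl, H.emb_zero, one_mul,
    mem_zpowers_z]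
  rcases hi with rfl | rfl
  · exact Or.inl H.par_one
  · exact Or.inr rfl

theorem Core.part_four (hC : H.Core D O) :
    O ⊓ centralizer ({H.emb 4} : Set G) ≤ zpowers (H.S 1) := by
  refine small_part hC.flips (hC.cop.coprime_dvd_left (card_dvd_of_le inf_le_left))
    (inf_le_right.trans (hC.flips.four_le (by decide)))
    (fun r hr => hC.comm_z hr.1) fun f hf => ?_
  obtain ⟨v, hv, rfl⟩ := mem_Fix_swap hC.flips hf
  refine CfsgLib.Signalizer.le_normalizer_of_conj_mem (A := H.Fix (H.S 1)) ?_ hf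
  intro b hb r hr
  refine ⟨(mem_normalizer_iff.1 (hC.fix hb) r).1 hr.1, mem_centralizer_singleton_iff.2 ?_⟩
  have hbc : Commute b (H.emb 4) := H.J_comm hb.1 (H.emb_mem 4)
  exact ((Commute.mul_left (Commute.mul_left hbc (mem_centralizer_singleton_iff.1 hr.2 :
    Commute r (H.emb 4))) hbc.inv_left)).eq

theorem Core.part_nine_le (hC : H.Core D O) (h9 : H.C [9] ≤ H.N) :
    O ⊓ centralizer ({H.emb 9} : Set G) ≤ zpowers (H.S 1) := by
  refine small_part hC.flips (hC.cop.coprime_dvd_left (card_dvd_of_le inf_le_left))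
    (inf_le_right.trans (H.C_singleton 9 ▸ h9))
    (fun r hr => hC.comm_z hr.1) fun f hf => ?_
  refine CfsgLib.Signalizer.le_normalizer_of_conj_mem (A := H.Fix (H.S 1)) ?_ hf
  intro b hb r hr
  refine ⟨(mem_normalizer_iff.1 (hC.fix hb) r).1 hr.1, mem_centralizer_singleton_iff.2 ?_⟩
  have hbc : Commute b (H.emb 9) := H.J_comm hb.1 (H.emb_mem 9)
  exact ((Commute.mul_left (Commute.mul_left hbc (mem_centralizer_singleton_iff.1 hr.2 :
    Commute r (H.emb 9))) hbc.inv_left)).eq

theorem Core.part_snd (hC : H.Core D O) :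
    O ⊓ centralizer ({H.emb 22} : Set G) ≤ zpowers (H.S 1) ∨ H.Q2 D ≤ O := by
  have h := hC.flips
  have h22 : app (mono 4 0) 22 = (13 : Fin 27) := plane_tables.2.2.2.2.1
  have h13 : app (mono 4 0) 13 = (22 : Fin 27) := plane_tables.2.2.2.1
  set R := (O ⊓ centralizer ({H.emb 22} : Set G)).map (MulAut.conj (D 4)).toMonoidHom
  have hmem : ∀ {g : G}, g ∈ R ↔
      D 4 * g * D 4 ∈ O ∧ (D 4 * g * D 4) * H.emb 22 = H.emb 22 * (D 4 * g * D 4) := by
    intro g
    constructor
    · rintro ⟨y, hy, rfl⟩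
      rw [MulEquiv.coe_toMonoidHom, MulAut.conj_apply, h.inv, h.conj_four]
      exact ⟨hy.1, mem_centralizer_singleton_iff.1 hy.2⟩
    · rintro ⟨h1, h2⟩
      refine ⟨_, ⟨h1, mem_centralizer_singleton_iff.2 h2⟩, ?_⟩
      rw [MulEquiv.coe_toMonoidHom, MulAut.conj_apply, h.inv, h.conj_four]
  have hR : (Nat.card R).Coprime 3 := by
    rw [← Nat.card_congr ((O ⊓ centralizer ({H.emb 22} : Set G)).equivMapOfInjective _
      (MulAut.conj (D 4)).injective).toEquiv]
    exact hC.cop.coprime_dvd_left (card_dvd_of_le inf_le_left)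
  have hRC : ∀ r ∈ R, r * H.x = H.x * r ∧ r * H.S 1 = H.S 1 * r := by
    intro r hr
    obtain ⟨hr1, hr2⟩ := hmem.1 hr
    constructor
    · have := congrArg (fun y => D 4 * y * D 4) hr2
      simp only [← mul_assoc] at this
      rw [show H.x = D 4 * H.emb 22 * D 4 by rw [h.four_emb, h22, Hyp.x]]
      calc r * (D 4 * H.emb 22 * D 4) = D 4 * (D 4 * r * D 4 * H.emb 22) * D 4 := by
            simp only [← mul_assoc, h.sq, one_mul]
        _ = D 4 * (H.emb 22 * (D 4 * r * D 4)) * D 4 := by rw [hr2]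
        _ = D 4 * H.emb 22 * D 4 * r * (D 4 * D 4) := by group
        _ = _ := by rw [h.sq, mul_one]
    · have hz : Commute (D 4) (H.S 1) := h.four_z.1
      have := (hz.mul_left (show Commute (D 4 * r * D 4) (H.S 1) from hC.comm_z hr1)).mul_left hz
      rw [h.conj_four] at this
      exact this.eq
  obtain ⟨-, hd⟩ := Q1_dichotomy (H := H) hR hRC fun r hr => by
    obtain ⟨hr1, hr2⟩ := hmem.1 hr
    have e : D 4 * (H.emb 22 * r * (H.emb 22)⁻¹) * D 4 = H.x * (D 4 * r * D 4) * H.x⁻¹ := by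
      rw [show H.x = D 4 * H.emb 22 * D 4 by rw [h.four_emb, h22, Hyp.x]]
      simp only [mul_inv_rev, h.inv, ← mul_assoc]
      rw [mul_assoc (D 4 * H.emb 22) (D 4) (D 4), h.sq, mul_one,
        mul_assoc (D 4 * H.emb 22 * r) (D 4) (D 4), h.sq, mul_one]
    refine hmem.2 ⟨?_, ?_⟩ <;> rw [e]
    · exact (mem_normalizer_iff.1 (hC.fix ((H.mem_Fix h.named.1).2 ⟨13, by decide +kernel, rfl⟩))
        _).1 hr1
    · have hxa : Commute H.x (H.emb 22) := H.emb_comm 13 22
      exact ((hxa.mul_left (show Commute (D 4 * r * D 4) (H.emb 22) from hr2)).mul_left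
        hxa.inv_left).eq
  rcases hd with hd | hd
  · refine Or.inl fun g hg => ?_
    have := hd ((@hmem (D 4 * g * D 4)).2 (by
      rw [h.conj_four]; exact ⟨hg.1, mem_centralizer_singleton_iff.1 hg.2⟩))
    rw [mem_zpowers_z] at this ⊢
    rcases this with e | e
    · left
      rw [← h.conj_four g, e, mul_one, h.sq]
    · right
      rw [← h.conj_four g, e, h.four_z.1, mul_assoc, h.sq, mul_one]
  · refine Or.inr fun g hg => ?_
    have := (hmem.1 (hd (h.mem_Q2.1 hg))).1
    rwa [h.conj_four] at this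

/-- The complement is generated by its parts centralizing the elements of the plane. -/
theorem Core.le_of_parts (hC : H.Core D O) {K : Subgroup G}
    (hK : ∀ v ∈ ([13, 22, 9, 4] : List (Fin 27)), O ⊓ centralizer ({H.emb v} : Set G) ≤ K) :
    O ≤ K := by
  have h := hC.flips
  set A := H.Fix (H.S 1)
  have hcard : Nat.card A = 9 := (H.card_Fix h.named.1).trans type_tables.2.2.2.1
  haveI : IsMulCommutative A := ⟨⟨fun a b => Subtype.ext (H.J_comm a.2.1 b.2.1)⟩⟩
  rw [← CfsgLib.CoprimeAct.generated_by_centralizers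
    (order_nine_not_cyclic hcard fun a ha => H.J_cube ha.1) hC.fix
    (by rw [hcard]; exact (Nat.Coprime.pow_left 2 hC.cop.symm : (3 ^ 2).Coprime _))]
  refine iSup₂_le ?_
  rintro a ⟨haA, ha1⟩
  obtain ⟨v, hv, rfl⟩ := mem_Fix_swap h haA
  obtain ⟨r, hr, hvr⟩ := plane_tables.2.2.2.2.2.2.2.2.2.2.1 v hv fun e => ha1 (by rw [e, H.emb_zero])
  refine le_trans (inf_le_inf_left _ fun g hg => ?_) (hK r hr)
  rw [mem_centralizer_singleton_iff] at hg ⊢
  rcases hvr with rfl | rfl
  · exact hg
  · rw [H.emb_nv] at hg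
    exact (Commute.inv_right_iff.1 hg)

/-- Elements of order three in the centralizer of the quaternion group. -/
theorem Core.conj_x (hC : H.Core D O) {y : G} (hy : y ∈ centralizer (H.Q1 : Set G))
    (hy3 : orderOf y = 3) : ∃ o ∈ O, ∃ i : ℤ, y = o * H.x ^ i * o⁻¹ := by
  haveI : Fact (Nat.Prime 3) := ⟨Nat.prime_three⟩
  set R := centralizer (H.Q1 : Set G)
  have hxR : H.x ∈ R := mem_centralizer_iff.2 fun q hq => (Q1_cent hq).1
  let x' : R := ⟨H.x, hxR⟩
  have hx3 : orderOf H.x = 3 := orderOf_eq_prime (H.emb_cube 13) fun e =>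
    absurd (H.emb_inj (e.trans H.emb_zero.symm)) (by decide)
  have hp : ∀ z : R, orderOf (z : G) = 3 → IsPGroup 3 (zpowers z) := fun z hz =>
    IsPGroup.of_card (n := 1) (by rw [Nat.card_zpowers, ← orderOf_coe, hz, pow_one])
  obtain ⟨P, hP⟩ := (hp x' hx3).exists_le_sylow
  obtain ⟨Q, hQ⟩ := (hp ⟨y, hy⟩ hy3).exists_le_sylow
  have hPle : ∀ p ∈ (P : Subgroup R), ∃ i : ℤ, (p : G) = H.x ^ i := by
    intro p hp'
    obtain ⟨i, hi⟩ := hC.split p p.2
    refine ⟨-i, ?_⟩
    have hmem : p * x' ^ i ∈ (P : Subgroup R) := mul_mem hp' (zpow_mem (hP (mem_zpowers x')) i)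
    obtain ⟨k, hk⟩ := P.2 ⟨_, hmem⟩
    have hk' : ((p : G) * H.x ^ i) ^ 3 ^ k = 1 := by
      simpa using congrArg (fun w : (P : Subgroup R) => ((w : R) : G)) hk
    have h1 : (p : G) * H.x ^ i = 1 := orderOf_eq_one_iff.1 (Nat.eq_one_of_dvd_coprimes
      ((hC.coprime hi).pow_right k) dvd_rfl (orderOf_dvd_of_pow_eq_one hk'))
    rw [zpow_neg]
    exact eq_inv_of_mul_eq_one_left h1
  obtain ⟨c, hc⟩ := MulAction.exists_smul_eq R P Q
  have hy' : (⟨y, hy⟩ : R) ∈ (Q : Subgroup R) := hQ (mem_zpowers _)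
  rw [← hc, Sylow.coe_subgroup_smul] at hy'
  obtain ⟨p, hp', hpy⟩ := hy'
  obtain ⟨j, hj⟩ := hPle p hp'
  obtain ⟨i, hi⟩ := hC.split c c.2
  refine ⟨_, hi, j, ?_⟩
  have : (c : G) * p * (c : G)⁻¹ = y := congrArg Subtype.val hpy
  rw [← this, hj]
  group

/-- The normalizer of the quaternion group in the centralizer of the transposition. -/
theorem Core.normalizer_Q1 (hC : H.Core D O) {n : G} (hz : n * H.S 1 = H.S 1 * n)
    (hn : ∀ q ∈ H.Q1, n * q * n⁻¹ ∈ H.Q1) :
    ∃ o ∈ O, ∃ c, c * H.x = H.x * c ∧ c * H.S 1 = H.S 1 * c ∧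
      (n = o * c ∨ n = o * c * D 7) := by
  obtain ⟨hjz, hjx, -, -⟩ := hC.flips.seven
  have hsurj : ∀ q ∈ H.Q1, n⁻¹ * q * n ∈ H.Q1 := by
    intro q hq
    let f : H.Q1 → H.Q1 := fun y => ⟨n * y * n⁻¹, hn _ y.2⟩
    have hf : Function.Injective f := fun a b e => Subtype.ext
      (mul_left_cancel (mul_right_cancel (congrArg Subtype.val e)))
    obtain ⟨w, hw⟩ := Finite.surjective_of_injective hf ⟨q, hq⟩
    have e : n * (w : G) * n⁻¹ = q := congrArg Subtype.val hw
    rw [show n⁻¹ * q * n = w by rw [← e]; group]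
    exact w.2
  have hy : n * H.x * n⁻¹ ∈ centralizer (H.Q1 : Set G) := mem_centralizer_iff.2 fun q hq => by
    have e := (Q1_cent (hsurj q hq)).1
    calc q * (n * H.x * n⁻¹) = n * (n⁻¹ * q * n * H.x) * n⁻¹ := by group
      _ = n * (H.x * (n⁻¹ * q * n)) * n⁻¹ := by rw [e]
      _ = _ := by group
  have hx3 : orderOf H.x = 3 := by
    haveI : Fact (Nat.Prime 3) := ⟨Nat.prime_three⟩
    exact orderOf_eq_prime (H.emb_cube 13) fun e =>
      absurd (H.emb_inj (e.trans H.emb_zero.symm)) (by decide)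
  obtain ⟨o, ho, i, hi⟩ := hC.conj_x hy (by
    rw [← MulAut.conj_apply, MulEquiv.orderOf_eq, hx3])
  have hoz : Commute o (H.S 1) := hC.comm_z ho
  set m := o⁻¹ * n
  have hmz : Commute m (H.S 1) := hoz.inv_left.mul_left hz
  have hm : m * H.x * m⁻¹ = H.x ^ i := by
    calc m * H.x * m⁻¹ = o⁻¹ * (n * H.x * n⁻¹) * o := by
          show o⁻¹ * n * H.x * (o⁻¹ * n)⁻¹ = _
          group
      _ = _ := by rw [hi]; group
  have hcases : H.x ^ i = H.x ∨ H.x ^ i = H.x⁻¹ := by
    obtain e | e | e : i % 3 = 0 ∨ i % 3 = 1 ∨ i % 3 = 2 := by omega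
    all_goals rw [← zpow_mod_orderOf, hx3, show ((3 : ℕ) : ℤ) = 3 from rfl, e]
    · exfalso
      rw [← zpow_mod_orderOf, hx3, show ((3 : ℕ) : ℤ) = 3 from rfl, e, zpow_zero,
        conj_eq_one_iff] at hm
      rw [hm, orderOf_one] at hx3
      omega
    · exact Or.inl (zpow_one _)
    · right
      rw [zpow_two]
      refine eq_inv_of_mul_eq_one_left ?_
      rw [← pow_two, ← pow_succ, show 2 + 1 = orderOf H.x by rw [hx3], pow_orderOf_eq_one]
  rcases hcases with e | e <;> rw [e] at hm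
  · refine ⟨o, ho, m, mul_inv_eq_iff_eq_mul.1 hm, hmz.eq, Or.inl (mul_inv_cancel_left o n).symm⟩
  · refine ⟨o, ho, m * D 7, ?_, ?_, Or.inr ?_⟩
    · have e1 : D 7 * H.x = H.x⁻¹ * D 7 := by rw [← hjx, mul_assoc, hC.flips.sq, mul_one]
      have e2 : m * H.x⁻¹ = H.x * m := by
        refine mul_inv_eq_iff_eq_mul.1 ?_
        rw [← conj_inv, hm, inv_inv]
      rw [mul_assoc, e1, ← mul_assoc, e2, mul_assoc]
    · exact (hmz.mul_left hjz).eq
    · show n = o * (o⁻¹ * n * D 7) * D 7
      rw [mul_assoc, mul_assoc (o⁻¹ * n), hC.flips.sq, mul_one, mul_inv_cancel_left]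

/-- The sign change acts on the quaternion group with a single fixed pair of non-central
elements. -/
theorem Flips.seven_fix (h : H.Flips D) {q p : G} (hq : q ∈ H.Q1) (hq2 : q * q = H.S 1)
    (hqf : D 7 * q * D 7 = q) (hp : p ∈ H.Q1) (hpf : D 7 * p * D 7 = p) :
    p = 1 ∨ p = H.S 1 ∨ p = q ∨ p = q * H.S 1 := by
  obtain ⟨-, -, hja, -⟩ := h.seven
  obtain ⟨t, ht, rfl⟩ := hq
  obtain ⟨t', ht', rfl⟩ := hp
  have hne : tsq t ≠ t1 := fun e => by
    rw [← H.par_mul, show tmul t t = t1 from e, H.par_one] at hq2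
    exact S_ne_one hq2.symm
  have key : ∀ t : T, qP t → tsq t ≠ t1 → ∀ t' : T, qP t' → t' = t1 ∨ t' = tS 1 ∨ t' = t ∨
      t' = tmul t (tS 1) ∨ (∀ w : T, qP w → ∃ a ∈ [t1, t, tsq t, tmul t (tsq t)],
        ∃ b ∈ [t1, t', tsq t', tmul t' (tsq t')], w = tmul a b) := by decide +kernel
  rcases key t ht hne t' ht' with rfl | rfl | rfl | rfl | hg
  · exact Or.inl H.par_one
  · exact Or.inr (Or.inl rfl)
  · exact Or.inr (Or.inr (Or.inl rfl))
  · exact Or.inr (Or.inr (Or.inr (H.par_mul _ _)))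
  exfalso
  -- the sign change would centralize the quaternion group
  have hall : ∀ y ∈ H.Q1, Commute (D 7) y := by
    have hco : ∀ y : G, D 7 * y * D 7 = y → Commute (D 7) y := fun y e => by
      show D 7 * y = y * D 7
      conv_rhs => rw [← e, mul_assoc, h.sq, mul_one]
    have hpow : ∀ u : T, D 7 * H.par u * D 7 = H.par u →
        ∀ c ∈ [t1, u, tsq u, tmul u (tsq u)], Commute (D 7) (H.par c) := by
      intro u hu c hc
      have h0 := hco _ hu
      simp only [List.mem_cons, List.not_mem_nil, or_false] at hc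
      rcases hc with rfl | rfl | rfl | rfl
      · rw [H.par_one]; exact Commute.one_right _
      · exact h0
      · rw [tsq, H.par_mul]; exact h0.mul_right h0
      · rw [tsq, H.par_mul, H.par_mul]; exact h0.mul_right (h0.mul_right h0)
    rintro _ ⟨w, hw, rfl⟩
    obtain ⟨a, ha, b, hb, rfl⟩ := hg w hw
    rw [H.par_mul]
    exact (hpow t hqf a ha).mul_right (hpow t' hpf b hb)
  -- hence it commutes with the action of the plane
  have ha := plane_comm (H := H) plane_tables.1
  set a := H.emb 22 with ha_def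
  set y := a * H.par t * a⁻¹ with hy_def
  have hy : y ∈ H.Q1 := conj_Q1 ha.1 ha.2 ⟨t, ht, rfl⟩
  have e1 : y = a⁻¹ * H.par t * a := by
    calc y = D 7 * (D 7 * y) := by rw [← mul_assoc, h.sq, one_mul]
      _ = D 7 * (y * D 7) := by rw [(hall y hy).eq]
      _ = (D 7 * a * D 7) * (D 7 * H.par t * D 7) * (D 7 * a⁻¹ * D 7) := by
          rw [hy_def]
          simp only [← mul_assoc]
          rw [mul_assoc (D 7 * a) (D 7) (D 7), h.sq, mul_one,
            mul_assoc (D 7 * a * H.par t) (D 7) (D 7), h.sq, mul_one]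
      _ = _ := by
          rw [hja, hqf, show D 7 * a⁻¹ * D 7 = (D 7 * a * D 7)⁻¹ by
            rw [mul_inv_rev, mul_inv_rev, h.inv, ← mul_assoc], hja, inv_inv]
  have hfix : a * H.par t = H.par t * a := by
    have hcube : a * a = a⁻¹ := eq_inv_of_mul_eq_one_left (by
      rw [← pow_two, ← pow_succ]; exact H.emb_cube 22)
    have e2 : a⁻¹ * H.par t * a = H.par t * 1 → a * H.par t = H.par t * a := fun e => by
      rw [mul_one] at e
      calc a * H.par t = a * (a⁻¹ * H.par t * a) := by rw [e]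
        _ = _ := by group
    refine e2 ?_
    calc a⁻¹ * H.par t * a = (a * a) * H.par t * (a * a)⁻¹ := by rw [hcube, inv_inv]
      _ = a * y * a⁻¹ := by rw [hy_def]; group
      _ = a * (a⁻¹ * H.par t * a) * a⁻¹ := by rw [e1]
      _ = _ := by group
  refine qP_moved t ht hne t1 (by simp) (H.par_inj ?_)
  rw [H.par_mul, H.par_mul, H.par_mul, H.par_one, mul_one]
  exact hfix

/-- The centralizer of the quaternion group is bigger. -/
theorem Core.not_le (hC : H.Core D O) : ¬ O ≤ zpowers (H.S 1) := by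
  intro hle
  classical
  haveI : Fact (Nat.Prime 2) := ⟨Nat.prime_two⟩
  have h := hC.flips
  obtain ⟨hjz, -, -, hjQ⟩ := h.seven
  set X := centralizer ({H.S 1} : Set G) with hX
  have hzX : ∀ {g : G}, g ∈ X ↔ g * H.S 1 = H.S 1 * g := fun {g} =>
    mem_centralizer_singleton_iff
  have hQX : H.Q1 ≤ X := fun q hq => hzX.2 (Q1_cent hq).2
  let S : Subgroup G :=
    { carrier := {g | g ∈ H.Q1 ∨ g * D 7 ∈ H.Q1}
      mul_mem' := by
        rintro a b (ha | ha) (hb | hb)
        · exact Or.inl (mul_mem ha hb)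
        · exact Or.inr (by rw [mul_assoc]; exact mul_mem ha hb)
        · refine Or.inr ?_
          rw [show a * b * D 7 = a * D 7 * (D 7 * b * D 7) by
            simp only [← mul_assoc]; rw [mul_assoc a (D 7) (D 7), h.sq, mul_one]]
          exact mul_mem ha (hjQ _ hb)
        · refine Or.inl ?_
          rw [show a * b = a * D 7 * (D 7 * (b * D 7) * D 7) by
            simp only [← mul_assoc]; rw [mul_assoc a (D 7) (D 7), h.sq, mul_one,
              mul_assoc (a * b), h.sq, mul_one]]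
          exact mul_mem ha (hjQ _ hb)
      one_mem' := Or.inl (one_mem _)
      inv_mem' := by
        rintro a (ha | ha)
        · exact Or.inl (inv_mem ha)
        · refine Or.inr ?_
          have := hjQ _ (inv_mem ha)
          rw [mul_inv_rev, h.inv, ← mul_assoc, h.sq, one_mul] at this
          exact this }
  have hSX : S ≤ X := by
    rintro g (hg | hg)
    · exact hQX hg
    · refine hzX.2 ?_
      have := (show Commute (g * D 7) (H.S 1) from (Q1_cent hg).2).mul_left
        (show Commute (D 7) (H.S 1) from hjz)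
      rw [mul_assoc, h.sq, mul_one] at this
      exact this.eq
  have hS2 : IsPGroup 2 S := by
    intro g
    refine ⟨4, Subtype.ext ?_⟩
    show (g : G) ^ 2 ^ 4 = 1
    have hq : (g : G) * g ∈ H.Q1 := by
      rcases g.2 with hg | hg
      · exact mul_mem hg hg
      · rw [show (g : G) * g = g * D 7 * (D 7 * ((g : G) * D 7) * D 7) by
          simp only [← mul_assoc]; rw [mul_assoc (g : G) (D 7) (D 7), h.sq, mul_one,
            mul_assoc ((g : G) * g), h.sq, mul_one]]
        exact mul_mem hg (hjQ _ hg)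
    have h8 : orderOf ((g : G) * g) ∣ 8 := card_Q1 (H := H) ▸ orderOf_dvd_natCard H.Q1 hq
    rw [show (2 : ℕ) ^ 4 = 2 * 8 from rfl, pow_mul, pow_two]
    exact orderOf_dvd_iff_pow_eq_one.1 h8
  -- the subgroup is a Sylow subgroup
  obtain ⟨R, hR⟩ := (hS2.of_equiv (subgroupOfEquivOfLe hSX).symm :
    IsPGroup 2 (S.subgroupOf X)).exists_le_sylow
  have hRS : (R : Subgroup X) ≤ S.subgroupOf X := by
    by_contra hne
    have hlt : (S.subgroupOf X).subgroupOf (R : Subgroup X) < ⊤ :=
      lt_top_iff_ne_top.2 fun e => hne (subgroupOf_eq_top.1 e)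
    haveI := R.2.isNilpotent
    obtain ⟨⟨n, hnR⟩, hnn, hnS⟩ := SetLike.exists_of_lt
      (Group.normalizerCondition_of_isNilpotent _ hlt)
    have hnz : (n : G) * H.S 1 = H.S 1 * n := hzX.1 n.2
    have hSn : ∀ s ∈ S, (n : G) * s * (n : G)⁻¹ ∈ S := fun s hs =>
      ((mem_normalizer_iff.1 hnn) ⟨⟨s, hSX hs⟩, hR (mem_subgroupOf.2 hs)⟩).1 hs
    -- an element outside the quaternion group in a conjugate
    have hout : ∀ u ∈ H.Q1, (n : G) * u * (n : G)⁻¹ ∉ H.Q1 → u * u = H.S 1 ∧
        ∃ q ∈ H.Q1, q * q = H.S 1 ∧ D 7 * q * D 7 = q ∧ (n : G) * u * (n : G)⁻¹ = q * D 7 := by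
      intro u hu hnu
      have hu2 : u * u = H.S 1 := by
        rcases Q1_sq hu with rfl | rfl | e
        · exact absurd (by rw [mul_one, mul_inv_cancel]; exact one_mem _) hnu
        · exact absurd (by rw [hnz, mul_inv_cancel_right]; exact S_mem_Q1) hnu
        · exact e
      set y := (n : G) * u * (n : G)⁻¹ with hy
      have hy2 : y * y = H.S 1 := by
        calc y * y = (n : G) * (u * u) * (n : G)⁻¹ := by rw [hy]; group
          _ = _ := by rw [hu2, hnz, mul_inv_cancel_right]
      have hqQ : y * D 7 ∈ H.Q1 := (hSn u (Or.inl hu)).resolve_left hnu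
      have hyq : y * D 7 * D 7 = y := by rw [mul_assoc, h.sq, mul_one]
      set q := y * D 7 with hq
      have e2 : q * (D 7 * q * D 7) = H.S 1 := by
        rw [← hy2, ← hyq]
        simp only [← mul_assoc]
      have hq2 : q * q = H.S 1 := by
        rcases Q1_sq hqQ with e | e | e
        · exfalso
          rw [e, one_mul, mul_one, h.sq] at e2
          exact S_ne_one e2.symm
        · exfalso
          rw [e, hjz, mul_assoc (H.S 1) (D 7), h.sq, mul_one, S_sq] at e2
          exact S_ne_one e2.symm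
        · exact e
      refine ⟨hu2, q, hqQ, hq2, mul_left_cancel (e2.trans hq2.symm), hyq.symm⟩
    -- the quaternion group is normalized
    have hnQ : ∀ u ∈ H.Q1, (n : G) * u * (n : G)⁻¹ ∈ H.Q1 := by
      intro u hu
      by_contra hnu
      obtain ⟨-, q, hqQ, hq2, hqf, hy⟩ := hout u hu hnu
      have hsame : ∀ w ∈ H.Q1, (n : G) * w * (n : G)⁻¹ ∉ H.Q1 → w = u ∨ w = u * H.S 1 := by
        intro w hw hnw
        obtain ⟨-, p, hpQ, hp2, hpf, hyw⟩ := hout w hw hnw
        have hinj : ∀ {a b : G}, (n : G) * a * (n : G)⁻¹ = (n : G) * b * (n : G)⁻¹ → a = b :=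
          fun e => mul_left_cancel (mul_right_cancel e)
        rcases h.seven_fix hqQ hq2 hqf hpQ hpf with e | e | e | e
        · exfalso
          rw [e, one_mul] at hp2
          exact S_ne_one hp2.symm
        · exfalso
          rw [e, S_sq] at hp2
          exact S_ne_one hp2.symm
        · exact Or.inl (hinj (by rw [hyw, hy, e]))
        · refine Or.inr (hinj ?_)
          calc (n : G) * w * (n : G)⁻¹ = q * H.S 1 * D 7 := by rw [hyw, e]
            _ = q * D 7 * H.S 1 := by rw [mul_assoc, ← hjz, ← mul_assoc]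
            _ = (n : G) * u * (n : G)⁻¹ * H.S 1 := by rw [hy]
            _ = (n : G) * u * ((n : G)⁻¹ * H.S 1) := by rw [mul_assoc]
            _ = _ := by
              rw [(show Commute (n : G) (H.S 1) from hnz).inv_left.eq]
              group
      -- every non-central element would be mapped inside
      obtain ⟨t, ht, rfl⟩ := hu
      have key : ∀ t : T, qP t → ∃ w : T, qP w ∧ w ≠ t ∧ w ≠ tmul t (tS 1) ∧
          tmul t w ≠ t ∧ tmul t w ≠ tmul t (tmul t1 (tS 1)) := by decide +kernel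
      obtain ⟨w, hw, h1, h2, h3, h4⟩ := key t ht
      have hwin : (n : G) * H.par w * (n : G)⁻¹ ∈ H.Q1 := by
        by_contra hc
        rcases hsame _ ⟨w, hw, rfl⟩ hc with e | e
        · exact h1 (H.par_inj e)
        · exact h2 (H.par_inj (e.trans (H.par_mul _ _).symm))
      rcases hsame (H.par t * H.par w) (mul_mem ⟨t, ht, rfl⟩ ⟨w, hw, rfl⟩) (fun hc => hnu (by
          have := mul_mem hc (inv_mem hwin)
          rwa [show (n : G) * (H.par t * H.par w) * (n : G)⁻¹ *
            ((n : G) * H.par w * (n : G)⁻¹)⁻¹ = (n : G) * H.par t * (n : G)⁻¹ by group] at this))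
        with e | e
      · exact h3 (H.par_inj ((H.par_mul _ _).trans e))
      · exact h4 (H.par_inj (by
          rw [H.par_mul, e, H.par_mul, H.par_mul, H.par_one, one_mul]; rfl))
    obtain ⟨o, ho, c, hcx, hcz, hnc⟩ := hC.normalizer_Q1 hnz hnQ
    have hoS : o ∈ S := Or.inl (by
      rcases mem_zpowers_z.1 (hle ho) with rfl | rfl
      · exact one_mem _
      · exact S_mem_Q1)
    have hnR' : (n : G) ∈ (R : Subgroup X).map X.subtype := ⟨n, hnR, rfl⟩
    have hoR : o ∈ (R : Subgroup X).map X.subtype :=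
      ⟨⟨o, hSX hoS⟩, hR (mem_subgroupOf.2 hoS), rfl⟩
    have hjS : D 7 ∈ S := Or.inr (by rw [h.sq]; exact one_mem _)
    have hjR : D 7 ∈ (R : Subgroup X).map X.subtype :=
      ⟨⟨D 7, hSX hjS⟩, hR (mem_subgroupOf.2 hjS), rfl⟩
    have hcR : c ∈ (R : Subgroup X).map X.subtype := by
      rcases hnc with e | e
      · rw [show c = o⁻¹ * n by rw [e, inv_mul_cancel_left]]
        exact mul_mem (inv_mem hoR) hnR'
      · rw [show c = o⁻¹ * n * D 7 by
          rw [e, mul_assoc o, inv_mul_cancel_left, mul_assoc, h.sq, mul_one]]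
        exact mul_mem (mul_mem (inv_mem hoR) hnR') hjR
    obtain ⟨k, hk⟩ := R.2.map X.subtype ⟨c, hcR⟩
    have hcQ : c ∈ H.Q1 := mem_Q1_of_coprime hcx hcz ((Nat.Coprime.pow_left k
      (by norm_num : Nat.Coprime 2 3)).coprime_dvd_left
      (orderOf_dvd_of_pow_eq_one (congrArg Subtype.val hk)))
    refine hnS (mem_subgroupOf.2 (mem_subgroupOf.2 ?_))
    rcases hnc with e | e <;> show (n : G) ∈ S <;> rw [e]
    · exact mul_mem hoS (Or.inl hcQ)
    · exact mul_mem (mul_mem hoS (Or.inl hcQ)) hjS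
  -- an elementary subgroup of order eight
  have hd : ∀ d ∈ ([3, 4] : List (Fin 8)), D d ∈ X := by
    simp only [List.mem_cons, List.not_mem_nil, or_false]
    rintro d (rfl | rfl)
    · exact hzX.2 h.four_z.2
    · exact hzX.2 h.four_z.1
  let a : X := ⟨D 3, hd 3 (by decide)⟩
  let b : X := ⟨D 4, hd 4 (by decide)⟩
  set K := closure ({a, b} : Set X)
  have hab : a * b = b * a := Subtype.ext (h.comm 3 4)
  have hK : IsPGroup 2 K := by
    haveI : IsMulCommutative K := isMulCommutative_closure (by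
      rintro x (rfl | rfl) y (rfl | rfl) <;> first | rfl | exact hab | exact hab.symm)
    have hsq : ∀ y ∈ K, y * y = 1 := by
      intro y hy
      induction hy using closure_induction with
      | mem x hx => rcases hx with rfl | rfl <;> exact Subtype.ext (h.sq _)
      | one => exact one_mul _
      | mul x y hx hy ex ey =>
        have hxy : x * y = y * x := congrArg Subtype.val (mul_comm' (⟨x, hx⟩ : K) ⟨y, hy⟩)
        calc x * y * (x * y) = x * (y * x) * y := by group
          _ = x * (x * y) * y := by rw [hxy]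
          _ = (x * x) * (y * y) := by group
          _ = 1 := by rw [ex, ey, one_mul]
      | inv x hx ex => rw [← mul_inv_rev, ex, inv_one]
    exact fun y => ⟨1, Subtype.ext (by
      rw [SubmonoidClass.coe_pow, pow_one, pow_two]; exact hsq _ y.2)⟩
  obtain ⟨R', hR'⟩ := hK.exists_le_sylow
  obtain ⟨g, hg⟩ := MulAction.exists_smul_eq X R' R
  have hconj : ∀ y ∈ K, (g : G) * (y : X) * (g : G)⁻¹ ∈ S := fun y hy => by
    have : g * y * g⁻¹ ∈ (R : Subgroup X) := by
      rw [← hg, Sylow.coe_subgroup_smul]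
      exact ⟨y, hR' hy, rfl⟩
    exact mem_subgroupOf.1 (hRS this)
  have hinvol : ∀ d ∈ ([3, 4, 7] : List (Fin 8)), (g : G) * D d * (g : G)⁻¹ ∉ H.Q1 := by
    intro d hdd hq
    obtain ⟨hne, hd0⟩ := elem_tables.2.2.2 d hdd
    have h2 : (g : G) * D d * (g : G)⁻¹ * ((g : G) * D d * (g : G)⁻¹) = 1 := by
      calc _ = (g : G) * (D d * D d) * (g : G)⁻¹ := by group
        _ = 1 := by rw [h.sq, mul_one, mul_inv_cancel]
    have hgz := hzX.1 g.2
    rcases Q1_sq hq with e | e | e
    · rw [conj_eq_one_iff] at e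
      have := h.orderOf_flip hd0
      rw [e, orderOf_one] at this
      omega
    · rw [mul_inv_eq_iff_eq_mul, ← hgz] at e
      exact hne ((h.ind_flip d).unique (mul_left_cancel e ▸ h.named.1))
    · exact S_ne_one (e.symm.trans h2)
  have h7 : (g : G) * D 7 * (g : G)⁻¹ =
      (g : G) * D 3 * (g : G)⁻¹ * ((g : G) * D 4 * (g : G)⁻¹) := by
    rw [show D 7 = D 3 * D 4 by rw [h.mul, elem_tables.2.2.1]]
    group
  rcases hconj a (subset_closure (by simp)) with h3 | h3
  · exact hinvol 3 (by decide) h3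
  rcases hconj b (subset_closure (by simp)) with h4 | h4
  · exact hinvol 4 (by decide) h4
  refine hinvol 7 (by decide) ?_
  rw [h7, show (g : G) * D 3 * (g : G)⁻¹ * ((g : G) * D 4 * (g : G)⁻¹) =
      (g : G) * D 3 * (g : G)⁻¹ * D 7 * (D 7 * ((g : G) * D 4 * (g : G)⁻¹ * D 7) * D 7) by
    simp only [← mul_assoc]
    rw [mul_assoc ((g : G) * D 3 * (g : G)⁻¹) (D 7) (D 7), h.sq, mul_one,
      mul_assoc _ (D 7) (D 7), h.sq, mul_one]]
  exact mul_mem h3 (hjQ _ h4)

/-- If the basis vector has a small centralizer, the conjugate quaternion groups commute. -/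
theorem Core.Q2_le (hC : H.Core D O) (h9 : O ⊓ centralizer ({H.emb 9} : Set G) ≤ zpowers (H.S 1)) :
    H.Q2 D = O := by
  have hQz : zpowers (H.S 1) ≤ H.Q2 D := zpowers_le.2 (hC.flips.mem_Q2.2 (by
    rw [hC.flips.four_z.1, mul_assoc, hC.flips.sq, mul_one]; exact S_mem_Q1))
  rcases hC.part_snd with h22 | h22
  · refine absurd (hC.le_of_parts fun v hv => ?_) hC.not_le
    simp only [List.mem_cons, List.not_mem_nil, or_false] at hv
    rcases hv with rfl | rfl | rfl | rfl
    · exact hC.part_x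
    · exact h22
    · exact h9
    · exact hC.part_four
  · refine le_antisymm h22 (hC.le_of_parts fun v hv => ?_)
    simp only [List.mem_cons, List.not_mem_nil, or_false] at hv
    rcases hv with rfl | rfl | rfl | rfl
    · exact hC.part_x.trans hQz
    · intro g hg
      refine hC.flips.mem_Q2.2 (mem_Q1_of_coprime ?_ ?_ ?_)
      · have h22' : app (mono 4 0) 22 = (13 : Fin 27) := plane_tables.2.2.2.2.1
        have := congrArg (fun y => D 4 * y * D 4) (mem_centralizer_singleton_iff.1 hg.2)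
        rw [show H.x = D 4 * H.emb 22 * D 4 by rw [hC.flips.four_emb, h22', Hyp.x]]
        have key : ∀ p q : G, D 4 * p * D 4 * (D 4 * q * D 4) = D 4 * (p * q) * D 4 := fun p q => by
          simp only [← mul_assoc]
          rw [mul_assoc (D 4 * p) (D 4) (D 4), hC.flips.sq, mul_one]
        rw [key, key]
        exact this
      · exact (((show Commute (D 4) (H.S 1) from hC.flips.four_z.1).mul_left
          (show Commute g (H.S 1) from hC.comm_z hg.1)).mul_left hC.flips.four_z.1).eq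
      · rw [show D 4 * g * D 4 = MulAut.conj (D 4) g by rw [MulAut.conj_apply, hC.flips.inv],
          MulEquiv.orderOf_eq]
        exact hC.coprime hg.1
    · exact h9.trans hQz
    · exact hC.part_four.trans hQz

end Hyp

end CfsgLib.PSpFourRec
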