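import Cfsg.Agent.PSpFourThreeCent.Param
import Cfsg.Agent.ThreeSymNine.Mat

/-!
# Coordinates in the group of shape `3^{1+2}.SL₂(3)`

`tE` parametrises an elementary abelian subgroup of order 27 with `(1,1,1)` going to the centre,
`tS` a complement permuting the three coordinates.
-/

set_option autoImplicit false
set_option maxRecDepth 100000
set_option synthInstance.maxSize 4000
set_option synthInstance.maxHeartbeats 400000

namespace CfsgLib.PSpFourRec

open CfsgLib.AltNine CfsgLib.ThreeSymNine CfsgLib.PSpFourThree

attribute [local instance 10000] List.decidableBAll List.decidableBEx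

/-- A coordinate modulo three. -/
def zd (v : Fin 27) (i : Fin 3) : ZMod 3 := ((dig v i).1 : ZMod 3)

/-- A power of the transvection. -/
def trp (k : ZMod 3) : S23 := ⟨!![1, k; 0, 1], by revert k; decide +kernel⟩

/-- The elementary abelian subgroup. -/
def tE (v : Fin 27) : T :=
  ((![zd v 1 + 2 * zd v 2, 0], 2 * zd v 1 + 2 * zd v 2), trp (2 * (zd v 0 + zd v 1 + zd v 2)))

/-- The Heisenberg parts of the block permutations. -/
def sPart (a : Fin 6) : H := (![0, ![0, 1, 0, 2, 1, 2] a], 0)

/-- The linear parts of the block permutations. -/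
def sLin (a : Fin 6) : S23 := if a = 1 ∨ a = 2 ∨ a = 3 then negOne else 1

/-- The block permutations. -/
def tS (a : Fin 6) : T := (sPart a, sLin a)

/-- The central element of order three. -/
def tz : T := ((0, 1), 1)

/-- The identity. -/
def t1 : T := ((0, 0), 1)

theorem tE_add : ∀ u v : Fin 27, tE (av u v) = tmul (tE u) (tE v) := by decide +kernel

theorem tE_inj : ∀ u v : Fin 27, tE u = tE v → u = v := by decide +kernel

theorem tE_mid : tE 13 = tz ∧ tE 0 = t1 ∧ tS 0 = t1 := by decide +kernel

theorem tS_mul : ∀ a b : Fin 6, tmul (tS a) (tS b) = tS (pm a b) := by decide +kernel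

theorem tS_act : ∀ (a : Fin 6) (v : Fin 27), tmul (tS a) (tE v) = tmul (tE (pa a v)) (tS a) := by
  decide +kernel

theorem tES_one : ∀ (v : Fin 27) (a : Fin 6), tmul (tE v) (tS a) = t1 → v = 0 ∧ a = 0 := by
  decide +kernel

/-- An element commuting with the three basis elements is one of them. -/
theorem t_cent : ∀ (g : S23) (h : H), g * trp 2 = trp 2 * g → tmul (h, g) (tE 3) = tmul (tE 3) (h, g) →
    tmul (h, g) (tE 1) = tmul (tE 1) (h, g) → ∃ v, (h, g) = tE v := by
  decide +kernel

/-- The linear parts normalizing the transvection group. -/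
theorem lin_norm : ∀ g : S23, (∃ k, g * trp 2 = trp k * g) →
    ∃ (v : Fin 27) (a : Fin 6), (tmul (tE v) (tS a)).2 = g := by
  decide +kernel

/-- The Heisenberg part. -/
theorem heis_cover : ∀ h : H, ∃ (v : Fin 27) (a : Fin 6), (h, (1 : S23)) = tmul (tE v) (tS a) := by
  decide +kernel

/-- The abelianisation. -/
def chi (g : S23) : ZMod 3 :=
  if g * g * g * g = 1 then 0 else if (∃ A : S23, A * trp 2 = g * g * g * g * A) then 1 else 2

theorem chi_mul : ∀ g g' : S23, chi (g * g') = chi g + chi g' := by decide +kernel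

theorem chi_tE : ∀ v : Fin 27, chi (tE v).2 = zd v 0 + zd v 1 + zd v 2 := by decide +kernel

theorem chi_tS : ∀ a : Fin 6, chi (tS a).2 = 0 := by decide +kernel

end CfsgLib.PSpFourRec
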