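import Cfsg.Agent.PSpFourRec.RealNormalLocal
import Cfsg.Agent.PSpFourRec.CentInvol
import Cfsg.Agent.Solvable.Fitting

/-!
# Signs `±1`: the centralizer of the transposition lies in the normalizer of the centre, and the
transposition is isolated
-/

set_option autoImplicit false
set_option maxRecDepth 100000
set_option linter.style.haveILetI false
set_option linter.unusedSectionVars false
set_option synthInstance.maxSize 4000
set_option synthInstance.maxHeartbeats 400000

namespace CfsgLib.PSpFourRec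

open CfsgLib.AltNine CfsgLib.PSpFourThree Subgroup
open CfsgLib.ThreeSymNine (Mat app mm pmat dmat mono pa pm pinv dig sm nv_nv pa_table app_pmat
  app_one ext_app)

attribute [local instance 10000] List.decidableBAll List.decidableBEx

universe u

namespace RealNormal

theorem swap_data : (Finset.univ.filter fun v => app (pmat 1) v = v).card = 9 ∧
    app (pmat 1) 9 = 9 ∧ (9 : Fin 27) ≠ 0 ∧ (9 : Fin 27) ≠ 13 ∧ (9 : Fin 27) ≠ 26 ∧
    pm 1 1 = 0 ∧ mm (mono 7 0) (pmat 1) = mm (pmat 1) (mono 7 0) ∧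
    (∀ v, app (mono 7 0) v = nv v) ∧ tS 1 ≠ t1 := by decide +kernel

theorem swap_comm : ∀ d ∈ ([0, 7] : List (Fin 8)), ∀ a : Fin 6,
    (∀ v, app (mono d a) (app (pmat 1) v) = app (pmat 1) (app (mono d a) v)) →
    (∀ v, app (mono d a) (app (mono d a) (app (mono d a) (app (mono d a) v))) = v) ∧
    ((∀ v, app (pmat 1) v = v → app (mono d a) v = v) ∨
      ∀ v, app (pmat 1) v = v → app (mono d a) v = nv v) := by decide +kernel

theorem invol_cz : ∀ t : T, tmul t t = t1 → tmul t (tS 1) = tmul (tS 1) t → t = t1 ∨ t = tS 1 := by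
  decide +kernel

theorem heis_seven : ∀ h : PSpFourThree.H, h.1 ≠ 0 → ∃ (g : S23) (k : PSpFourThree.H),
    tmul (k, g) (h, 1) = tmul (tE 7) (k, g) := by decide +kernel

theorem heis_centre : ∀ h : PSpFourThree.H, h.1 = 0 → (h, (1 : S23)) = t1 ∨ (h, (1 : S23)) = tz ∨
    (h, (1 : S23)) = tmul tz tz := by decide +kernel

/-- A linear part moving the transvection group. -/
def w0 : S23 := ⟨!![0, 1; -1, 0], by decide +kernel⟩

theorem P_lin : ∀ (v : Fin 27) (a : Fin 6), a ∈ ([0, 4, 5] : List (Fin 6)) →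
    ∃ k, (tmul (tE v) (tS a)).2 = trp k := by decide +kernel

theorem trp_meet : ∀ k l : ZMod 3, w0 * trp k = trp l * w0 → trp k = 1 := by decide +kernel

theorem heis_noncomm : ∃ h k : PSpFourThree.H,
    tmul (h, 1) (k, (1 : S23)) ≠ tmul (k, 1) (h, 1) := by decide +kernel

theorem heis_lin : ∀ h k : PSpFourThree.H, (tmul (h, 1) (k, (1 : S23))).2 = 1 := by decide +kernel

theorem heis_three : ∀ h : PSpFourThree.H,
    tmul (h, (1 : S23)) (tmul (h, 1) (h, 1)) = t1 := by decide +kernel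

/-- Membership in a normalizer by mapping into. -/
theorem mem_norm {Y : Type*} [Group Y] [Finite Y] {X : Subgroup Y} {t : Y}
    (h : ∀ x ∈ X, t * x * t⁻¹ ∈ X) : t ∈ normalizer (X : Set Y) := by
  have he : X.map (MulAut.conj t).toMonoidHom = X := eq_of_le_of_card_ge (fun x hx => by
    obtain ⟨y, hy, rfl⟩ := hx
    exact h y hy) (card_map_of_injective (MulAut.conj t).injective).ge
  refine mem_normalizer_iff.2 fun x => ⟨h x, fun hx => ?_⟩
  rw [← he] at hx
  obtain ⟨w, hw, e⟩ := hx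
  rwa [← mul_left_cancel (mul_right_cancel (show t * w * t⁻¹ = t * x * t⁻¹ from e))]

end RealNormal

namespace Hyp

open RealNormal

variable {G : Type u} [Group G] [Finite G] {H : Hyp G}

theorem S_one_sq (H : Hyp G) : H.S 1 * H.S 1 = 1 := by rw [H.S_mul, swap_data.2.2.2.2.2.1, H.S_zero]

theorem S_one_ne (H : Hyp G) : H.S 1 ≠ 1 := fun h =>
  swap_data.2.2.2.2.2.2.2.2 (H.par_inj (h.trans H.par_one.symm))

theorem Signs.sylow_swap (hs : H.Signs [0, 7]) :
    ∃ Q : Sylow 3 (centralizer {H.S 1}),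
      (Q : Subgroup (centralizer {H.S 1})) = (H.Fix (H.S 1)).subgroupOf (centralizer {H.S 1}) ∧
      ∀ n ∈ normalizer ((Q : Subgroup (centralizer {H.S 1})) : Set (centralizer {H.S 1})),
        (n : G) ∈ H.N := by
  refine H.sylow_centralizer (H.induces_S 1)
    ⟨9, swap_data.2.1, hs.C_le_N_real swap_data.2.2.1 swap_data.2.2.2.1 swap_data.2.2.2.2.1⟩ ?_
  intro M hM hc
  obtain ⟨d, hd, a, rfl⟩ := (hs M).1 hM
  exact (swap_comm d hd a hc).1

/-- An element commuting with the transposition and inverting the elementary abelian group. -/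
theorem Signs.exists_inverter (hs : H.Signs [0, 7]) :
    ∃ n : G, n * H.S 1 = H.S 1 * n ∧ H.Induces n (mono 7 0) := by
  obtain ⟨i, hi⟩ : H.W (mono 7 0) := hs.mem (by simp) 0
  obtain ⟨z, hz, hzi⟩ : ∃ z, z = H.S 1 ∧ H.Induces z (pmat 1) := ⟨_, rfl, H.induces_S 1⟩
  have hz2 : z * z = 1 := hz ▸ H.S_one_sq
  have hzinv : z⁻¹ = z := inv_eq_of_mul_eq_one_right hz2
  set j := i⁻¹ * (z * i * z) with hjdef
  have hi' : H.Induces (z * i * z) (mono 7 0) := fun v => by
    rw [(hzi.mul hi).comp hzi, hzi.app_mm hi, swap_data.2.2.2.2.2.2.2.1, swap_data.2.2.2.2.2.2.2.1,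
      app_pmat, app_pmat]
    have : ∀ v, pa 1 (nv (pa 1 v)) = nv v := by decide +kernel
    rw [this v]
  have hjJ : j ∈ H.J := hi'.mul_inv_mem hi
  have hzj : z * j * z = j⁻¹ := by
    rw [hjdef]
    calc z * (i⁻¹ * (z * i * z)) * z = z * i⁻¹ * z * i * (z * z) := by group
      _ = z * i⁻¹ * z * i := by rw [hz2, mul_one]
      _ = _ := by rw [mul_inv_rev, inv_inv, mul_inv_rev, mul_inv_rev, hzinv]; group
  have hj3 : j * j * j = 1 := by rw [← pow_three']; exact H.J_cube hjJ
  refine ⟨i * (j * j), ?_, fun v => ?_⟩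
  · rw [← hz]
    have e1 : z * i * z = i * j := by rw [hjdef, mul_inv_cancel_left]
    have e2 : z * (i * (j * j)) * z = i * (j * j) := by
      calc z * (i * (j * j)) * z = z * i * (z * z) * j * (z * z) * j * z := by rw [hz2]; group
        _ = z * i * z * (z * j * z) * (z * j * z) := by group
        _ = i * j * j⁻¹ * j⁻¹ := by rw [e1, hzj]
        _ = i * (j * j * j) * j⁻¹ := by rw [hj3]; group
        _ = i * (j * j) := by group
    calc i * (j * j) * z = z * (i * (j * j)) * z * z := by rw [e2]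
      _ = z * (i * (j * j)) * (z * z) := by group
      _ = _ := by rw [hz2, mul_one]
  · have hjj : (j * j) * H.emb v * (j * j)⁻¹ = H.emb v := by
      rw [H.J_comm (mul_mem hjJ hjJ) (H.emb_mem v), mul_inv_cancel_right]
    calc i * (j * j) * H.emb v * (i * (j * j))⁻¹ = i * ((j * j) * H.emb v * (j * j)⁻¹) * i⁻¹ := by
          group
      _ = _ := by rw [hjj, hi v]

/-- The centralizer of the transposition normalizes the centre. -/
theorem Signs.centralizer_swap_le (hs : H.Signs [0, 7]) :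
    centralizer ({H.S 1} : Set G) ≤ H.Hn := by
  classical
  haveI : Fact (Nat.Prime 3) := ⟨Nat.prime_three⟩
  set C := centralizer ({H.S 1} : Set G) with hCdef
  have hT := H.induces_S 1
  obtain ⟨Q, hQ, hQN⟩ := hs.sylow_swap
  have hQmem : ∀ d : C, d ∈ (Q : Subgroup C) ↔ (d : G) ∈ H.Fix (H.S 1) := fun d => by
    rw [hQ]; exact mem_subgroupOf
  set O := Cfsg.pPrimeCore 3 C with hOdef
  haveI : O.Normal := CfsgLib.Solvable.pPrimeCore_normal 3
  have hOc : (Nat.card O).Coprime 3 := CfsgLib.Solvable.coprime_card_pPrimeCore 3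
  have hFix : H.Fix (H.S 1) ≤ C := inf_le_right
  have hOle : O.map C.subtype ≤ H.Hn := by
    refine CfsgLib.Signalizer.le_of_forall_centralizer (p := 3) (H.isElementaryAbelian_Fix (H.S 1))
      le_rfl (by rw [H.card_Fix hT, swap_data.1]; norm_num) ?_ ?_ fun e he he1 r hr => ?_
    · intro d hd
      refine mem_normalizer_iff.2 fun y => ⟨?_, ?_⟩
      · rintro ⟨w, hw, rfl⟩
        exact ⟨_, (inferInstance : O.Normal).conj_mem w hw ⟨d, hFix hd⟩, rfl⟩
      · rintro ⟨w, hw, he⟩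
        refine ⟨_, (inferInstance : O.Normal).conj_mem w hw (⟨d, hFix hd⟩⁻¹), ?_⟩
        show d⁻¹ * (w : G) * d⁻¹⁻¹ = y
        rw [show (w : G) = d * y * d⁻¹ from he]
        group
    · rw [card_map_of_injective C.subtype_injective]
      exact Nat.prime_three.coprime_iff_not_dvd.1 hOc.symm
    · obtain ⟨hrR, hre⟩ := hr
      obtain ⟨v, -, rfl⟩ := (H.mem_Fix hT).1 he
      exact hs.cent_le_Hn (fun h => he1 (by rw [h, H.emb_zero]))
        (mem_centralizer_singleton_iff.1 hre)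
  set f := QuotientGroup.mk' O with hfdef
  have hf : Function.Surjective f := QuotientGroup.mk'_surjective O
  set Qb := Q.mapSurjective hf with hQbdef
  have hQb : (Qb : Subgroup (C ⧸ O)) = (Q : Subgroup C).map f := Q.coe_mapSurjective hf
  have hQ3 : ∀ d ∈ (Q : Subgroup C), d ^ 3 = 1 := fun d hd =>
    Subtype.ext (H.J_cube ((hQmem d).1 hd).1)
  have hQc : ∀ a ∈ (Q : Subgroup C), ∀ b ∈ (Q : Subgroup C), a * b = b * a := fun a ha b hb =>
    Subtype.ext (H.J_comm ((hQmem a).1 ha).1 ((hQmem b).1 hb).1)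
  -- lifting the normalizer
  set K := ((Q : Subgroup C).map f).comap f with hKdef
  have hQK : (Q : Subgroup C) ≤ K := fun q hq => ⟨q, hq, rfl⟩
  have hKle : ∀ k ∈ K, (k : G) ∈ H.Hn := by
    rintro k ⟨q, hq, hqk⟩
    have ho : q⁻¹ * k ∈ O := QuotientGroup.eq.1 hqk
    have h1 : ((q⁻¹ * k : C) : G) ∈ H.Hn := hOle ⟨_, ho, rfl⟩
    have h2 : (q : G) ∈ H.Hn := hs.N_le_Hn (H.J_le_N ((hQmem q).1 hq).1)
    simpa using mul_mem h2 h1
  have hlift : ∀ g : C, f g ∈ normalizer (((Q : Subgroup C).map f : Subgroup (C ⧸ O)) : Set (C ⧸ O)) →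
      ∃ k ∈ K, k * g ∈ normalizer ((Q : Subgroup C) : Set C) := by
    intro g hg
    have hgQK : ((g • Q : Sylow 3 C) : Subgroup C) ≤ K := by
      rw [Sylow.coe_subgroup_smul]
      rintro _ ⟨q, hq, rfl⟩
      show f (g * q * g⁻¹) ∈ (Q : Subgroup C).map f
      rw [map_mul, map_mul, map_inv]
      exact (mem_normalizer_iff.1 hg _).1 ⟨q, hq, rfl⟩
    obtain ⟨k, hk⟩ := MulAction.exists_smul_eq K ((g • Q).subtype hgQK) (Q.subtype hQK)
    refine ⟨k, k.2, mem_norm fun y hy => ?_⟩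
    have hy' : g * y * g⁻¹ ∈ ((g • Q : Sylow 3 C) : Subgroup C) := by
      rw [Sylow.coe_subgroup_smul]
      exact ⟨y, hy, rfl⟩
    have h1 : k * ⟨g * y * g⁻¹, hgQK hy'⟩ * k⁻¹ ∈ (Q.subtype hQK : Subgroup K) := by
      rw [← hk, Sylow.coe_subgroup_smul]
      exact ⟨⟨g * y * g⁻¹, hgQK hy'⟩, mem_subgroupOf.2 hy', rfl⟩
    have h2 : (k : C) * (g * y * g⁻¹) * (k : C)⁻¹ ∈ (Q : Subgroup C) := h1
    rwa [show (k : C) * g * y * ((k : C) * g)⁻¹ = (k : C) * (g * y * g⁻¹) * (k : C)⁻¹ by group]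
  have hinj : Set.InjOn f ((Q : Subgroup C) : Set C) := by
    intro a ha b hb hab
    have ho : a⁻¹ * b ∈ O := QuotientGroup.eq.1 hab
    exact inv_mul_eq_one.1 (orderOf_eq_one_iff.1 (Nat.eq_one_of_dvd_coprimes hOc
      (orderOf_dvd_natCard _ ho) (orderOf_dvd_of_pow_eq_one
        (hQ3 _ (mul_mem (inv_mem ha) hb)))))
  have hnorm := CfsgLib.ThreeSymNine.inverted_normal Qb ?_ ?_ ?_ ?_ ?_ ?_
  · intro g hg
    have hgn : f ⟨g, hg⟩ ∈ normalizer (((Q : Subgroup C).map f : Subgroup (C ⧸ O)) : Set (C ⧸ O)) := by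
      rw [← hQb, normalizer_eq_top_iff.2 hnorm]
      exact mem_top _
    obtain ⟨k, hk, hkg⟩ := hlift ⟨g, hg⟩ hgn
    have h1 : ((k * ⟨g, hg⟩ : C) : G) ∈ H.Hn := hs.N_le_Hn (hQN _ hkg)
    simpa using mul_mem (inv_mem (hKle k hk)) h1
  · rw [hQb]
    refine (Nat.card_image_of_injOn hinj : _).trans ?_
    rw [← swap_data.1, ← H.card_Fix hT]
    show Nat.card ↥(Q : Subgroup C) = _
    rw [hQ, Nat.card_congr (subgroupOfEquivOfLe hFix).toEquiv]
  · rw [hQb]; rintro _ ⟨a, ha, rfl⟩ _ ⟨b, hb, rfl⟩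
    rw [← map_mul, ← map_mul, hQc a ha b hb]
  · rw [hQb]; rintro _ ⟨a, ha, rfl⟩
    rw [← map_pow, hQ3 a ha, map_one]
  · intro n hn
    rw [hQb] at hn
    obtain ⟨g, rfl⟩ := hf n
    obtain ⟨k, hk, hkg⟩ := hlift g hn
    obtain ⟨q, hq, hqk⟩ := hk
    obtain ⟨M, hM⟩ := H.exists_induces_of_mem (hQN _ hkg)
    obtain ⟨d, hd, a, rfl⟩ := (hs M).1 ⟨_, hM⟩
    have hcomm : ∀ v, app (mono d a) (app (pmat 1) v) = app (pmat 1) (app (mono d a) v) := fun v =>
      H.emb_inj (by
        rw [← hM.comp hT, ← hT.comp hM, mem_centralizer_singleton_iff.1 (k * g).2])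
    have hg : f g = (f q)⁻¹ * f (k * g) := by rw [map_mul, hqk, inv_mul_cancel_left]
    have hcon : ∀ y ∈ (Q : Subgroup C),
        f g * f y * (f g)⁻¹ = f ((k * g) * y * (k * g)⁻¹) := by
      intro y hy
      have hy' : (k * g) * y * (k * g)⁻¹ ∈ (Q : Subgroup C) := (mem_normalizer_iff.1 hkg y).1 hy
      rw [hg, ← map_inv, ← map_mul, ← map_inv, ← map_mul, ← map_mul]
      refine congrArg f ?_
      calc q⁻¹ * (k * g) * y * (q⁻¹ * (k * g))⁻¹ = q⁻¹ * ((k * g) * y * (k * g)⁻¹) * q := by group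
        _ = _ := by rw [mul_assoc, hQc _ hy' _ hq, inv_mul_cancel_left]
    rw [hQb]
    rcases (swap_comm d hd a hcomm).2 with h | h
    · refine Or.inl (mem_centralizer_iff.2 ?_)
      rintro _ ⟨y, hy, rfl⟩
      refine (mul_inv_eq_iff_eq_mul.1 ((hcon y hy).trans ?_)).symm
      obtain ⟨v, hv, hyv⟩ := (H.mem_Fix hT).1 ((hQmem y).1 hy)
      refine congrArg f (Subtype.ext ?_)
      show ((k * g : C) : G) * (y : G) * ((k * g : C) : G)⁻¹ = (y : G)
      rw [hyv, hM, h v hv]
    · refine Or.inr ?_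
      rintro _ ⟨y, hy, rfl⟩
      refine (hcon y hy).trans ?_
      obtain ⟨v, hv, hyv⟩ := (H.mem_Fix hT).1 ((hQmem y).1 hy)
      rw [← map_inv]
      refine congrArg f (Subtype.ext ?_)
      show ((k * g : C) : G) * (y : G) * ((k * g : C) : G)⁻¹ = (y : G)⁻¹
      rw [hyv, hM, h v hv, H.emb_nv]
  · obtain ⟨n, hnz, hn⟩ := hs.exists_inverter
    have hnC : n ∈ C := mem_centralizer_singleton_iff.2 hnz
    have hconj : ∀ y ∈ (Q : Subgroup C), (⟨n, hnC⟩ : C) * y * (⟨n, hnC⟩ : C)⁻¹ = y⁻¹ := by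
      intro y hy
      obtain ⟨v, -, hyv⟩ := (H.mem_Fix hT).1 ((hQmem y).1 hy)
      refine Subtype.ext ?_
      show n * (y : G) * n⁻¹ = (y : G)⁻¹
      rw [hyv, hn, swap_data.2.2.2.2.2.2.2.1, H.emb_nv]
    refine ⟨f ⟨n, hnC⟩, ?_, ?_⟩
    · rw [hQb]
      exact le_normalizer_map f ⟨⟨n, hnC⟩, mem_norm fun y hy => by
        rw [hconj y hy]; exact inv_mem hy, rfl⟩
    · rw [hQb]; rintro _ ⟨y, hy, rfl⟩
      rw [← map_inv, ← map_mul, ← map_mul, hconj y hy, map_inv]
  · intro R hR hcop a _ r hr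
    have h1 : r = 1 := mem_bot.1 (CfsgLib.Fitting.pPrimeCore_quotient_eq_bot (G := C) 3 ▸
      CfsgLib.Solvable.le_pPrimeCore 3 hR hcop hr)
    simp [h1]

/-- An involution inverting the centre is conjugate, by an element centralizing it, to one centralizing the seventh vector. -/
theorem Signs.exists_seven (_hs : H.Signs [0, 7]) {t : G} (ht : t * t = 1)
    (htx : t * H.x * t⁻¹ = H.x⁻¹) :
    ∃ c : G, H.emb 7 * (c * t * c⁻¹) = (c * t * c⁻¹) * H.emb 7 := by
  classical
  haveI : Fact (Nat.Prime 3) := ⟨Nat.prime_three⟩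
  have hti : t⁻¹ = t := inv_eq_of_mul_eq_one_right ht
  -- the Heisenberg part
  let R : Subgroup G :=
    { carrier := {g | ∃ h, H.par (h, 1) = g}
      one_mem' := ⟨((0, 0) : PSpFourThree.H), H.par_one⟩
      mul_mem' := by
        rintro _ _ ⟨h, rfl⟩ ⟨k, rfl⟩
        exact ⟨(tmul (h, 1) (k, (1 : S23))).1, by
          rw [← H.par_mul]; exact congrArg H.par (Prod.ext rfl (heis_lin h k).symm)⟩
      inv_mem' := by
        rintro _ ⟨h, rfl⟩
        refine ⟨(tmul (h, 1) (h, (1 : S23))).1, (inv_eq_of_mul_eq_one_right ?_).symm⟩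
        rw [← H.par_mul, show ((tmul (h, 1) (h, (1 : S23))).1, (1 : S23)) =
          tmul (h, 1) (h, 1) from Prod.ext rfl (heis_lin h h).symm, heis_three, H.par_one] }
  have hRC : R ≤ centralizer ({H.x} : Set G) := by
    rintro _ ⟨h, rfl⟩; exact H.par_mem_centralizer _
  have hR3 : ∀ y ∈ R, y ^ 3 = 1 := by
    rintro _ ⟨h, rfl⟩
    rw [H.cube_par, heis_three, H.par_one]
  have hnormC : ∀ c : G, c * H.x = H.x * c → ∀ y ∈ R, c * y * c⁻¹ ∈ R := by
    rintro c hc _ ⟨h, rfl⟩
    obtain ⟨⟨k, s⟩, rfl⟩ := H.commute_x_iff.1 hc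
    obtain ⟨⟨k', s'⟩, h'⟩ := H.commute_x_iff.1 (mem_centralizer_singleton_iff.1
      (mul_mem (mul_mem (H.par_mem_centralizer (k, s)) (H.par_mem_centralizer (h, 1)))
        (inv_mem (H.par_mem_centralizer (k, s)))))
    have e : tmul (k', s') (k, s) = tmul (k, s) (h, 1) := H.par_inj (by
      rw [H.par_mul, H.par_mul, h']; group)
    have e2 : s' * s = s * 1 := congrArg Prod.snd e
    rw [mul_one, mul_eq_right] at e2
    exact ⟨k', by rw [← h', e2]⟩
  obtain ⟨S, hS⟩ := H.sylow_exists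
  have htc : ∀ c : G, c * H.x = H.x * c → t * c * t * H.x = H.x * (t * c * t) := by
    intro c hc
    have e : t * H.x * t = H.x⁻¹ := by rw [← htx, hti]
    have e' : t * H.x⁻¹ * t = H.x := by
      rw [← e]
      calc t * (t * H.x * t) * t = (t * t) * H.x * (t * t) := by group
        _ = _ := by rw [ht]; group
    calc t * c * t * H.x = t * c * (t * H.x * t) * t := by
          rw [show t * c * (t * H.x * t) * t = t * c * t * H.x * (t * t) by group, ht, mul_one]
      _ = t * (c * H.x⁻¹) * t := by rw [e]; group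
      _ = t * (H.x⁻¹ * c) * t := by rw [(show Commute c H.x from hc).inv_right.eq]
      _ = (t * H.x⁻¹ * t) * (t * c * t) := by
          rw [show t * H.x⁻¹ * t * (t * c * t) = t * H.x⁻¹ * (t * t) * c * t by group, ht]; group
      _ = _ := by rw [e']
  have hsend : ∀ y ∈ R, t * y * t ∈ R := by
    set R' := R.map (MulAut.conj t).toMonoidHom
    have hR'P : R' ≤ H.P := by
      have hp : IsPGroup 3 ↥((S : Subgroup G) ⊔ R') := by
        refine S.2.to_sup_of_normal_right' (IsPGroup.map (fun y => ⟨1, Subtype.ext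
          (by rw [pow_one]; exact hR3 y y.2)⟩) _) fun g hg => mem_normalizer_iff.2 ?_
        have key : ∀ g, g * H.x = H.x * g → ∀ y ∈ R', g * y * g⁻¹ ∈ R' := by
          rintro g hg _ ⟨y, hy, rfl⟩
          refine ⟨_, hnormC _ (htc g hg) y hy, ?_⟩
          show t * (t * g * t * y * (t * g * t)⁻¹) * t⁻¹ = g * (t * y * t⁻¹) * g⁻¹
          calc t * (t * g * t * y * (t * g * t)⁻¹) * t⁻¹
              = (t * t) * g * (t * y * t⁻¹) * g⁻¹ * (t * t)⁻¹ := by group
            _ = _ := by rw [ht]; group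
        rw [hS] at hg
        have hgx := mem_centralizer_singleton_iff.1 (H.P_le hg)
        intro y
        refine ⟨key g hgx y, fun hy => ?_⟩
        have := key g⁻¹ (show Commute g H.x from hgx).inv_left.eq _ hy
        simpa [mul_assoc] using this
      exact le_sup_right.trans (hS ▸ (S.3 hp le_sup_left).le)
    intro y hy
    have hyR' : t * y * t ∈ R' := ⟨y, hy, show t * y * t⁻¹ = _ by rw [hti]⟩
    obtain ⟨v, a, ha, hva⟩ := hR'P hyR'
    obtain ⟨k, hk⟩ := P_lin v a ha
    have hw : H.par ((0, 0), w0) * H.x = H.x * H.par ((0, 0), w0) := H.commute_x_iff.2 ⟨_, rfl⟩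
    have hy2 : H.par ((0, 0), w0) * (t * y * t) * (H.par ((0, 0), w0))⁻¹ ∈ R' := by
      refine ⟨_, hnormC _ (htc _ hw) y hy, ?_⟩
      show t * (t * _ * t * y * (t * _ * t)⁻¹) * t⁻¹ = _
      rw [hti]
      calc t * (t * H.par ((0, 0), w0) * t * y * (t * H.par ((0, 0), w0) * t)⁻¹) * t
          = (t * t) * H.par ((0, 0), w0) * (t * y * t) * (t * t)⁻¹ * (H.par ((0, 0), w0))⁻¹ *
            (t⁻¹ * t) := by group
        _ = _ := by rw [ht]; group
    obtain ⟨v', a', ha', hva'⟩ := hR'P hy2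
    obtain ⟨l, hl⟩ := P_lin v' a' ha'
    rw [← H.par_t] at hva hva'
    rw [hva, mul_inv_eq_iff_eq_mul, ← H.par_mul, ← H.par_mul] at hva'
    have hlin := congrArg Prod.snd (H.par_inj hva')
    change w0 * (tmul (tE v) (tS a)).2 = (tmul (tE v') (tS a')).2 * w0 at hlin
    rw [hk, hl] at hlin
    refine ⟨(tmul (tE v) (tS a)).1, ?_⟩
    rw [hva]
    exact congrArg H.par (Prod.ext rfl (by rw [hk]; exact (trp_meet k l hlin).symm))
  by_contra hcon
  push Not at hcon
  let φ : R →* R :=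
    { toFun := fun y => ⟨t * y * t, hsend y y.2⟩
      map_one' := Subtype.ext (by simpa using ht)
      map_mul' := fun y z => Subtype.ext (by
        show t * ((y : G) * z) * t = t * y * t * (t * z * t)
        calc t * ((y : G) * z) * t = t * y * (t * t) * z * t := by rw [ht]; group
          _ = _ := by group) }
  have hfree : ∀ y : R, φ y = y → y = 1 := by
    rintro ⟨y, hy⟩ hfy
    have hfy' : t * y * t = y := congrArg Subtype.val hfy
    have hty : t * y = y * t := by
      calc t * y = t * y * (t * t) := by rw [ht, mul_one]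
        _ = t * y * t * t := by group
        _ = y * t := by rw [hfy']
    obtain ⟨h, rfl⟩ := hy
    by_cases h0 : h.1 = 0
    · have hsq : ∀ {u : G}, u ^ 3 = 1 → u = u⁻¹ → u = 1 := fun {u} h3 hu => by
        have : u * u = 1 := by conv_lhs => arg 2; rw [hu]
                               simp
        rwa [pow_succ, pow_two, this, one_mul] at h3
      refine Subtype.ext ?_
      have hxinv : t * H.x * t = H.x⁻¹ := by rw [← htx, hti]
      have hpz : H.par tz = H.x := congrArg H.par tE_mid.1.symm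
      rcases heis_centre h h0 with e | e | e
      · exact (congrArg H.par e).trans H.par_one
      · exfalso
        rw [e, hpz, hxinv] at hfy'
        exact (show (13 : Fin 27) ≠ 0 by decide +kernel)
          (H.emb_inj ((hsq (H.emb_cube 13) hfy'.symm).trans H.emb_zero.symm))
      · exfalso
        rw [e, H.par_mul, hpz] at hfy'
        have h2 : H.x * H.x = H.x⁻¹ :=
          (inv_eq_of_mul_eq_one_right (by rw [← pow_three]; exact H.emb_cube 13)).symm
        rw [h2] at hfy'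
        have : t * H.x⁻¹ * t = H.x := by
          rw [← hxinv]
          calc t * (t * H.x * t) * t = (t * t) * H.x * (t * t) := by group
            _ = _ := by rw [ht]; group
        rw [this] at hfy'
        exact (show (13 : Fin 27) ≠ 0 by decide +kernel)
          (H.emb_inj ((hsq (H.emb_cube 13) hfy').trans H.emb_zero.symm))
    · exfalso
      obtain ⟨g, k, hgk⟩ := heis_seven h h0
      have e1 : H.par (k, g) * H.par (h, 1) = H.emb 7 * H.par (k, g) := by
        have := congrArg H.par hgk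
        rwa [H.par_mul, H.par_mul] at this
      refine hcon (H.par (k, g)) ?_
      calc H.emb 7 * (H.par (k, g) * t * (H.par (k, g))⁻¹)
          = (H.emb 7 * H.par (k, g)) * t * (H.par (k, g))⁻¹ := by group
        _ = H.par (k, g) * (H.par (h, 1) * t) * (H.par (k, g))⁻¹ := by rw [← e1]; group
        _ = H.par (k, g) * t * (H.par (k, g))⁻¹ * (H.par (k, g) * H.par (h, 1) * (H.par (k, g))⁻¹) := by
            rw [← hty]; group
        _ = _ := by rw [e1, mul_inv_cancel_right]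
  have hinv : ⇑φ = (·⁻¹) := MonoidHom.FixedPointFree.coe_eq_inv_of_involutive
    (fun y hy => hfree y hy) fun y => Subtype.ext (by
      show t * (t * y * t) * t = y
      calc t * (t * (y : G) * t) * t = (t * t) * y * (t * t) := by group
        _ = _ := by rw [ht]; group)
  obtain ⟨h, k, hhk⟩ := heis_noncomm
  apply hhk
  apply H.par_inj
  rw [H.par_mul, H.par_mul]
  have := map_mul φ ⟨_, h, rfl⟩ ⟨_, k, rfl⟩
  rw [hinv] at this
  exact congrArg Subtype.val (inv_injective (this.trans (mul_inv_rev _ _).symm))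

/-- The transposition commutes with none of its other conjugates. -/
theorem Signs.isolated_swap (hs : H.Signs [0, 7]) : Cfsg.IsIsolatedInvolution (H.S 1) := by
  classical
  haveI : Fact (Nat.Prime 3) := ⟨Nat.prime_three⟩
  have hz2 := H.S_one_sq
  refine ⟨orderOf_eq_prime (by rw [pow_two]; exact hz2) H.S_one_ne, fun g hg => ?_⟩
  set t := g * H.S 1 * g⁻¹ with htdef
  have ht2 : t * t = 1 := by
    rw [htdef, show g * H.S 1 * g⁻¹ * (g * H.S 1 * g⁻¹) = g * (H.S 1 * H.S 1) * g⁻¹ by group, hz2]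
    group
  have ht1 : t ≠ 1 := fun h => H.S_one_ne (conj_eq_one_iff.1 h)
  have htC : t ∈ centralizer ({H.S 1} : Set G) := mem_centralizer_singleton_iff.2 hg.eq.symm
  have htn := hs.centralizer_swap_le htC
  obtain ⟨i, hi⟩ := mem_zpowers_iff.1 ((mem_normalizer_iff.1 htn H.x).1 (mem_zpowers _))
  have hcase : t * H.x * t⁻¹ = H.x ∨ t * H.x * t⁻¹ = H.x⁻¹ := by
    have hmem : t * H.x * t⁻¹ ∈ H.P := hi ▸ zpow_mem (H.J_le_P H.x_mem) i
    exact hs.conj_x_mem_P hmem
  rcases hcase with hc | hc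
  · obtain ⟨u, hu⟩ := H.commute_x_iff.1 (mul_inv_eq_iff_eq_mul.1 hc)
    rcases invol_cz u (H.par_inj (by rw [H.par_mul, hu, ht2, H.par_one]))
      (H.par_inj (by rw [H.par_mul, H.par_mul, hu]; exact hg.eq.symm)) with rfl | rfl
    · exact absurd (hu.symm.trans H.par_one) ht1
    · exact hu.symm
  exfalso
  obtain ⟨c, hc7⟩ := hs.exists_seven ht2 hc
  obtain ⟨m, hm⟩ : ∃ m, m = c * g := ⟨_, rfl⟩
  have ht' : c * t * c⁻¹ = m * H.S 1 * m⁻¹ := by rw [htdef, hm]; group
  rw [ht'] at hc7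
  have hT := H.induces_S 1
  obtain ⟨Q, hQ, -⟩ := hs.sylow_swap
  have h7C : m⁻¹ * H.emb 7 * m ∈ centralizer ({H.S 1} : Set G) := by
    refine mem_centralizer_singleton_iff.2 ?_
    calc m⁻¹ * H.emb 7 * m * H.S 1 = m⁻¹ * (H.emb 7 * (m * H.S 1 * m⁻¹)) * m := by group
      _ = _ := by rw [hc7]; group
  obtain ⟨U, hU⟩ := (IsPGroup.of_card (n := 1) (by
    rw [Nat.card_zpowers, pow_one]
    refine orderOf_eq_prime (Subtype.ext ?_) fun h => ?_
    · show (m⁻¹ * H.emb 7 * m) ^ 3 = 1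
      rw [show m⁻¹ * H.emb 7 * m = MulAut.conj m⁻¹ (H.emb 7) by simp, ← map_pow, H.emb_cube, map_one]
    · have := congrArg Subtype.val h
      simp only [OneMemClass.coe_one] at this
      have h1 : H.emb 7 = 1 := by
        calc H.emb 7 = m * (m⁻¹ * H.emb 7 * m) * m⁻¹ := by group
          _ = 1 := by rw [this]; group
      exact (show (7 : Fin 27) ≠ 0 by decide +kernel) (H.emb_inj (h1.trans H.emb_zero.symm))) :
    IsPGroup 3 (zpowers (⟨_, h7C⟩ : centralizer ({H.S 1} : Set G)))).exists_le_sylow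
  obtain ⟨k, hk⟩ := MulAction.exists_smul_eq (centralizer ({H.S 1} : Set G)) U Q
  have hkd : (k : G) * (m⁻¹ * H.emb 7 * m) * (k : G)⁻¹ ∈ H.Fix (H.S 1) := by
    have : k * ⟨_, h7C⟩ * k⁻¹ ∈ (Q : Subgroup (centralizer ({H.S 1} : Set G))) := by
      rw [← hk, Sylow.coe_subgroup_smul]
      exact ⟨_, hU (mem_zpowers _), rfl⟩
    rw [hQ] at this
    exact this
  obtain ⟨n, hn⟩ : ∃ n : G, n = (k : G) * m⁻¹ := ⟨_, rfl⟩
  have hn7 : n * H.emb 7 * n⁻¹ ∈ H.Fix (H.S 1) := by
    rwa [show n * H.emb 7 * n⁻¹ = (k : G) * (m⁻¹ * H.emb 7 * m) * (k : G)⁻¹ by rw [hn]; group]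
  have hnt : n * (m * H.S 1 * m⁻¹) * n⁻¹ = H.S 1 := by
    calc n * (m * H.S 1 * m⁻¹) * n⁻¹ = (k : G) * H.S 1 * (k : G)⁻¹ := by rw [hn]; group
      _ = _ := by rw [mem_centralizer_singleton_iff.1 k.2, mul_inv_cancel_right]
  set s := m * H.S 1 * m⁻¹ with hs'
  obtain ⟨M, hM⟩ := H.exists_induces_of_mem (hs.C_seven_le (H.mem_C.2 fun v hv => by
    rw [List.mem_singleton] at hv; rw [hv]; exact hc7.symm) : s ∈ H.N)
  have hs2 : s * s = 1 := by
    rw [hs', show m * H.S 1 * m⁻¹ * (m * H.S 1 * m⁻¹) = m * (H.S 1 * H.S 1) * m⁻¹ by group, hz2]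
    group
  have hMT : M = T7 := by
    have hst : H.Stab [7] M := hM.stab (H.mem_C.2 fun v hv => by
      rw [List.mem_singleton] at hv; rw [hv]; exact hc7.symm)
    refine (hs.stab_seven hst).resolve_left ?_
    rintro rfl
    have h3 := H.J_cube (H.mem_J_of_induces_one hM)
    rw [pow_succ, pow_two, hs2, one_mul] at h3
    exact H.S_one_ne (conj_eq_one_iff.1 (hs'.symm.trans h3))
  have himg : ∀ d : H.Fix (H.S 1), ∃ u : {u // app T7 u = u}, n⁻¹ * (d : G) * n = H.emb u := by
    intro d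
    set e := n⁻¹ * (d : G) * n with he
    have he7 : e * H.emb 7 = H.emb 7 * e := by
      have h' := H.J_comm d.2.1 hn7.1
      calc e * H.emb 7 = n⁻¹ * ((d : G) * (n * H.emb 7 * n⁻¹)) * n := by rw [he]; group
        _ = _ := by rw [h']; rw [he]; group
    have hes : e * s = s * e := by
      have h' : (d : G) * H.S 1 = H.S 1 * d := mem_centralizer_singleton_iff.1 d.2.2
      calc e * s = n⁻¹ * ((d : G) * (n * s * n⁻¹)) * n := by rw [he]; group
        _ = n⁻¹ * ((n * s * n⁻¹) * d) * n := by rw [hnt, h']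
        _ = _ := by rw [he]; group
    have he3 : e * e * e = 1 := by
      have h3 := H.J_cube d.2.1
      calc e * e * e = n⁻¹ * ((d : G) ^ 3) * n := by rw [he, pow_succ, pow_two]; group
        _ = _ := by rw [h3]; group
    have heC : e ∈ H.C [7] := H.mem_C.2 fun v hv => by
      rw [List.mem_singleton] at hv; rw [hv]; exact he7
    obtain ⟨M', hM'⟩ := H.exists_induces_of_mem (hs.C_seven_le heC)
    have heJ : e ∈ H.J := by
      refine H.mem_J_of_induces_one ?_
      rcases hs.stab_seven (hM'.stab heC) with rfl | rfl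
      · exact hM'
      · exfalso
        have h1 : H.Induces (e * e * e) (mm (mm T7 T7) T7) := (hM'.mul hM').mul hM'
        rw [he3] at h1
        have h2 := h1.unique (fun v => by rw [app_pmat, pa_table.1]; group : H.Induces 1 (pmat 0))
        exact seven_data.2.2.2.2.2.2.2.1
          ((show mm (mm T7 T7) T7 = T7 by decide +kernel).symm.trans h2)
    obtain ⟨u, hu⟩ := heJ
    refine ⟨⟨u, H.emb_inj ?_⟩, hu.symm⟩
    rw [← hMT, ← hM, hu, ← hes, mul_inv_cancel_right]
  choose F hF using himg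
  have hle := Nat.card_le_card_of_injective F fun a b h => by
    refine Subtype.ext (mul_left_cancel (mul_right_cancel (?_ : n⁻¹ * (a : G) * n = n⁻¹ * (b : G) * n)))
    rw [hF a, hF b, h]
  rw [H.card_Fix hT, swap_data.1, Nat.card_eq_fintype_card, Fintype.card_subtype,
    seven_data.2.2.2.2.2.2.2.2] at hle
  omega

end Hyp

end CfsgLib.PSpFourRec
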