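import Cfsg.Agent.PSpFourRec.Cent
import Cfsg.Agent.PSpFourRec.NonRealThree
import Cfsg.Agent.ThreeSymNine.InvSylow
import Mathlib.GroupTheory.FixedPointFree

/-!
# Signs `±1`: the centralizers of the members outside the centre, and the conjugates of the central element

The normalizer of the central subgroup of order three is denoted by `Hn`.
-/

set_option autoImplicit false
set_option maxRecDepth 100000
set_option linter.style.haveILetI false
set_option linter.unusedSectionVars false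
set_option synthInstance.maxSize 4000
set_option synthInstance.maxHeartbeats 400000

namespace CfsgLib.PSpFourRec

open CfsgLib.AltNine CfsgLib.PSpFourThree Subgroup
open CfsgLib.ThreeSymNine (Mat app mm pmat dmat mono pa pm pinv dig sm nv_nv pa_table app_pmat
  app_one ext_app)

attribute [local instance 10000] List.decidableBAll List.decidableBEx

universe u

namespace RealNormal

theorem stab_x : ∀ d ∈ ([0, 7] : List (Fin 8)), ∀ a : Fin 6,
    app (mono d a) 13 = 13 ∨ app (mono d a) 13 = 26 := by decide +kernel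

theorem to_x : ∀ d ∈ ([0, 7] : List (Fin 8)), ∀ a : Fin 6, ∀ v : Fin 27,
    (app (mono d a) v = 13 ∨ app (mono d a) v = 26) → v = 13 ∨ v = 26 := by decide +kernel

theorem reps : ∀ v : Fin 27, v = 0 ∨ v = 13 ∨ v = 26 ∨ ∃ d ∈ ([0, 7] : List (Fin 8)), ∃ a : Fin 6,
    ∃ r ∈ ([1, 4, 22, 7] : List (Fin 27)), app (mono d a) r = v := by decide +kernel

theorem refl_data : ∀ r ∈ ([1, 4, 22] : List (Fin 27)), ∃ (a : Fin 6) (q : Fin 27), q ≠ 0 ∧
    app (mono 0 a) r = r ∧ app (mono 0 a) q = nv q ∧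
    (∀ v, app (mono 0 a) (app (mono 0 a) v) = v) ∧
    (∀ d ∈ ([0, 7] : List (Fin 8)), ∀ b : Fin 6, app (mono d b) r = r →
      mono d b = pmat 0 ∨ mono d b = mono 0 a) ∧
    ∀ v, ∃ f k, app (mono 0 a) f = f ∧ v = av f (sm k q) := by decide +kernel

/-- The stabilizer of the seventh vector. -/
def T7 : Mat := mono 7 1

theorem seven_data : app T7 7 = 7 ∧ app T7 4 = nv 4 ∧ app T7 9 = nv 9 ∧
    (∀ d ∈ ([0, 7] : List (Fin 8)), ∀ b : Fin 6, app (mono d b) 7 = 7 →
      mono d b = pmat 0 ∨ mono d b = T7) ∧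
    (∀ a b : Fin 3, app T7 (av (sm a 4) (sm b 9)) = nv (av (sm a 4) (sm b 9))) ∧
    (∀ v, ∃ k a b, v = av (sm k 7) (av (sm a 4) (sm b 9))) ∧ mm T7 T7 = pmat 0 ∧ T7 ≠ pmat 0 ∧
    (Finset.univ.filter fun v => app T7 v = v).card = 3 := by decide +kernel

theorem nv_fix : ∀ q : Fin 27, nv q = q → q = 0 := by decide +kernel

theorem zp_cent : ∀ (v : Fin 27) (a : Fin 6), a ∈ ([0, 4, 5] : List (Fin 6)) →
    tmul (tmul (tE v) (tS a)) (tE 1) = tmul (tE 1) (tmul (tE v) (tS a)) →
    tmul (tmul (tE v) (tS a)) (tS 4) = tmul (tS 4) (tmul (tE v) (tS a)) →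
      a = 0 ∧ (v = 0 ∨ v = 13 ∨ v = 26) := by decide +kernel

end RealNormal

namespace Hyp

open RealNormal

variable {G : Type u} [Group G] [Finite G] (H : Hyp G)

/-- The normalizer of the central subgroup of order three. -/
def Hn : Subgroup G := normalizer (zpowers H.x : Set G)

theorem mem_Hn {g : G} (h : g * H.x * g⁻¹ = H.x ∨ g * H.x * g⁻¹ = H.x⁻¹) : g ∈ H.Hn := by
  have hle : (zpowers H.x).map (MulAut.conj g).toMonoidHom = zpowers H.x := by
    rw [MonoidHom.map_zpowers]
    show zpowers (g * H.x * g⁻¹) = zpowers H.x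
    rcases h with h | h
    · rw [h]
    · rw [h, zpowers_inv]
  refine mem_normalizer_iff.2 fun y => ?_
  constructor
  · intro hy
    rw [← hle]
    exact ⟨y, hy, rfl⟩
  · intro hy
    rw [← hle] at hy
    obtain ⟨w, hw, e⟩ := hy
    rwa [← mul_left_cancel (mul_right_cancel (show g * w * g⁻¹ = g * y * g⁻¹ from e))]

theorem cent_x_le_Hn : centralizer ({H.x} : Set G) ≤ H.Hn := fun g hg =>
  H.mem_Hn (Or.inl (by rw [mem_centralizer_singleton_iff.1 hg, mul_inv_cancel_right]))

theorem x_pm {w : Fin 27} (hw : w = 13 ∨ w = 26) : H.emb w = H.x ∨ H.emb w = H.x⁻¹ := by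
  rcases hw with rfl | rfl
  · exact Or.inl rfl
  · refine Or.inr ?_
    rw [show (26 : Fin 27) = nv 13 by decide +kernel, H.emb_nv]
    rfl

variable {H}

theorem Signs.N_le_Hn (hs : H.Signs [0, 7]) : H.N ≤ H.Hn := by
  intro g hg
  obtain ⟨M, hM⟩ := H.exists_induces_of_mem hg
  obtain ⟨d, hd, a, rfl⟩ := (hs M).1 ⟨g, hM⟩
  refine H.mem_Hn ?_
  rw [x, hM 13]
  exact H.x_pm (stab_x d hd a)

theorem Signs.stab_eq {X : List (Fin 27)} {M : Mat} (hs : H.Signs [0, 7]) (hM : H.Stab X M) :
    ∃ d ∈ ([0, 7] : List (Fin 8)), ∃ a, M = mono d a := (hs M).1 hM.1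

theorem Signs.stab_seven (hs : H.Signs [0, 7]) {M : Mat} (hM : H.Stab [7] M) :
    M = pmat 0 ∨ M = T7 := by
  obtain ⟨d, hd, b, rfl⟩ := hs.stab_eq hM
  exact seven_data.2.2.2.1 d hd b (hM.2 7 List.mem_cons_self)

theorem Signs.C_seven_le (hs : H.Signs [0, 7]) : H.C [7] ≤ H.N := by
  classical
  haveI : Fact (Nat.Prime 3) := ⟨Nat.prime_three⟩
  obtain ⟨h7, h4, h9, hst, hneg, hspan, hTT, hTne, -⟩ := seven_data
  have hT : H.Stab [7] T7 :=
    ⟨hs.mem (by simp) 1, fun v hv => by rw [List.mem_singleton] at hv; rw [hv]; exact h7⟩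
  have h2 : ∀ M, H.Stab [7] M → ∀ v, app M (app M v) = v := fun M hM v => by
    rcases hs.stab_seven hM with rfl | rfl
    · rw [app_pmat, app_pmat, pa_table.1, pa_table.1]
    · rw [← H.W_app hT.1 hT.1, hTT, app_pmat, pa_table.1]
  have hkill : ∀ a b : Fin 3, av (sm a 4) (sm b 9) ≠ 0 → ∀ M,
      H.Stab [7] M → app M (av (sm a 4) (sm b 9)) = av (sm a 4) (sm b 9) → M = pmat 0 := by
    intro a b hne M hM h
    rcases hs.stab_seven hM with rfl | rfl
    · rfl
    · rw [hneg] at h
      exact absurd (nv_fix _ h) hne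
  have hp : H.Pair 7 4 9 :=
    { inv1 := ⟨T7, hT, h4⟩
      inv2 := ⟨T7, hT, h9⟩
      free := fun M hM => hkill 1 0 (by decide +kernel) M
        ⟨hM.1, fun v hv => hM.2 v (by rw [List.mem_singleton] at hv; simp [hv])⟩
        (by rw [show av (sm 1 4) (sm 0 9) = (4 : Fin 27) by decide +kernel]; exact hM.2 4 (by simp))
      span := hspan
      ne := by decide +kernel
      loc := fun a b hne => H.free_le _ fun M hM => hkill a b hne M
        ⟨hM.1, fun v hv => hM.2 v (by rw [List.mem_singleton] at hv; simp [hv])⟩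
        (hM.2 _ (by simp)) }
  obtain ⟨L, hL⟩ := H.exists_ker [7] h2
  obtain ⟨T, hTJ, hcard, -, hexp, -, -, hnormal⟩ := H.pair_complement hp [pmat 0, T7]
    (fun M => if M = pmat 0 then (1 : Multiplicative (ZMod 2)) else Multiplicative.ofAdd 1)
    (fun M => ⟨fun hM => by simpa using hs.stab_seven hM, fun hM => by
      rcases List.mem_cons.1 hM with rfl | hM
      · exact ⟨H.W_pmat 0, fun v _ => by rw [app_pmat, pa_table.1]⟩
      · rw [List.mem_singleton] at hM; rw [hM]; exact hT⟩)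
    (by decide +kernel) (by decide +kernel) (by decide +kernel) (by decide +kernel) L hL
  refine hnormal (CfsgLib.ThreeSymNine.inverted_normal T hcard ?_ hexp ?_ ?_ ?_)
  · intro a ha b hb
    rw [hTJ] at ha hb
    exact Subtype.ext (H.J_comm (mem_subgroupOf.1 ha) (mem_subgroupOf.1 hb))
  · intro n hn
    have hnN : (n : G) ∈ H.N := by
      refine H.mem_N fun v => ?_
      obtain ⟨k, a, b, rfl⟩ := hspan v
      have hab : H.emb (av (sm a 4) (sm b 9)) ∈ L := by
        rw [H.emb_add, H.emb_sm, H.emb_sm]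
        exact mul_mem (pow_mem (hL.inv_mem _ hp.inv1) _) (pow_mem (hL.inv_mem _ hp.inv2) _)
      have := (mem_normalizer_iff.1 hn ⟨_, hab⟩).1 (by rw [hTJ]; exact H.emb_mem _)
      rw [hTJ] at this
      rw [H.emb_add, ← MulAut.conj_apply, map_mul, H.emb_sm, map_pow, MulAut.conj_apply,
        MulAut.conj_apply, H.mem_C.1 (hL.le n.2) 7 List.mem_cons_self, mul_inv_cancel_right]
      exact mul_mem (pow_mem (H.emb_mem 7) _) this
    obtain ⟨M, hM⟩ := H.exists_induces_of_mem hnN
    have hmem : ∀ t ∈ (T : Subgroup L), ∃ a b, (t : G) = H.emb (av (sm a 4) (sm b 9)) := by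
      intro t ht
      rw [hTJ] at ht
      obtain ⟨v, hv⟩ : (t : G) ∈ H.J := ht
      obtain ⟨a, b, rfl⟩ := hL.pair_mem hp (show H.emb v ∈ L by rw [hv]; exact t.2)
      exact ⟨a, b, hv.symm⟩
    rcases hs.stab_seven (hM.stab (hL.le n.2)) with rfl | rfl
    · refine Or.inl (mem_centralizer_iff.2 fun t ht => ?_)
      obtain ⟨a, b, hab⟩ := hmem t ht
      have := hM (av (sm a 4) (sm b 9))
      rw [app_pmat, pa_table.1, ← hab] at this
      exact Subtype.ext (mul_inv_eq_iff_eq_mul.1 this).symm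
    · refine Or.inr fun t ht => ?_
      obtain ⟨a, b, hab⟩ := hmem t ht
      have := hM (av (sm a 4) (sm b 9))
      rw [hneg, H.emb_nv, ← hab] at this
      exact Subtype.ext this
  · obtain ⟨g, hg⟩ := hT.1
    obtain ⟨j, hj, l, hl, hgl⟩ := hL.split g (hg.mem_C hT.2)
    have hli : H.Induces l T7 := fun v => by
      obtain ⟨u, rfl⟩ := hj
      have h := hg v
      rw [hgl] at h
      calc l * H.emb v * l⁻¹
          = (H.emb u)⁻¹ * (H.emb u * l * H.emb v * (H.emb u * l)⁻¹) * H.emb u := by group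
        _ = (H.emb u)⁻¹ * H.emb (app T7 v) * H.emb u := by rw [h]
        _ = _ := by rw [mul_assoc, H.emb_comm (app T7 v), inv_mul_cancel_left]
    refine ⟨⟨l, hl⟩, mem_normalizer_iff.2 fun y => ?_, fun t ht => ?_⟩
    · rw [hTJ]
      exact mem_normalizer_iff.1 hli.mem_N (y : G)
    · rw [hTJ] at ht
      obtain ⟨v, hv⟩ : (t : G) ∈ H.J := ht
      obtain ⟨a, b, rfl⟩ := hL.pair_mem hp (show H.emb v ∈ L by rw [hv]; exact t.2)
      refine Subtype.ext ?_
      show l * (t : G) * l⁻¹ = (t : G)⁻¹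
      rw [← hv, hli, hneg, H.emb_nv]
  · intro R hR hcop a _ r hr
    haveI : (Cfsg.pPrimeCore 3 L).Characteristic := by
      refine characteristic_iff_map_le.2 fun φ => CfsgLib.Solvable.le_pPrimeCore 3
        (Normal.map (CfsgLib.Solvable.pPrimeCore_normal 3) φ.toMonoidHom φ.surjective) ?_
      rw [card_map_of_injective (show Function.Injective φ.toMonoidHom from φ.injective)]
      exact CfsgLib.Solvable.coprime_card_pPrimeCore 3
    have hbot : Cfsg.pPrimeCore 3 L = ⊥ := by
      refine (map_eq_bot_iff_of_injective _ L.subtype_injective).1 (H.eq_bot_of_normalized ?_ ?_)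
      · rw [card_map_of_injective L.subtype_injective]
        exact CfsgLib.Solvable.coprime_card_pPrimeCore 3
      · refine hL.le_normalizer_J.trans fun g hg => mem_normalizer_iff.2 ?_
        have key : ∀ g ∈ normalizer (L : Set G), ∀ y ∈ (Cfsg.pPrimeCore 3 L).map L.subtype,
            g * y * g⁻¹ ∈ (Cfsg.pPrimeCore 3 L).map L.subtype := by
          rintro g hg _ ⟨w, hw, rfl⟩
          let φ : L ≃* L := (Subgroup.normalizerMonoidHom L) ⟨g, hg⟩
          have := (characteristic_iff_map_le.1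
            (inferInstance : (Cfsg.pPrimeCore 3 L).Characteristic) φ) ⟨w, hw, rfl⟩
          exact ⟨_, this, rfl⟩
        intro y
        refine ⟨key g hg y, fun hy => ?_⟩
        have := key g⁻¹ (inv_mem hg) _ hy
        simpa [mul_assoc] using this
    have h1 : r = 1 := mem_bot.1 (hbot ▸ CfsgLib.Solvable.le_pPrimeCore 3 hR hcop hr)
    simp [h1]

/-- The centralizers of the members outside the centre normalize. -/
theorem Signs.C_le_N_real (hs : H.Signs [0, 7]) {v : Fin 27} (hv0 : v ≠ 0) (hv : v ≠ 13)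
    (hv' : v ≠ 26) : H.C [v] ≤ H.N := by
  obtain h | h | h | ⟨d, hd, a, r, hr, rfl⟩ := reps v
  · exact absurd h hv0
  · exact absurd h hv
  · exact absurd h hv'
  rw [C_singleton]
  refine H.cent_le_transport (hs.mem hd a) ?_
  rw [← C_singleton]
  by_cases h7 : r = 7
  · rw [h7]; exact hs.C_seven_le
  obtain ⟨b, q, hq0, hbr, hbq, hTT, hst, hdec⟩ := refl_data r (by
    simp only [List.mem_cons, List.not_mem_nil, or_false] at hr ⊢; tauto)
  refine H.C_le_N_refl [r] (mono 0 b) q ⟨hs.mem (by simp) b, fun w hw => ?_⟩ (fun M hM => ?_) hbq hq0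
    hTT hdec
  · rw [List.mem_singleton] at hw; rw [hw]; exact hbr
  · obtain ⟨d', hd', b', rfl⟩ := hs.stab_eq hM
    exact hst d' hd' b' (hM.2 r List.mem_cons_self)

theorem Signs.cent_le_Hn (hs : H.Signs [0, 7]) {v : Fin 27} (hv0 : v ≠ 0) {g : G}
    (hg : g * H.emb v = H.emb v * g) : g ∈ H.Hn := by
  by_cases h : v = 13
  · subst h
    exact H.cent_x_le_Hn (mem_centralizer_singleton_iff.2 hg)
  by_cases h' : v = 26
  · subst h'
    refine H.cent_x_le_Hn (mem_centralizer_singleton_iff.2 ?_)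
    rw [show (26 : Fin 27) = nv 13 by decide +kernel, H.emb_nv] at hg
    exact (Commute.inv_right_iff.1 (show Commute g (H.emb 13)⁻¹ from hg)).eq
  refine hs.N_le_Hn (hs.C_le_N_real hv0 h h' ?_)
  rw [C_singleton]
  exact mem_centralizer_singleton_iff.2 hg

/-- The only conjugates of the central element in the Sylow subgroup are it and its inverse. -/
theorem Signs.conj_x_mem_P (hs : H.Signs [0, 7]) {g : G} (hg : g * H.x * g⁻¹ ∈ H.P) :
    g * H.x * g⁻¹ = H.x ∨ g * H.x * g⁻¹ = H.x⁻¹ := by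
  obtain ⟨v, a, ha, hy⟩ := hg
  have h3 : (H.emb v * H.S a) ^ 3 = 1 := by rw [← hy, conj_pow, x, H.emb_cube]; group
  obtain ⟨c, w, hc, hcw⟩ : ∃ (c : G) (w : Fin 27), c * H.x = H.x * c ∧
      c * (H.emb v * H.S a) * c⁻¹ = H.emb w := by
    by_cases ha0 : a = 0
    · exact ⟨1, v, by simp, by rw [ha0, H.S_zero]; group⟩
    have ha' : a ∈ ([4, 5] : List (Fin 6)) := by simp at ha ⊢; tauto
    rw [← H.par_t, H.cube_par, ← H.par_one] at h3
    obtain ⟨u, hu⟩ := p_conj_tS a ha' v (H.par_inj h3)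
    obtain ⟨k, w, hk, -⟩ := tS_conj_tE a ha'
    refine ⟨H.par ((0, 0), k) * H.emb u, w, ?_, ?_⟩
    · exact mem_centralizer_singleton_iff.1 (mul_mem (H.par_mem_centralizer _)
        (mem_centralizer_singleton_iff.2 (H.emb_comm u 13)))
    · have h1 : H.emb u * (H.emb v * H.S a) = H.S a * H.emb u := by
        have := congrArg H.par hu
        rwa [H.par_mul, H.par_mul, H.par_mul] at this
      have h2 : H.par ((0, 0), k) * H.S a = H.emb w * H.par ((0, 0), k) := by
        have := congrArg H.par hk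
        rwa [H.par_mul, H.par_mul] at this
      rw [mul_inv_rev, mul_assoc (H.par ((0, 0), k)), h1]
      simp only [mul_assoc, mul_inv_cancel_left]
      rw [← mul_assoc, h2, mul_assoc, mul_inv_cancel, mul_one]
  have hfus : c * g * H.emb 13 * (c * g)⁻¹ = H.emb w := by
    rw [← hcw, ← hy, x]; group
  obtain ⟨M, hM, hMw⟩ := H.fusion_app hfus
  obtain ⟨d, hd, b, rfl⟩ := (hs M).1 hM
  have hw : w = 13 ∨ w = 26 := hMw ▸ stab_x d hd b
  have hyw : g * H.x * g⁻¹ = H.emb w := by
    have hcw' : c * H.emb w = H.emb w * c := by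
      rcases H.x_pm hw with e | e <;> rw [e]
      · exact hc
      · exact (show Commute c H.x from hc).inv_right.eq
    rw [hy]
    calc H.emb v * H.S a = c⁻¹ * (c * (H.emb v * H.S a) * c⁻¹) * c := by group
      _ = c⁻¹ * H.emb w * c := by rw [hcw]
      _ = H.emb w := by rw [mul_assoc, ← hcw', inv_mul_cancel_left]
  rw [hyw]
  exact H.x_pm hw

end Hyp

end CfsgLib.PSpFourRec
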