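import Cfsg.Agent.PSpFourRec.Hyp
import Cfsg.Agent.PSpFourThreeCent.Main
import Cfsg.Agent.Solvable.Basics

/-!
# From the shape of the centralizer to the standing hypotheses
-/

set_option autoImplicit false
set_option maxRecDepth 100000
set_option linter.style.haveILetI false

namespace CfsgLib.PSpFourRec

open CfsgLib.AltNine CfsgLib.PSpFourThree Subgroup Matrix

attribute [local instance 10000] List.decidableBAll List.decidableBEx

universe u

/-- Conjugation of the linear part by a reflection. -/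
def flipLin (g : S23) : S23 :=
  ⟨!![g.1 0 0, -g.1 0 1; -g.1 1 0, g.1 1 1], by
    rw [Matrix.det_fin_two_of, neg_mul_neg]
    have := g.2; rw [Matrix.det_fin_two] at this; exact this⟩

theorem flipLin_mul : ∀ g k : S23, flipLin (g * k) = flipLin g * flipLin k := by decide +kernel

/-- The automorphism inverting the centre. -/
def flip (t : T) : T := ((![t.1.1 0, -t.1.1 1], -t.1.2), flipLin t.2)

theorem flip_mul (x y : T) : flip (tmul x y) = tmul (flip x) (flip y) := by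
  obtain ⟨⟨v, c⟩, g⟩ := x
  obtain ⟨⟨w, d⟩, k⟩ := y
  refine Prod.ext (Prod.ext ?_ ?_) (flipLin_mul g k)
  · funext i
    fin_cases i <;> simp [flip, tmul, hmul, flipLin, Matrix.vecHead, Matrix.vecTail] <;> ring
  · simp [flip, tmul, hmul, om, flipLin, Matrix.vecHead, Matrix.vecTail]
    ring

theorem flip_bij : Function.Bijective flip := by
  refine Function.Involutive.bijective fun t => ?_
  obtain ⟨⟨v, c⟩, g⟩ := t
  refine Prod.ext (Prod.ext ?_ (by simp [flip])) (Subtype.ext ?_)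
  · funext i; fin_cases i <;> simp [flip]
  · ext i j; fin_cases i <;> fin_cases j <;> simp [flip, flipLin]

theorem flip_tz : flip (tmul tz tz) = tz := by decide +kernel

theorem one_tmul : tmul ((0, 0), 1) ((0, 0), (1 : S23)) = ((0, 0), 1) := by decide +kernel

theorem tt_central : ∀ t : T, tmul t tz = tmul tz t := by
  set_option synthInstance.maxSize 2000 in decide +kernel

theorem tz_facts : tz ≠ t1 ∧ tmul (tmul tz tz) tz = t1 := by decide +kernel

theorem lin_ord : (∀ s : S23, s * s = 1 → s ≠ 1 → s = negOne) ∧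
    (∀ s : S23, s * s * (s * s) = 1 ∨ ∃ A : S23, A * A * A = 1 ∧ A ≠ 1 ∧ (A = s ∨ A = s * s)) := by
  decide +kernel

variable {G : Type u} [Group G] [Finite G]

/-- The signalizer condition inside the centralizer. -/
theorem sig_model (φ : T → G) (hφm : ∀ x y, φ (tmul x y) = φ x * φ y) (hφ : Function.Bijective φ)
    (K : Subgroup G) (hK : (Nat.card K).Coprime 3)
    (hn : ∀ v : Fin 27, ∀ k ∈ K, φ (tE v) * k * (φ (tE v))⁻¹ ∈ K) : K = ⊥ := by
  haveI : Fact (Nat.Prime 2) := ⟨Nat.prime_two⟩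
  have h1 : φ t1 = 1 := by
    have h := hφm t1 t1
    rw [show tmul t1 t1 = t1 by decide +kernel] at h
    exact mul_eq_left.1 h.symm
  let ψ := Equiv.ofBijective φ hφ
  let π : G →* S23 := MonoidHom.mk' (fun g => (ψ.symm g).2) fun x y => by
    have : ψ.symm (x * y) = tmul (ψ.symm x) (ψ.symm y) := ψ.symm_apply_eq.2 (by
      show x * y = φ _
      rw [hφm, Equiv.ofBijective_apply_symm_apply φ hφ x, Equiv.ofBijective_apply_symm_apply φ hφ y])
    rw [this]; rfl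
  have hcube : ∀ g : G, π g = 1 → g ^ 3 = 1 := fun g hg => by
    obtain ⟨⟨h, s⟩, rfl⟩ := hφ.2 g
    have hs : (ψ.symm (φ (h, s))).2 = 1 := hg
    rw [show ψ.symm (φ (h, s)) = (h, s) from ψ.symm_apply_apply _] at hs
    subst hs
    rw [pow_succ, pow_two, ← hφm, ← hφm, heis_cube, show ((0, 0), (1 : S23)) = t1 from rfl, h1]
  have hinj : ∀ g ∈ K, π g = 1 → g = 1 := fun g hg h => by
    have e : orderOf (⟨g, hg⟩ : K) = 1 := Nat.eq_one_of_dvd_coprimes hK
      (orderOf_dvd_natCard _) (orderOf_dvd_of_pow_eq_one (Subtype.ext (hcube g h)))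
    exact congrArg Subtype.val (orderOf_eq_one_iff.1 e)
  by_contra hne
  obtain ⟨g, hg, hg1⟩ := (bot_or_exists_ne_one K).resolve_left hne
  have h4 : g * g * (g * g) = 1 := hinj _ (mul_mem (mul_mem hg hg) (mul_mem hg hg)) (by
    rw [map_mul, map_mul]
    refine (lin_ord.2 (π g)).resolve_right ?_
    rintro ⟨A, hA, hA1, hAg⟩
    obtain ⟨y, hyK, hy⟩ : ∃ y ∈ K, π y = A := by
      rcases hAg with rfl | rfl
      · exact ⟨g, hg, rfl⟩
      · exact ⟨g * g, mul_mem hg hg, map_mul _ _ _⟩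
    have hy3 : y * y * y = 1 :=
      hinj _ (mul_mem (mul_mem hyK hyK) hyK) (by rw [map_mul, map_mul, hy, hA])
    have e : orderOf (⟨y, hyK⟩ : K) = 1 := Nat.eq_one_of_dvd_coprimes hK (orderOf_dvd_natCard _)
      (orderOf_dvd_of_pow_eq_one (Subtype.ext (by rw [SubgroupClass.coe_pow, pow_succ, pow_two]; exact hy3)))
    rw [show y = 1 from congrArg Subtype.val (orderOf_eq_one_iff.1 e), map_one] at hy
    exact hA1 hy.symm)
  obtain ⟨k, hk, hk1, hk2⟩ : ∃ k ∈ K, k ≠ 1 ∧ k * k = 1 := by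
    by_cases h : g * g = 1
    · exact ⟨g, hg, hg1, h⟩
    · exact ⟨g * g, mul_mem hg hg, h, h4⟩
  have hneg : ∀ y ∈ K, y ≠ 1 → y * y = 1 → π y = negOne := fun y hy hy1 hy2 =>
    lin_ord.1 _ (by rw [← map_mul, hy2, map_one]) fun e => hy1 (hinj y hy e)
  have hcomm : ∀ v, φ (tE v) * k = k * φ (tE v) := fun v => by
    have hy := hn v k hk
    set y := φ (tE v) * k * (φ (tE v))⁻¹ with hydef
    have hy1 : y ≠ 1 := fun e => hk1 (conj_eq_one_iff.1 e)
    have hy2 : y * y = 1 := by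
      rw [hydef, show φ (tE v) * k * (φ (tE v))⁻¹ * (φ (tE v) * k * (φ (tE v))⁻¹) =
        φ (tE v) * (k * k) * (φ (tE v))⁻¹ by group, hk2, mul_one, mul_inv_cancel]
    have : y = k := by
      have e := hinj (y * k⁻¹) (mul_mem hy (inv_mem hk)) (by
        rw [map_mul, map_inv, hneg y hy hy1 hy2, hneg k hk hk1 hk2, mul_inv_cancel])
      exact mul_inv_eq_one.1 e
    exact mul_inv_eq_iff_eq_mul.1 this
  obtain ⟨⟨h, s⟩, rfl⟩ := hφ.2 k
  have key : ∀ v, tmul (h, s) (tE v) = tmul (tE v) (h, s) := fun v =>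
    hφ.1 (by rw [hφm, hφm, hcomm v])
  obtain ⟨v, hv⟩ := t_cent s h (congrArg Prod.snd (key 1)) (key 3) (key 1)
  have h3 : φ (h, s) ^ 3 = 1 := by
    rw [hv, pow_succ, pow_two, ← hφm, ← hφm, ← tE_add, ← tE_add,
      show av (av v v) v = 0 from (CfsgLib.ThreeSymNine.Hyp.av_table (av v v) v v).1.trans
        (CfsgLib.ThreeSymNine.Hyp.av_table v v v).2.2.2.2.2.2.1, tE_mid.2.1, h1]
  rw [pow_succ, pow_two, hk2, one_mul] at h3
  exact hk1 h3

/-- The standing hypotheses hold. -/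
theorem exists_hyp (a : G) (ha : orderOf a = 3) (C : Subgroup G)
    (hC : C = centralizer ({a} : Set G))
    (hR : Cfsg.IsExtraspecial 3 (Cfsg.pCore 3 C)) (hRcard : Nat.card (Cfsg.pCore 3 C) = 27)
    (hRexp : ∀ r ∈ Cfsg.pCore 3 C, r ^ 3 = 1)
    (e : C ⧸ Cfsg.pCore 3 C ≃* S23) (J : Subgroup G) (hJC : J ≤ C) (hJcomm : IsMulCommutative J)
    (hJexp : ∀ j ∈ J, j ^ 3 = 1) (hJcard : Nat.card J = 27)
    (hJsig : ∀ K : Subgroup G, (Nat.card K).Coprime 3 →
      (∀ j ∈ J, K.map (MulAut.conj j).toMonoidHom = K) → K = ⊥) :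
    ∃ H : Hyp G, H.x = a ∧ H.J = J := by
  classical
  haveI : Fact (Nat.Prime 3) := ⟨Nat.prime_three⟩
  haveI : Fact (Nat.Prime 2) := ⟨Nat.prime_two⟩
  have hmapeq : ∀ (K : Subgroup G), (∀ j ∈ J, ∀ k ∈ K, j * k * j⁻¹ ∈ K) →
      ∀ j ∈ J, K.map (MulAut.conj j).toMonoidHom = K := fun K hK j hj =>
    Subgroup.eq_of_le_of_card_ge (by rintro _ ⟨k, hk, rfl⟩; exact hK j hj k hk) (by
      rw [← Nat.card_congr (K.equivMapOfInjective _ (MulAut.conj j).injective).toEquiv])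
  have hO2 : Cfsg.pCore 2 C = ⊥ := by
    refine (map_eq_bot_iff_of_injective _ C.subtype_injective).1 (hJsig _ ?_ (hmapeq _ ?_))
    · obtain ⟨n, hn⟩ := IsPGroup.iff_card.1
        ((CfsgLib.Solvable.isPGroup_pCore 2 (G := C)).map C.subtype)
      rw [hn]; exact Nat.Coprime.pow_left n (by norm_num)
    · rintro j hj _ ⟨k, hk, rfl⟩
      exact ⟨_, (inferInstance : (Cfsg.pCore 2 C).Normal).conj_mem k hk ⟨j, hJC hj⟩, rfl⟩
  have hJ' : IsMulCommutative (J.subgroupOf C) ∧ (∀ j ∈ J.subgroupOf C, j ^ 3 = 1) ∧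
      Nat.card (J.subgroupOf C) = 27 :=
    ⟨⟨⟨fun x y => Subtype.ext (Subtype.ext (setLike_mul_comm (mem_subgroupOf.1 x.2)
      (mem_subgroupOf.1 y.2)))⟩⟩, fun j hj => Subtype.ext (hJexp _ (mem_subgroupOf.1 hj)),
      by rw [Nat.card_congr (subgroupOfEquivOfLe hJC).toEquiv, hJcard]⟩
  obtain ⟨φ₀, hφ₀, hφ₀m⟩ := exists_param hR hRcard hRexp e hO2 ⟨_, hJ'⟩
  have haC : a ∈ C := hC ▸ mem_centralizer_singleton_iff.2 rfl
  have hCc : ∀ g : G, g * a = a * g ↔ g ∈ C := fun g => by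
    rw [hC]; exact mem_centralizer_singleton_iff.symm
  obtain ⟨φ, hφ, hφm, hφz⟩ : ∃ φ : T → C, Function.Bijective φ ∧
      (∀ x y, φ (tmul x y) = φ x * φ y) ∧ φ tz = ⟨a, haC⟩ := by
    obtain ⟨t, ht⟩ := hφ₀.2 ⟨a, haC⟩
    have hct : ∀ s, tmul t s = tmul s t := fun s => hφ₀.1 (by
      rw [hφ₀m, hφ₀m, ht]
      exact Subtype.ext ((hCc _).2 (φ₀ s).2).symm)
    rcases cent_heis t ⟨hct _, hct _⟩ with rfl | rfl | rfl
    · exfalso
      have h := hφ₀m ((0, 0), 1) ((0, 0), 1)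
      rw [one_tmul, ht] at h
      have : a = 1 := congrArg Subtype.val (mul_eq_left.1 h.symm)
      rw [this, orderOf_one] at ha
      norm_num at ha
    · exact ⟨φ₀, hφ₀, hφ₀m, ht⟩
    · refine ⟨φ₀ ∘ flip, hφ₀.comp flip_bij, fun x y => ?_, ?_⟩
      · show φ₀ (flip (tmul x y)) = _
        rw [flip_mul, hφ₀m]; rfl
      · show φ₀ (flip tz) = _
        rw [← ht]
        exact congrArg φ₀ (show flip tz = tmul tt tt by decide +kernel)
  let H1 : Hyp C :=
    { par := φ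
      par_mul := hφm
      par_inj := hφ.1
      par_cent := fun g => ⟨fun _ => hφ.2 g, fun _ => by
        obtain ⟨t, rfl⟩ := hφ.2 g
        rw [← hφm, ← hφm, tt_central]⟩
      sig := fun K hK hn => sig_model φ hφm hφ K hK hn }
  obtain ⟨Q, hQ⟩ := H1.sylow_exists
  obtain ⟨U, hU⟩ := (IsPGroup.of_card (n := 3) (hJ'.2.2.trans rfl) :
    IsPGroup 3 (J.subgroupOf C)).exists_le_sylow
  obtain ⟨c, hc⟩ := MulAction.exists_smul_eq C U Q
  have hAJ : (J.subgroupOf C).map (MulAut.conj c).toMonoidHom = H1.J := by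
    refine H1.abelian_eq ?_ ?_ ?_ ?_
    · rintro _ ⟨j, hj, rfl⟩
      rw [← hQ, ← hc, Sylow.coe_subgroup_smul]
      exact ⟨j, hU hj, rfl⟩
    · rintro _ ⟨x, hx, rfl⟩ _ ⟨y, hy, rfl⟩
      rw [← map_mul, ← map_mul]
      exact congrArg _ (Subtype.ext (setLike_mul_comm (mem_subgroupOf.1 hx) (mem_subgroupOf.1 hy)))
    · rintro _ ⟨x, hx, rfl⟩
      rw [← map_pow, hJ'.2.1 x hx, map_one]
    · rw [← Nat.card_congr ((J.subgroupOf C).equivMapOfInjective _ (MulAut.conj c).injective).toEquiv,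
        hJ'.2.2]
  have hJmem : ∀ g, g ∈ J ↔ ∃ v, ((c⁻¹ * φ (tE v) * c : C) : G) = g := by
    intro g
    constructor
    · intro hg
      obtain ⟨v, hv⟩ : (MulAut.conj c).toMonoidHom ⟨g, hJC hg⟩ ∈ H1.J := by
        rw [← hAJ]; exact ⟨_, hg, rfl⟩
      refine ⟨v, ?_⟩
      rw [show φ (tE v) = c * ⟨g, hJC hg⟩ * c⁻¹ from hv,
        show c⁻¹ * (c * (⟨g, hJC hg⟩ : C) * c⁻¹) * c = ⟨g, hJC hg⟩ by group]
    · rintro ⟨v, rfl⟩
      have hm : H1.emb v ∈ (J.subgroupOf C).map (MulAut.conj c).toMonoidHom :=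
        hAJ ▸ H1.emb_mem v
      obtain ⟨j, hj, hjv⟩ := hm
      rw [show φ (tE v) = c * j * c⁻¹ from hjv.symm, show c⁻¹ * (c * j * c⁻¹) * c = j by group]
      exact hj
  have hz : ((c⁻¹ * φ tz * c : C) : G) = a := by
    show (c : G)⁻¹ * ((φ tz : C) : G) * c = a
    rw [hφz]
    have := (hCc _).2 c.2
    calc (c : G)⁻¹ * a * c = (c : G)⁻¹ * (a * c) := by group
      _ = (c : G)⁻¹ * (c * a) := by rw [this]
      _ = a := by group
  refine ⟨{
    par := fun t => ((c⁻¹ * φ t * c : C) : G)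
    par_mul := fun x y => by
      rw [hφm, ← Subgroup.coe_mul]
      exact congrArg Subtype.val (by group)
    par_inj := fun x y h => hφ.1 (mul_left_cancel (mul_right_cancel (Subtype.ext h)))
    par_cent := fun g => by
      rw [hz, hCc]
      constructor
      · intro hg
        obtain ⟨t, ht⟩ := hφ.2 (c * ⟨g, hg⟩ * c⁻¹)
        refine ⟨t, ?_⟩
        rw [ht, show c⁻¹ * (c * (⟨g, hg⟩ : C) * c⁻¹) * c = ⟨g, hg⟩ by group]
      · rintro ⟨t, rfl⟩; exact SetLike.coe_mem _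
    sig := fun K hK hn => hJsig K hK (hmapeq K fun j hj k hk => by
      obtain ⟨v, rfl⟩ := (hJmem j).1 hj
      exact hn v k hk) }, ?_, ?_⟩
  · show ((c⁻¹ * φ (tE 13) * c : C) : G) = a
    rw [tE_mid.1, hz]
  · ext g
    exact ⟨fun ⟨v, hv⟩ => (hJmem g).2 ⟨v, hv⟩, fun hg => (hJmem g).1 hg⟩

end CfsgLib.PSpFourRec
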