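import Cfsg.Agent.PSpFourRec.Full
import Cfsg.Agent.ThreeSymNine.SymSixNorm
import Mathlib.GroupTheory.Perm.Closure

/-!
# The complement isomorphic to the symmetric group of degree six
-/

set_option autoImplicit false
set_option maxRecDepth 100000
set_option synthInstance.maxSize 100000
set_option linter.style.haveILetI false
set_option linter.unusedSectionVars false

namespace CfsgLib.PSpFourRec

open CfsgLib.AltNine CfsgLib.PSpFourThree Subgroup Equiv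
open CfsgLib.ThreeSymNine (Mat app mm pmat dmat mono pa pm pinv dig sm nv_nv pa_table app_pmat
  app_one ext_app allSigns dx du db pd bc mono_tables)
open CfsgLib.ThreeLocalNine (p2 p3)
open CfsgLib.ThreeSymNine.Six (tp)

attribute [local instance 10000] List.decidableBAll List.decidableBEx

universe u

theorem six_fixed : swap (4 : Fin 6) 5 = p3 * swap 3 4 * p3⁻¹ ∧ swap (1 : Fin 6) 2 = p2 * swap 0 1 * p2⁻¹ ∧
    ∀ σ : Perm (Fin 6), σ * σ = 1 → σ * swap 0 1 = swap 0 1 * σ → σ * swap 4 5 = swap 4 5 * σ →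
      σ * swap 1 2 * (σ * swap 1 2) * (σ * swap 1 2) = 1 →
      σ * swap 3 4 * (σ * swap 3 4) * (σ * swap 3 4) = 1 → σ = swap 2 3 := by
  decide +kernel

theorem six_braid : ∀ σ : Perm (Fin 6), σ = swap 2 3 → σ * σ = 1 ∧
    σ * swap 0 1 = swap 0 1 * σ ∧ σ * swap 4 5 = swap 4 5 * σ ∧
      σ * swap 1 2 * (σ * swap 1 2) * (σ * swap 1 2) = 1 ∧
      σ * swap 3 4 * (σ * swap 3 4) * (σ * swap 3 4) = 1 := by decide +kernel

/-- An endomorphism fixing the wreathed generators is trivial. -/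
theorem six_rigid (ψ : Perm (Fin 6) →* Perm (Fin 6)) (h2 : ψ p2 = p2) (h3 : ψ p3 = p3)
    (h01 : ψ (swap 0 1) = swap 0 1) (h34 : ψ (swap 3 4) = swap 3 4) :
    ψ = MonoidHom.id _ := by
  obtain ⟨e45, e12, key⟩ := six_fixed
  have f45 : ψ (swap 4 5) = swap 4 5 := by
    rw [e45, map_mul, map_mul, map_inv, h34, h3]
  have f12 : ψ (swap 1 2) = swap 1 2 := by
    rw [e12, map_mul, map_mul, map_inv, h01, h2]
  obtain ⟨b1, b2, b3, b4, b5⟩ := six_braid _ rfl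
  have f23 : ψ (swap 2 3) = swap 2 3 := by
    refine key _ ?_ ?_ ?_ ?_ ?_
    · rw [← map_mul, b1, map_one]
    · rw [← h01, ← map_mul, ← map_mul, b2]
    · rw [← f45, ← map_mul, ← map_mul, b3]
    · rw [← f12, ← map_mul, ← map_mul, ← map_mul, b4, map_one]
    · rw [← h34, ← map_mul, ← map_mul, ← map_mul, b5, map_one]
  refine MonoidHom.eq_of_eqOn_denseM (Equiv.Perm.mclosure_swap_castSucc_succ 5) ?_
  rintro _ ⟨i, rfl⟩
  fin_cases i
  · exact h01
  · exact f12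
  · exact f23
  · exact h34
  · exact f45

namespace Hyp

variable {G : Type u} [Group G]

/-- A complement in the centralizer of the basis vector, with coordinates. -/
structure Six (H : Hyp G) (D : Fin 8 → G) (L : Subgroup G) (φ : L ≃* Perm (Fin 6)) : Prop where
  flips : H.Flips D
  le : ∀ l ∈ L, l * H.emb 9 = H.emb 9 * l
  split : ∀ g, g * H.emb 9 = H.emb 9 * g → ∃ k : Fin 3, ∃ l ∈ L, g = H.emb (sm k 9) * l
  disjoint : ∀ k : Fin 3, H.emb (sm k 9) ∈ L → k = 0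
  invol : ∀ g, g * g = 1 → g * H.emb 9 = H.emb 9 * g → g ∈ L
  mem1 : H.emb 1 ∈ L
  mem3 : H.emb 3 ∈ L
  memd1 : D 1 ∈ L
  memd2 : D 2 ∈ L
  memS : H.S 1 ∈ L
  val1 : φ ⟨_, mem1⟩ = p2
  val3 : φ ⟨_, mem3⟩ = p3
  vald1 : φ ⟨_, memd1⟩ = swap 0 1
  vald2 : φ ⟨_, memd2⟩ = swap 3 4
  valS : φ ⟨_, memS⟩ = tp

theorem flip_tables : app (mono 1 0) 9 = 9 ∧ app (mono 2 0) 9 = 9 ∧ app (mono 0 1) 9 = 9 ∧
    app (mono 1 0) 1 = nv 1 ∧ app (mono 2 0) 3 = nv 3 ∧ app (mono 1 0) 3 = 3 ∧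
    pd 1 1 = 2 ∧ app (mono 0 1) 1 = 3 ∧ app (mono 4 0) 9 = nv 9 ∧ app (mono 4 0) 1 = 1 ∧
    app (mono 4 0) 3 = 3 ∧ pd 1 4 = 4 ∧ app (mono 3 0) 1 = nv 1 ∧ app (mono 3 0) 3 = nv 3 ∧
    app (mono 3 0) 9 = 9 ∧
    (∀ v : Fin 27, ∃ k a b, v = av (sm k 9) (av (sm a 1) (sm b 3))) := by decide +kernel

variable [Finite G] {H : Hyp G} {D : Fin 8 → G}

theorem Flips.ind_flip (h : H.Flips D) (d : Fin 8) : H.Induces (D d) (mono d 0) := by
  have := h.el_ind 0 d 0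
  rwa [el, H.emb_zero, one_mul, H.S_zero, mul_one] at this

theorem Flips.exists_six (h : H.Flips D) {L : Subgroup G} (hL : H.Ker [9] L)
    (φ₀ : L ≃* Perm (Fin 6)) : ∃ φ : L ≃* Perm (Fin 6), H.Six D L φ := by
  obtain ⟨e1, e2, e3, e4, e5, e6, e7, e8, e9, e10, e11, e12, e13, e14, e15, espan⟩ := flip_tables
  have hS : H.Induces (H.S 1) (mono 0 1) := by
    have := h.el_ind 0 0 1
    rwa [el, H.emb_zero, h.zero, one_mul, one_mul] at this
  have hC : ∀ {g : G}, g ∈ H.C [9] ↔ g * H.emb 9 = H.emb 9 * g := fun {g} =>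
    ⟨fun hg => H.mem_C.1 hg 9 List.mem_cons_self, fun hg => H.mem_C.2 fun v hv => by
      rw [List.mem_singleton.1 hv]; exact hg⟩
  have hst : ∀ d, app (mono d 0) 9 = 9 → H.Stab [9] (mono d 0) := fun d hd =>
    ⟨⟨D d, h.ind_flip d⟩, fun v hv => by rw [List.mem_singleton.1 hv]; exact hd⟩
  have m1 : H.emb 1 ∈ L := hL.inv_mem 1 ⟨_, hst 1 e1, e4⟩
  have m3 : H.emb 3 ∈ L := hL.inv_mem 3 ⟨_, hst 2 e2, e5⟩
  have hsplit : ∀ g, g * H.emb 9 = H.emb 9 * g →
      ∃ k : Fin 3, ∃ l ∈ L, g = H.emb (sm k 9) * l := by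
    intro g hg
    obtain ⟨j, hj, l, hl, rfl⟩ := hL.split g (hC.2 hg)
    obtain ⟨v, rfl⟩ : ∃ v, H.emb v = j := hj
    obtain ⟨k, a, b, rfl⟩ := espan v
    refine ⟨k, H.emb (av (sm a 1) (sm b 3)) * l, mul_mem ?_ hl, by rw [H.emb_add, mul_assoc]⟩
    rw [H.emb_add, H.emb_sm, H.emb_sm]
    exact mul_mem (pow_mem m1 _) (pow_mem m3 _)
  have hdis : ∀ k : Fin 3, H.emb (sm k 9) ∈ L → k = 0 := fun k hk => by
    have := hL.fix_mem _ (fun M hM => by
      refine H.emb_inj ?_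
      obtain ⟨n, hn⟩ := hM.1
      rw [← hn, H.emb_sm, ← conj_pow, hn, hM.2 9 List.mem_cons_self]) hk
    exact (show ∀ k : Fin 3, sm k 9 = (0 : Fin 27) → k = 0 by decide +kernel) k this
  have hLc : ∀ l ∈ L, l * H.emb 9 = H.emb 9 * l := fun l hl => hC.1 (hL.le hl)
  have hinvol : ∀ g, g * g = 1 → g * H.emb 9 = H.emb 9 * g → g ∈ L := by
    intro g hg2 hg
    obtain ⟨k, l, hl, rfl⟩ := hsplit g hg
    have hc : Commute l (H.emb (sm k 9)) := by
      rw [H.emb_sm]; exact Commute.pow_right (hLc l hl) _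
    have h1 : H.emb (sm k 9) * H.emb (sm k 9) ∈ L := by
      rw [show H.emb (sm k 9) * H.emb (sm k 9) = (l * l)⁻¹ by
        refine eq_inv_of_mul_eq_one_left ?_
        rw [← hg2, mul_assoc, mul_assoc, ← mul_assoc l (H.emb (sm k 9)), hc.eq, mul_assoc]]
      exact inv_mem (mul_mem hl hl)
    rw [← H.emb_add, (show ∀ k : Fin 3, av (sm k 9) (sm k 9) = sm (k + k) 9 by decide +kernel)] at h1
    have hk : k = 0 := (show ∀ k : Fin 3, k + k = 0 → k = 0 by decide) k (hdis _ h1)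
    rw [hk, show sm (0 : Fin 3) 9 = 0 from rfl, H.emb_zero, one_mul]
    exact hl
  have hcomm : ∀ (g : G) (M : Mat), H.Induces g M → app M 9 = 9 →
      g * H.emb 9 = H.emb 9 * g := fun g M hM h9 => by
    have := hM 9
    rw [h9] at this
    exact mul_inv_eq_iff_eq_mul.1 this
  have m4 : D 1 ∈ L := hinvol _ (h.sq 1) (hcomm _ _ (h.ind_flip 1) e1)
  have m5 : D 2 ∈ L := hinvol _ (h.sq 2) (hcomm _ _ (h.ind_flip 2) e2)
  have hS2 : H.S 1 * H.S 1 = 1 := by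
    rw [H.S_mul, show pm 1 1 = (0 : Fin 6) by decide +kernel, H.S_zero]
  have m6 : H.S 1 ∈ L := hinvol _ hS2 (hcomm _ _ hS e3)
  have hSi : (H.S 1)⁻¹ = H.S 1 := inv_eq_of_mul_eq_one_right hS2
  obtain ⟨φ, v1, v3, va, vs, vsas⟩ := CfsgLib.ThreeSymNine.Six.exists_normal φ₀
    (e1 := (⟨_, m1⟩ : L)) (e2 := ⟨_, m3⟩) (a := ⟨_, m4⟩) (s := ⟨_, m6⟩)
    (fun e => absurd (H.emb_inj ((congrArg Subtype.val e).trans H.emb_zero.symm)) (by decide))
    (Subtype.ext (H.emb_cube 1)) (Subtype.ext (H.emb_cube 3)) (Subtype.ext (H.emb_comm 1 3))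
    (Subtype.ext (h.sq 1))
    (Subtype.ext (by
      show D 1 * H.emb 1 * D 1 = (H.emb 1)⁻¹
      rw [← H.emb_nv, ← e4, ← h.ind_flip 1, h.inv]))
    (Subtype.ext (by
      have := h.ind_flip 1 3
      rw [e6] at this
      exact mul_inv_eq_iff_eq_mul.1 this))
    (Subtype.ext hS2)
    (Subtype.ext (by
      show H.S 1 * H.emb 1 * H.S 1 = H.emb 3
      rw [← e8, ← hS, hSi]))
  refine ⟨φ, h, hLc, hsplit, hdis, hinvol, m1, m3, m4, m5, m6, v1, v3, va, ?_, vs⟩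
  rw [← vsas]
  refine congrArg φ (Subtype.ext ?_)
  show D 2 = H.S 1 * D 1 * H.S 1
  rw [← e7, ← h.conj, hSi]

variable {L : Subgroup G} {φ : L ≃* Perm (Fin 6)}

/-- The last sign change centralizes the complement. -/
theorem Six.flip_comm (hX : H.Six D L φ) : ∀ l ∈ L, D 4 * l = l * D 4 := by
  have h := hX.flips
  obtain ⟨e1, e2, e3, e4, e5, e6, e7, e8, e9, e10, e11, e12, -⟩ := flip_tables
  have h9 : D 4 * H.emb 9 * D 4 = (H.emb 9)⁻¹ := by
    conv_lhs => arg 2; rw [← h.inv]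
    rw [h.ind_flip 4, e9, H.emb_nv]
  have hmem : ∀ l ∈ L, D 4 * l * (D 4)⁻¹ ∈ L := by
    intro l hl
    obtain ⟨σ, hσ⟩ : ∃ σ, φ.symm σ = ⟨l, hl⟩ := ⟨_, φ.symm_apply_apply _⟩
    rw [show l = ((φ.symm σ : L) : G) from (congrArg Subtype.val hσ).symm]
    clear hσ
    induction σ using Equiv.Perm.swap_induction_on with
    | one => simp
    | swap_mul σ x y hxy ih =>
      rw [map_mul, Subgroup.coe_mul, show D 4 * (((φ.symm (swap x y) : L) : G) *
        (φ.symm σ : L)) * (D 4)⁻¹ = (D 4 * (φ.symm (swap x y) : L) * (D 4)⁻¹) *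
          (D 4 * (φ.symm σ : L) * (D 4)⁻¹) by group]
      refine mul_mem (hX.invol _ ?_ ?_) ih
      · rw [conj_mul, ← Subgroup.coe_mul, ← map_mul, Equiv.swap_mul_self, map_one]
        simp
      · have hc : Commute ((φ.symm (swap x y) : L) : G) (H.emb 9)⁻¹ :=
          (show Commute ((φ.symm (swap x y) : L) : G) (H.emb 9) from
            hX.le _ (φ.symm (swap x y)).2).inv_right
        have := hc.map (MulAut.conj (D 4)).toMonoidHom
        simp only [MulEquiv.coe_toMonoidHom, map_inv, MulAut.conj_apply] at this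
        rw [show D 4 * H.emb 9 * (D 4)⁻¹ = (H.emb 9)⁻¹ by rw [h.inv, h9], inv_inv] at this
        exact this.eq
  let c : L →* L :=
    MonoidHom.mk' (fun l => ⟨D 4 * l * (D 4)⁻¹, hmem l l.2⟩) fun a b => Subtype.ext (by
      simp [mul_assoc])
  have hfix : ∀ {g : G} (hg : g ∈ L), D 4 * g * (D 4)⁻¹ = g → φ (c ⟨g, hg⟩) = φ ⟨g, hg⟩ :=
    fun hg e => congrArg φ (Subtype.ext e)
  have hflip : ∀ d, D 4 * D d * (D 4)⁻¹ = D d := fun d => by
    rw [h.comm, mul_inv_cancel_right]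
  have key := six_rigid ((φ.toMonoidHom.comp c).comp φ.symm.toMonoidHom) ?_ ?_ ?_ ?_
  · intro l hl
    have h1 := DFunLike.congr_fun key (φ ⟨l, hl⟩)
    simp only [MonoidHom.comp_apply, MulEquiv.coe_toMonoidHom, φ.symm_apply_apply,
      MonoidHom.id_apply] at h1
    exact mul_inv_eq_iff_eq_mul.1 (congrArg Subtype.val (φ.injective h1))
  · show φ (c (φ.symm p2)) = p2
    rw [← hX.val1, φ.symm_apply_apply]
    exact hfix _ (by rw [h.ind_flip 4, e10])
  · show φ (c (φ.symm p3)) = p3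
    rw [← hX.val3, φ.symm_apply_apply]
    exact hfix _ (by rw [h.ind_flip 4, e11])
  · show φ (c (φ.symm (swap 0 1))) = _
    rw [← hX.vald1, φ.symm_apply_apply]
    exact hfix _ (hflip 1)
  · show φ (c (φ.symm (swap 3 4))) = _
    rw [← hX.vald2, φ.symm_apply_apply]
    exact hfix _ (hflip 2)

theorem six_centralizer_double : ∀ σ : Perm (Fin 6), σ ^ 3 = 1 →
    σ * (swap 0 1 * swap 3 4) = (swap 0 1 * swap 3 4) * σ → σ = 1 := by
  decide +kernel

theorem Six.only_nine_six (hX : H.Six D L φ) {q : G} (hqt : q * D 3 = D 3 * q)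
    (hqv : q * H.emb 9 = H.emb 9 * q) (hq3 : q ^ 3 = 1) : q ∈ zpowers (H.emb 9) := by
  obtain ⟨k, l, hl, rfl⟩ := hX.split q hqv
  have hc : Commute (H.emb (sm k 9)) l := by
    rw [H.emb_sm]; exact (Commute.pow_right (hX.le l hl) _).symm
  rw [hc.mul_pow, H.emb_cube, one_mul] at hq3
  have hk : Commute (H.emb (sm k 9)) (D 3) := by
    have := hX.flips.ind_flip 3 9
    rw [flip_tables.2.2.2.2.2.2.2.2.2.2.2.2.2.2.1, mul_inv_eq_iff_eq_mul] at this
    rw [H.emb_sm]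
    exact (show Commute (H.emb 9) (D 3) from this.symm).pow_left _
  have hlD : l * D 3 = D 3 * l := by
    refine mul_left_cancel (a := H.emb (sm k 9)) ?_
    rw [← mul_assoc, hqt, ← mul_assoc, ← mul_assoc, hk.eq]
  have h3 : (⟨l, hl⟩ : L) * (⟨_, hX.memd1⟩ * ⟨_, hX.memd2⟩) =
      (⟨_, hX.memd1⟩ * ⟨_, hX.memd2⟩) * ⟨l, hl⟩ := Subtype.ext (by
    show l * (D 1 * D 2) = D 1 * D 2 * l
    rw [hX.flips.mul, show dx 1 2 = 3 by decide +kernel]
    exact hlD)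
  have h4 := congrArg φ h3
  rw [map_mul, map_mul, map_mul, map_mul, hX.vald1, hX.vald2] at h4
  have h5 := six_centralizer_double _ (by
    rw [← map_pow, show (⟨l, hl⟩ : L) ^ 3 = 1 from Subtype.ext hq3, map_one]) h4
  have h6 : l = 1 := congrArg Subtype.val (φ.injective (h5.trans φ.map_one.symm))
  rw [h6, mul_one, H.emb_sm]
  exact pow_mem (mem_zpowers _) _

end Hyp

end CfsgLib.PSpFourRec
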