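import Cfsg.Agent.PSpFourRec.SpSixModel

/-!
# The classes of involutions of `Sp₆(2)`

Every involution is a product of transvections in pairwise orthogonal vectors; Witt's theorem moves
these into the totally isotropic space of the first three coordinates.
-/

set_option autoImplicit false
set_option maxRecDepth 100000
set_option linter.style.haveILetI false
set_option linter.unusedSectionVars false

namespace CfsgLib.PSpFourRec.SpSix

open Subgroup CfsgLib.SpPres CfsgLib.SpMult CfsgLib.SpSixMult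

universe v

variable {F : Type v} [Field F] [CharP F 2]

theorem bits_facts : (∀ a b : Fin 64, bits (cx a b) = bits a + bits b) ∧
    (∀ a b : Fin 64, form2 (bits a) (bits b) = if fm a b then 1 else 0) ∧
    (∀ a : Fin 6 → ZMod 2, ∃ c : Fin 64, bits c = a) ∧ bits 0 = 0 := by decide +kernel

theorem bits_inj : Function.Injective bits := by
  have h : Function.Surjective bits := bits_facts.2.2.1
  exact (Fintype.bijective_iff_surjective_and_card _).2 ⟨h, by simp⟩ |>.1

/-- The vector of a code. -/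
def vc (c : Fin 64) : Vec F 3 := vec (bits c)

theorem vc_cx (a b : Fin 64) : (vc (cx a b) : Vec F 3) = vc a + vc b := by
  rw [vc, bits_facts.1, vec_add]; rfl

theorem vc_zero : (vc 0 : Vec F 3) = 0 := by rw [vc, bits_facts.2.2.2, vec_zero]

theorem bl_vc (a b : Fin 64) : bl (vc a : Vec F 3) (vc b) = if fm a b then 1 else 0 := by
  rw [vc, vc, bl_vec, bits_facts.2.1]
  split_ifs <;> simp

theorem vc_inj : Function.Injective (vc : Fin 64 → Vec F 3) := by
  haveI : Fact (Nat.Prime 2) := ⟨Nat.prime_two⟩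
  intro a b h
  refine bits_inj (funext fun k => ?_)
  have hk := congrFun h (if hk : (k : ℕ) < 3 then Sum.inl ⟨k, hk⟩ else Sum.inr ⟨k - 3, by omega⟩)
  refine (ZMod.castHom (dvd_refl 2) F).injective ?_
  simp only [vc, vec] at hk
  fin_cases k <;> exact hk

/-- The transvection of a code. -/
def t (c : Fin 64) : Spn F 3 := tr (vc c)

/-- The product of a word in transvections. -/
def W (l : List (Fin 64)) : Spn F 3 := (l.map t).prod

theorem t_sq (c : Fin 64) : (t c : Spn F 3) * t c = 1 := tr_sq _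

theorem W_nil : (W [] : Spn F 3) = 1 := rfl

theorem W_cons (c : Fin 64) (l : List (Fin 64)) : (W (c :: l) : Spn F 3) = t c * W l := by
  simp [W]

theorem W_singleton (c : Fin 64) : (W [c] : Spn F 3) = t c := by rw [W_cons, W_nil, mul_one]

theorem W_append (l l' : List (Fin 64)) : (W (l ++ l') : Spn F 3) = W l * W l' := by simp [W]

theorem W_reverse (l : List (Fin 64)) : (W l : Spn F 3)⁻¹ = W l.reverse := by
  induction l with
  | nil => simp [W]
  | cons c l ih =>
    rw [W_cons, List.reverse_cons, W_append, W_singleton, mul_inv_rev, ih,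
      inv_eq_of_mul_eq_one_right (t_sq c)]

theorem α_t (w x : Fin 64) : αSp (t w : Spn F 3) (vc x) = vc (mv w x) := by
  rw [t, α_tr, bl_vc, mv_eq]
  cases fm w x
  · simp
  · simp [vc_cx]

theorem α_W (l : List (Fin 64)) (x : Fin 64) : αSp (W l : Spn F 3) (vc x) = vc (wact l x) := by
  induction l with
  | nil => rw [W_nil, map_one]; rfl
  | cons c l ih => rw [W_cons, αSp_mul, ih, α_t, wact]

variable (h2 : ∀ x : F, x = 0 ∨ x = 1)
include h2

theorem vc_surj : Function.Surjective (vc : Fin 64 → Vec F 3) := fun v => by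
  obtain ⟨a, rfl⟩ := vec_surjective h2 v
  obtain ⟨c, rfl⟩ := bits_facts.2.2.1 a
  exact ⟨c, rfl⟩

theorem ext_code {g g' : Spn F 3} (h : ∀ x, αSp g (vc x) = αSp g' (vc x)) : g = g' :=
  αSp_injective (LinearEquiv.ext fun v => by
    obtain ⟨x, rfl⟩ := vc_surj h2 v
    exact h x)

theorem W_eq {l l' : List (Fin 64)} (h : ∀ x, wact l x = wact l' x) : (W l : Spn F 3) = W l' :=
  ext_code h2 fun x => by rw [α_W, α_W, h]

/-- The action on codes. -/
noncomputable def ac (g : Spn F 3) (c : Fin 64) : Fin 64 :=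
  Function.surjInv (vc_surj h2) (αSp g (vc c))

theorem vc_ac (g : Spn F 3) (c : Fin 64) : vc (ac h2 g c) = αSp g (vc c) :=
  Function.surjInv_eq (vc_surj h2) _

theorem ac_mul (g g' : Spn F 3) (c : Fin 64) : ac h2 (g * g') c = ac h2 g (ac h2 g' c) :=
  vc_inj (F := F) (by rw [vc_ac, αSp_mul, vc_ac, vc_ac])

theorem ac_one (c : Fin 64) : ac h2 (1 : Spn F 3) c = c :=
  vc_inj (F := F) (by rw [vc_ac, map_one]; rfl)

theorem ac_inj (g : Spn F 3) : Function.Injective (ac h2 g) := fun a b h => by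
  have := congrArg (ac h2 g⁻¹) h
  rwa [← ac_mul, ← ac_mul, inv_mul_cancel, ac_one, ac_one] at this

theorem ac_W (l : List (Fin 64)) (x : Fin 64) : ac h2 (W l) x = wact l x :=
  vc_inj (F := F) (by rw [vc_ac, α_W])

theorem ac_cx (g : Spn F 3) (a b : Fin 64) : ac h2 g (cx a b) = cx (ac h2 g a) (ac h2 g b) :=
  vc_inj (F := F) (by rw [vc_ac, vc_cx, map_add, vc_cx, vc_ac, vc_ac])

theorem ac_zero (g : Spn F 3) : ac h2 g 0 = 0 :=
  vc_inj (F := F) (by rw [vc_ac, vc_zero, map_zero])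

theorem fm_ac (g : Spn F 3) (a b : Fin 64) : fm (ac h2 g a) (ac h2 g b) = fm a b := by
  have h := bl_vc (F := F) (ac h2 g a) (ac h2 g b)
  rw [vc_ac, vc_ac, αSp_bl, bl_vc] at h
  revert h
  cases fm a b <;> cases fm (ac h2 g a) (ac h2 g b) <;> simp

theorem fm_add (a b c : Fin 64) : fm (cx a b) c = (fm a c ^^ fm b c) := by
  have h := bl_vc (F := F) (cx a b) c
  rw [vc_cx, map_add, LinearMap.add_apply, bl_vc, bl_vc] at h
  revert h
  cases fm a c <;> cases fm b c <;> cases fm (cx a b) c <;> simp [CharTwo.add_self_eq_zero]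

theorem t_conj (g : Spn F 3) (c : Fin 64) : g * t c * g⁻¹ = t (ac h2 g c) := by
  rw [t, tr_conj, t, vc_ac]

theorem W_conj (g : Spn F 3) (l : List (Fin 64)) : g * W l * g⁻¹ = W (l.map (ac h2 g)) := by
  induction l with
  | nil => simp [W]
  | cons c l ih =>
    rw [W_cons, List.map_cons, W_cons, ← t_conj h2, ← ih]
    group

theorem t_comm {u v : Fin 64} (h : fm u v = false) : (t u : Spn F 3) * t v = t v * t u := by
  refine mul_inv_eq_iff_eq_mul.1 ?_
  rw [t_conj h2, ← W_singleton u, ac_W]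
  show t (mv u v) = _
  rw [mv_eq, h]
  rfl

theorem W_comm {u : Fin 64} {l : List (Fin 64)} (h : ∀ d ∈ l, fm u d = false) :
    (t u : Spn F 3) * W l = W l * t u := by
  induction l with
  | nil => simp [W]
  | cons c l ih =>
    rw [W_cons, ← mul_assoc, t_comm h2 (h c List.mem_cons_self), mul_assoc,
      ih fun d hd => h d (List.mem_cons_of_mem _ hd), ← mul_assoc]

theorem W_sq {l : List (Fin 64)} (h : ∀ c ∈ l, ∀ d ∈ l, fm c d = false) : (W l : Spn F 3) * W l = 1 := by
  induction l with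
  | nil => simp [W]
  | cons c l ih =>
    have hcl := W_comm h2 (u := c) (l := l) fun d hd =>
      h c List.mem_cons_self d (List.mem_cons_of_mem _ hd)
    rw [W_cons, show t c * W l * (t c * W l) = (t c * W l) * (W l * t c) by rw [← hcl],
      ← mul_assoc, mul_assoc (t c) (W l) (W l),
      ih fun a ha b hb => h a (List.mem_cons_of_mem _ ha) b (List.mem_cons_of_mem _ hb), mul_one, t_sq]

/-- The difference of the identity and an element. -/
noncomputable def nm (g : Spn F 3) (x : Fin 64) : Fin 64 := cx (ac h2 g x) x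

theorem fm_nm_nm {i : Spn F 3} (hi : i * i = 1) (x y : Fin 64) :
    fm (nm h2 i x) (nm h2 i y) = false := by
  have h1 : fm (ac h2 i x) (ac h2 i y) = fm x y := fm_ac h2 i x y
  have h3 : fm (ac h2 i x) y = fm x (ac h2 i y) := by
    rw [← fm_ac h2 i x (ac h2 i y), ← ac_mul, hi, ac_one]
  simp only [nm]
  rw [fm_add h2, (fm_facts _ _).1, fm_add h2, (fm_facts (ac h2 i y) (ac h2 i x)).1, h1,
    (fm_facts x (cx _ _)).1, fm_add h2, (fm_facts (ac h2 i y) x).1, (fm_facts y (ac h2 i x)).1, h3,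
    (fm_facts y x).1]
  cases fm x y <;> cases fm x (ac h2 i y) <;> rfl

theorem nm_cx (g : Spn F 3) (x y : Fin 64) : cx (nm h2 g x) (nm h2 g y) = nm h2 g (cx x y) := by
  simp only [nm, ac_cx]
  rw [cx_assoc, cx_assoc, ← cx_assoc x, (cx_facts x (ac h2 g y)).1, cx_assoc (ac h2 g y)]

/-- One step: multiplying by a word in the image enlarges the fixed space. -/
theorem step {i : Spn F 3} (hi : i * i = 1) (hi1 : i ≠ 1) :
    ∃ l : List (Fin 64), (∀ c ∈ l, ∃ x, c = nm h2 i x) ∧ (∀ c ∈ l, ∀ d ∈ l, fm c d = false) ∧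
      (∀ y, ac h2 i y = y → wact l y = y) ∧ ∃ x, ac h2 i x ≠ x ∧ wact l (ac h2 i x) = x := by
  have hinv : ∀ z, ac h2 i (ac h2 i z) = z := fun z => by rw [← ac_mul, hi, ac_one]
  have hfix : ∀ z y, ac h2 i y = y → fm (nm h2 i z) y = false := fun z y hy => by
    have h1 : fm (ac h2 i z) y = fm z y := by conv_lhs => rw [← hy, fm_ac]
    rw [nm, fm_add h2, h1, Bool.xor_self]
  by_cases hA : ∃ x, fm x (ac h2 i x) = true
  · obtain ⟨x, hx⟩ := hA
    have hne : ac h2 i x ≠ x := fun h => by rw [h, (fm_facts x x).2.1] at hx; exact absurd hx (by simp)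
    refine ⟨[nm h2 i x], ?_, ?_, ?_, x, hne, ?_⟩
    · intro c hc; rw [List.mem_singleton] at hc; exact ⟨x, hc⟩
    · intro c hc d hd; rw [List.mem_singleton] at hc hd; rw [hc, hd]; exact fm_nm_nm h2 hi x x
    · intro y hy
      show mv _ y = y
      rw [mv_eq, hfix x y hy]; rfl
    · show mv _ (ac h2 i x) = x
      have h1 : fm (nm h2 i x) (ac h2 i x) = true := by
        rw [nm, fm_add h2, (fm_facts (ac h2 i x) (ac h2 i x)).2.1, hx]; rfl
      rw [mv_eq, h1, if_pos rfl, nm, (cx_facts (ac h2 i x) x).2.1]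
  · push Not at hA
    simp only [Bool.not_eq_true] at hA
    obtain ⟨x, hne⟩ : ∃ x, ac h2 i x ≠ x := by
      by_contra hall
      push Not at hall
      exact hi1 (ext_code h2 fun z => by rw [← vc_ac h2, hall, map_one]; rfl)
    set u := nm h2 i x with hu
    have hu0 : u ≠ 0 := fun h => hne ((cx_facts _ _).2.2.2.2.2 h)
    obtain ⟨y, hy⟩ := fm_nondeg u hu0
    set w := nm h2 i y with hw
    have huw : fm u w = false := fm_nm_nm h2 hi x y
    have hux : fm u (ac h2 i x) = false := by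
      rw [hu, nm, fm_add h2, (fm_facts (ac h2 i x) (ac h2 i x)).2.1, hA x]; rfl
    have hwx : fm w (ac h2 i x) = true := by
      rw [hw, nm, fm_add h2, fm_ac]
      rw [hu, nm, fm_add h2] at hy
      rw [(fm_facts y x).1, (fm_facts y (ac h2 i x)).1]
      rw [Bool.xor_comm]
      exact hy
    refine ⟨[u, w, cx u w], ?_, ?_, ?_, x, hne, ?_⟩
    · intro c hc
      simp only [List.mem_cons, List.not_mem_nil, or_false] at hc
      rcases hc with rfl | rfl | rfl
      exacts [⟨x, rfl⟩, ⟨y, rfl⟩, ⟨cx x y, nm_cx h2 i x y⟩]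
    · have hall : ∀ c ∈ [u, w, cx u w], ∃ z, c = nm h2 i z := by
        intro c hc
        simp only [List.mem_cons, List.not_mem_nil, or_false] at hc
        rcases hc with rfl | rfl | rfl
        exacts [⟨x, rfl⟩, ⟨y, rfl⟩, ⟨cx x y, nm_cx h2 i x y⟩]
      intro c hc d hd
      obtain ⟨a, rfl⟩ := hall c hc
      obtain ⟨b, rfl⟩ := hall d hd
      exact fm_nm_nm h2 hi a b
    · intro z hz
      have h1 : fm u z = false := hfix x z hz
      have h2' : fm w z = false := hfix y z hz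
      have h3 : fm (cx u w) z = false := by rw [fm_add h2, h1, h2']; rfl
      show mv u (mv w (mv (cx u w) z)) = z
      simp [mv_eq, h1, h2', h3]
    · set z := ac h2 i x with hz
      show mv u (mv w (mv (cx u w) z)) = x
      have e1 : fm (cx u w) z = true := by rw [fm_add h2, hux, hwx]; rfl
      have e2 : mv (cx u w) z = cx z (cx u w) := by rw [mv_eq, e1]; rfl
      have e3 : fm w (cx z (cx u w)) = true := by
        rw [(fm_facts w _).1, fm_add h2, fm_add h2, (fm_facts z w).1, hwx, huw, (fm_facts w w).2.1]; rfl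
      have e4 : mv w (cx z (cx u w)) = cx z u := by
        rw [mv_eq, e3, if_pos rfl, cx_assoc, cx_assoc, (cx_facts w w).2.2.2.2.1, (cx_facts u 0).2.2.1]
      have e5 : fm u (cx z u) = false := by
        rw [(fm_facts u _).1, fm_add h2, (fm_facts z u).1, hux, (fm_facts u u).2.1]; rfl
      rw [e2, e4, mv_eq, e5, if_neg (by simp)]
      rw [hu, nm, (cx_facts z x).2.1]

/-- Every involution is a product of transvections in pairwise orthogonal vectors. -/
theorem exists_word : ∀ (N : ℕ) (i : Spn F 3),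
    (Finset.univ.filter fun x => ac h2 i x ≠ x).card ≤ N → i * i = 1 →
      ∃ l : List (Fin 64), i = W l ∧ ∀ c ∈ l, ∃ x, c = nm h2 i x := by
  intro N
  induction N with
  | zero =>
    intro i hN _
    refine ⟨[], ext_code h2 fun z => ?_, by simp⟩
    rw [W_nil, map_one, ← vc_ac h2]
    by_contra hz
    have : z ∈ Finset.univ.filter fun x => ac h2 i x ≠ x :=
      Finset.mem_filter.2 ⟨Finset.mem_univ _, fun h => hz (by rw [h]; rfl)⟩
    exact absurd (Finset.card_pos.2 ⟨z, this⟩) (by omega)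
  | succ N ih =>
    intro i hN hi
    by_cases hi1 : i = 1
    · exact ⟨[], by rw [hi1, W_nil], by simp⟩
    obtain ⟨l, hl, horth, hkeep, x, hx, hxl⟩ := step h2 hi hi1
    have hPi : W l * i = i * W l := by
      have e : i * W l * i⁻¹ = W l := by
        rw [W_conj h2]
        refine congrArg W (List.map_congr_left fun c hc => ?_) |>.trans (by rw [List.map_id])
        obtain ⟨z, rfl⟩ := hl c hc
        show ac h2 i (nm h2 i z) = nm h2 i z
        rw [nm, ac_cx, ← ac_mul, hi, ac_one, (cx_facts z (ac h2 i z)).1]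
      exact (mul_inv_eq_iff_eq_mul.1 e).symm
    have hP := W_sq h2 horth
    have hi' : W l * i * (W l * i) = 1 := by
      rw [show W l * i * (W l * i) = W l * i * (i * W l) by rw [← hPi], ← mul_assoc,
        mul_assoc (W l) i i, hi, mul_one, hP]
    have hsub : (Finset.univ.filter fun z => ac h2 (W l * i) z ≠ z) ⊂
        Finset.univ.filter fun z => ac h2 i z ≠ z := by
      refine (Finset.ssubset_iff_of_subset ?_).2 ⟨x, by simpa using hx, by
        simp [ac_mul, ac_W, hxl]⟩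
      intro z hz
      simp only [Finset.mem_filter, Finset.mem_univ, true_and] at hz ⊢
      exact fun h => hz (by rw [ac_mul, h, ac_W, hkeep z h])
    obtain ⟨l', hl', hmem⟩ := ih (W l * i) (by have := Finset.card_lt_card hsub; omega) hi'
    refine ⟨l ++ l', ?_, fun c hc => ?_⟩
    · rw [W_append, ← hl', ← mul_assoc, hP, one_mul]
    rcases List.mem_append.1 hc with hc | hc
    · exact hl c hc
    obtain ⟨z, rfl⟩ := hmem c hc
    -- the image only shrinks
    have hcl : ∀ (m : List (Fin 64)), (∀ c ∈ m, ∃ a, c = nm h2 i a) → ∀ r : Fin 64,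
        ∃ a, cx (wact m r) r = nm h2 i a := by
      intro m hm r
      induction m with
      | nil => exact ⟨0, by simp [wact, (cx_facts r r).2.2.2.2.1, nm, ac_zero, (cx_facts 0 0).2.2.1]⟩
      | cons c m ihm =>
        obtain ⟨a, ha⟩ := ihm fun d hd => hm d (List.mem_cons_of_mem _ hd)
        show ∃ a', cx (mv c (wact m r)) r = nm h2 i a'
        rw [mv_eq]
        split_ifs
        · obtain ⟨b, hb⟩ := hm c List.mem_cons_self
          exact ⟨cx b a, by rw [← nm_cx, ← ha, ← hb, (cx_facts (wact m r) c).1, cx_assoc]⟩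
        · exact ⟨a, ha⟩
    obtain ⟨a, ha⟩ := hcl l hl (ac h2 i z)
    refine ⟨cx a z, ?_⟩
    rw [← nm_cx, ← ha, nm, nm, ac_mul, ac_W, cx_assoc, (cx_facts (ac h2 i z) _).2.1]

/-- Two transvections moving a code. -/
theorem ac_pair (w1 w2 x : Fin 64) : ac h2 (W [w1, w2] : Spn F 3) x = mv w1 (mv w2 x) := ac_W h2 _ x

theorem mv_fixed {w x : Fin 64} (h : fm w x = false) : mv w x = x := by rw [mv_eq, h]; rfl

/-- Witt's theorem for the first vector. -/
theorem move_one {u : Fin 64} (hu : u ≠ 0) : ∃ g : Spn F 3, ac h2 g u = 1 := by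
  obtain ⟨w1, w2, hw⟩ := stage0 u hu
  exact ⟨W [w1, w2], by rw [ac_pair, hw]⟩

/-- Witt's theorem for the second vector. -/
theorem move_two {u : Fin 64} (hu : u ≠ 0) (hu1 : u ≠ 1) (ho : fm 1 u = false) :
    ∃ g : Spn F 3, ac h2 g 1 = 1 ∧ ac h2 g u = 2 := by
  obtain ⟨w1, w2, ha, hb, hw⟩ := stage1 u hu hu1 ho
  refine ⟨W [w1, w2], ?_, by rw [ac_pair, hw]⟩
  rw [ac_pair, mv_fixed h2 hb, mv_fixed h2 ha]

/-- Witt's theorem for the third vector. -/
theorem move_three {u : Fin 64} (hu : 4 ≤ u.val) (ho : fm 1 u = false) (ho' : fm 2 u = false) :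
    ∃ g : Spn F 3, ac h2 g 1 = 1 ∧ ac h2 g 2 = 2 ∧ ac h2 g u = 4 := by
  obtain ⟨w1, w2, ha, hb, ha', hb', hw⟩ := stage2 u hu ho ho'
  refine ⟨W [w1, w2], ?_, ?_, by rw [ac_pair, hw]⟩
  · rw [ac_pair, mv_fixed h2 hb, mv_fixed h2 ha]
  · rw [ac_pair, mv_fixed h2 hb', mv_fixed h2 ha']

theorem witt (l : List (Fin 64)) (h : ∀ c ∈ l, ∀ d ∈ l, fm c d = false) :
    ∃ g : Spn F 3, ∀ c ∈ l, (ac h2 g c).val < 8 := by
  by_cases h0 : ∀ c ∈ l, c = 0
  · exact ⟨1, fun c hc => by rw [ac_one, h0 c hc]; simp⟩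
  push Not at h0
  obtain ⟨u, hu, hu0⟩ := h0
  obtain ⟨g1, hg1⟩ := move_one h2 hu0
  by_cases hb1 : ∀ c ∈ l, (ac h2 g1 c).val < 4
  · exact ⟨g1, fun c hc => lt_trans (hb1 c hc) (by norm_num)⟩
  push Not at hb1
  obtain ⟨v, hv, hv4⟩ := hb1
  have ho : ∀ c ∈ l, ∀ d ∈ l, fm (ac h2 g1 c) (ac h2 g1 d) = false := fun c hc d hd => by
    rw [fm_ac]; exact h c hc d hd
  obtain ⟨g2, h21, h22⟩ := move_two h2 (u := ac h2 g1 v) (by intro e; rw [e] at hv4; simp at hv4)
    (by intro e; rw [e] at hv4; simp at hv4) (hg1 ▸ ho u hu v hv)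
  by_cases hb2 : ∀ c ∈ l, (ac h2 (g2 * g1) c).val < 4
  · exact ⟨g2 * g1, fun c hc => lt_trans (hb2 c hc) (by norm_num)⟩
  push Not at hb2
  obtain ⟨w, hw, hw4⟩ := hb2
  have ho2 : ∀ c ∈ l, ∀ d ∈ l, fm (ac h2 (g2 * g1) c) (ac h2 (g2 * g1) d) = false := fun c hc d hd => by
    rw [fm_ac]; exact h c hc d hd
  have e1 : ac h2 (g2 * g1) u = 1 := by rw [ac_mul, hg1, h21]
  have e2 : ac h2 (g2 * g1) v = 2 := by rw [ac_mul, h22]
  obtain ⟨g3, h31, h32, h33⟩ := move_three h2 hw4 (e1 ▸ ho2 u hu w hw) (e2 ▸ ho2 v hv w hw)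
  refine ⟨g3 * (g2 * g1), fun c hc => orth_small.1 _ ?_ ?_ ?_⟩
  · rw [← h31, ac_mul h2 g3 (g2 * g1) c, fm_ac, ← e1]; exact ho2 u hu c hc
  · rw [← h32, ac_mul h2 g3 (g2 * g1) c, fm_ac, ← e2]; exact ho2 v hv c hc
  · rw [← h33, ac_mul h2 g3 (g2 * g1) c, fm_ac]; exact ho2 w hw c hc

theorem small_word : ∀ l : List (Fin 64), (∀ c ∈ l, c.val < 8) → ∃ m, (W l : Spn F 3) = W (els m) := by
  intro l
  induction l with
  | nil => exact fun _ => ⟨0, by rw [show els 0 = [] by decide +kernel]⟩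
  | cons c l ih =>
    intro h
    obtain ⟨m, hm⟩ := ih fun d hd => h d (List.mem_cons_of_mem _ hd)
    exact ⟨tog c m, by rw [W_cons, hm, ← W_cons]; exact W_eq h2 (tog_spec c (h c List.mem_cons_self) m)⟩

theorem std_conj (m : Fin 128) : IsConj (W (rep (witOf m).1) : Spn F 3) (W (els m)) := by
  refine isConj_iff.2 ⟨W (witOf m).2, ?_⟩
  rw [W_reverse, ← W_append, ← W_append]
  exact W_eq h2 (wit_spec m)

/-- The classification of the involutions. -/
theorem classify {i : Spn F 3} (hi : i * i = 1) :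
    i = 1 ∨ ∃ k : Fin 5, k ≠ 0 ∧ IsConj (W (rep k)) i := by
  obtain ⟨l, rfl, hl⟩ := exists_word h2 _ i le_rfl hi
  have horth : ∀ c ∈ l, ∀ d ∈ l, fm c d = false := fun c hc d hd => by
    obtain ⟨a, rfl⟩ := hl c hc
    obtain ⟨b, rfl⟩ := hl d hd
    exact fm_nm_nm h2 hi a b
  obtain ⟨g, hg⟩ := witt h2 l horth
  obtain ⟨m, hm⟩ := small_word h2 (l.map (ac h2 g)) fun c hc => by
    obtain ⟨d, hd, rfl⟩ := List.mem_map.1 hc
    exact hg d hd
  have hc : IsConj (W (rep (witOf m).1) : Spn F 3) (W l) := by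
    refine (std_conj h2 m).trans ?_
    rw [← hm, ← W_conj h2]
    exact (isConj_iff.2 ⟨g, rfl⟩).symm
  by_cases hk : (witOf m).1 = 0
  · refine Or.inl ?_
    rw [hk, show rep 0 = [] by decide +kernel, W_nil] at hc
    exact isConj_one_right.1 hc
  · exact Or.inr ⟨_, hk, hc⟩

end CfsgLib.PSpFourRec.SpSix
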