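import Cfsg.Agent.PSpFourRec.TwoReps

/-!
# A two-subgroup of the centralizer of the transposition, modulo the transposition
-/

set_option autoImplicit false
set_option maxRecDepth 100000
set_option synthInstance.maxSize 100000
set_option linter.style.haveILetI false
set_option linter.unusedSectionVars false

namespace CfsgLib.PSpFourRec

open CfsgLib.AltNine CfsgLib.PSpFourThree Subgroup TwoModel
open CfsgLib.ThreeSymNine (Mat app mm pmat dmat mono pa pm pinv dig sm nv_nv pa_table app_pmat app_one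
  ext_app allSigns dx du db pd bc mono_tables)

attribute [local instance 10000] List.decidableBAll List.decidableBEx

universe u

namespace Hyp

variable {G : Type u} [Group G]

/-- The centralizer of the transposition. -/
abbrev Cz (H : Hyp G) : Subgroup G := centralizer ({H.S 1} : Set G)

theorem mem_Cz {H : Hyp G} {g : G} : g ∈ H.Cz ↔ g * H.S 1 = H.S 1 * g :=
  mem_centralizer_singleton_iff

/-- The transposition in its centralizer. -/
def zq (H : Hyp G) : Subgroup H.Cz :=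
  zpowers ⟨H.S 1, mem_centralizer_singleton_iff.2 rfl⟩

instance zq_normal (H : Hyp G) : H.zq.Normal := ⟨fun n hn g => by
  obtain ⟨i, rfl⟩ := mem_zpowers_iff.1 hn
  have hc : Commute g (⟨H.S 1, mem_centralizer_singleton_iff.2 rfl⟩ : H.Cz) :=
    Subtype.ext (mem_centralizer_singleton_iff.1 g.2)
  rw [(hc.zpow_right i).eq, mul_inv_cancel_right]
  exact zpow_mem (mem_zpowers _) i⟩

/-- The centralizer of the transposition modulo the transposition. -/
abbrev Xq (H : Hyp G) : Type u := H.Cz ⧸ H.zq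

open Classical in
/-- The image of an element of the centralizer of the transposition. -/
noncomputable def bar (H : Hyp G) (g : G) : H.Xq :=
  if hg : g ∈ H.Cz then QuotientGroup.mk ⟨g, hg⟩ else 1

theorem bar_mk {H : Hyp G} (g : H.Cz) : H.bar g = QuotientGroup.mk g := by
  rw [bar, dif_pos g.2]

theorem bar_mul {H : Hyp G} {g k : G} (hg : g ∈ H.Cz) (hk : k ∈ H.Cz) :
    H.bar (g * k) = H.bar g * H.bar k := by
  rw [bar, bar, bar, dif_pos (mul_mem hg hk), dif_pos hg, dif_pos hk]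
  rfl

theorem bar_one {H : Hyp G} : H.bar 1 = 1 := by
  rw [bar, dif_pos (one_mem _)]
  rfl

theorem bar_inv {H : Hyp G} {g : G} (hg : g ∈ H.Cz) : H.bar g⁻¹ = (H.bar g)⁻¹ := by
  rw [eq_inv_iff_mul_eq_one, ← bar_mul (inv_mem hg) hg, inv_mul_cancel, bar_one]

variable [Finite G] {H : Hyp G} {D : Fin 8 → G}

theorem bar_eq {g k : G} (hg : g ∈ H.Cz) (hk : k ∈ H.Cz) :
    H.bar g = H.bar k ↔ H.ZEq g k := by
  rw [bar, bar, dif_pos hg, dif_pos hk, eq_comm, QuotientGroup.eq]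
  constructor
  · intro h
    obtain ⟨i, hi⟩ := h
    have h' : k⁻¹ * g ∈ zpowers (H.S 1) := ⟨i, by
      have := congrArg Subtype.val hi
      simpa using this⟩
    rcases mem_zpowers_z.1 h' with e | e
    · exact Or.inl (inv_mul_eq_one.1 e).symm
    · exact Or.inr (inv_mul_eq_iff_eq_mul.1 e)
  · rintro (rfl | rfl)
    · simp [zq]
    · refine ⟨1, Subtype.ext ?_⟩
      simp

theorem bar_z : H.bar (H.S 1) = 1 := by
  rw [← bar_one, bar_eq (mem_Cz.2 rfl) (one_mem _)]
  exact Or.inr (one_mul _).symm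

theorem bar_eq_one {g : G} (hg : g ∈ H.Cz) : H.bar g = 1 ↔ g = 1 ∨ g = H.S 1 := by
  rw [← bar_one, bar_eq hg (one_mem _), ZEq, one_mul]

theorem bar_surjective (x : H.Xq) : ∃ g ∈ H.Cz, H.bar g = x := by
  obtain ⟨g, rfl⟩ := QuotientGroup.mk_surjective x
  exact ⟨g, g.2, bar_mk g⟩

/-- Conjugate classes lift to conjugate pairs. -/
theorem bar_conj {u w : G} (hu : u ∈ H.Cz) (hw : w ∈ H.Cz) {x : H.Xq}
    (h : x * H.bar u * x⁻¹ = H.bar w) :
    ∃ c ∈ H.Cz, c * u * c⁻¹ = w ∨ c * u * c⁻¹ = w * H.S 1 := by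
  obtain ⟨c, hc, rfl⟩ := bar_surjective x
  refine ⟨c, hc, ?_⟩
  rw [← bar_inv hc, ← bar_mul hc hu, ← bar_mul (mul_mem hc hu) (inv_mem hc),
    bar_eq (mul_mem (mul_mem hc hu) (inv_mem hc)) hw] at h
  exact h

/-- The data for the two-subgroup. -/
structure Two (H : Hyp G) (D : Fin 8 → G) (Vs : List (Fin 4)) (q e : Fin 4 → G) : Prop where
  reps : H.Reps D q
  vs : Vs ∈ vsList
  comm : ∀ a b, Commute (q a) (D 4 * q b * D 4)
  e_zero : e 0 = 1
  e_z : ∀ v, e v * H.S 1 = H.S 1 * e v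
  e_add : ∀ v w, H.ZEq (e v * e w) (e (x4 v w))
  e_q : ∀ v a, Commute (e v) (q a)
  e_four : ∀ v, Commute (D 4) (e v)
  e_three : ∀ v, H.ZEq (D 3 * e v * D 3) (e (al v))
  e_inj : ∀ v ∈ Vs, H.ZEq (e v) 1 → v = 0
  e_conj : ∀ v ∈ Vs, v ≠ 0 → IsConj (e v) (D 3) ∧ IsConj (e v * H.S 1) (D 4)

variable {Vs : List (Fin 4)} {q e : Fin 4 → G}

theorem Two.flips (h : H.Two D Vs q e) : H.Flips D := h.reps.flips

theorem Flips.mem_Cz' (h : H.Flips D) {d : Fin 8} (hd : d ∈ ([3, 4, 7] : List (Fin 8))) :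
    D d ∈ H.Cz := by
  simp only [List.mem_cons, List.not_mem_nil, or_false] at hd
  rcases hd with rfl | rfl | rfl
  · exact mem_Cz.2 h.four_z.2
  · exact mem_Cz.2 h.four_z.1
  · exact mem_Cz.2 h.seven.1

theorem Two.q_mem (h : H.Two D Vs q e) (a : Fin 4) : q a ∈ H.Cz :=
  mem_Cz.2 (Q1_cent (h.reps.mem a)).2

theorem Two.e_mem (h : H.Two D Vs q e) (v : Fin 4) : e v ∈ H.Cz := mem_Cz.2 (h.e_z v)

/-- The image of the first quaternion group. -/
noncomputable def bA (H : Hyp G) (q : Fin 4 → G) (a : Fin 4) : H.Xq := H.bar (q a)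

/-- The image of the second quaternion group. -/
noncomputable def bB (H : Hyp G) (D : Fin 8 → G) (q : Fin 4 → G) (a : Fin 4) : H.Xq :=
  H.bar (D 4) * H.bar (q a) * H.bar (D 4)

/-- The images of the four group. -/
noncomputable def bsig (H : Hyp G) (D : Fin 8 → G) (s : Fin 4) : H.Xq :=
  ![1, H.bar (D 4), H.bar (D 3), H.bar (D 7)] s

/-- The image of a vector. -/
noncomputable def kap (H : Hyp G) (D : Fin 8 → G) (q e : Fin 4 → G) (k : Kv) : H.Xq :=
  H.bA q k.1 * H.bB D q k.2.1 * H.bar (e k.2.2)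

/-- The image of an element of the model. -/
noncomputable def phi (H : Hyp G) (D : Fin 8 → G) (q e : Fin 4 → G) (y : Mdl) : H.Xq :=
  H.kap D q e y.1 * H.bsig D y.2

theorem Two.four_sq (h : H.Two D Vs q e) : H.bar (D 4) * H.bar (D 4) = 1 := by
  rw [← bar_mul (h.flips.mem_Cz' (by decide)) (h.flips.mem_Cz' (by decide)), h.flips.sq, bar_one]

theorem Two.bB_eq (h : H.Two D Vs q e) (a : Fin 4) :
    H.bB D q a = H.bar (D 4 * q a * D 4) := by
  have h4 := h.flips.mem_Cz' (d := 4) (by decide)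
  rw [bB, bar_mul (mul_mem h4 (h.q_mem a)) h4, bar_mul h4 (h.q_mem a)]

theorem Two.relA (h : H.Two D Vs q e) (a b : Fin 4) :
    H.bA q a * H.bA q b = H.bA q (x4 a b) := by
  rw [bA, bA, bA, ← bar_mul (h.q_mem a) (h.q_mem b), bar_eq (mul_mem (h.q_mem a) (h.q_mem b))
    (h.q_mem _)]
  exact h.reps.add a b

theorem Two.relB (h : H.Two D Vs q e) (a b : Fin 4) :
    H.bB D q a * H.bB D q b = H.bB D q (x4 a b) := by
  have e1 := h.relA a b
  simp only [bA] at e1
  simp only [bB]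
  calc H.bar (D 4) * H.bar (q a) * H.bar (D 4) * (H.bar (D 4) * H.bar (q b) * H.bar (D 4))
      = H.bar (D 4) * (H.bar (q a) * (H.bar (D 4) * H.bar (D 4)) * H.bar (q b)) * H.bar (D 4) := by
        group
    _ = _ := by rw [h.four_sq, mul_one, e1]

theorem Two.relE (h : H.Two D Vs q e) (v w : Fin 4) :
    H.bar (e v) * H.bar (e w) = H.bar (e (x4 v w)) := by
  rw [← bar_mul (h.e_mem v) (h.e_mem w), bar_eq (mul_mem (h.e_mem v) (h.e_mem w)) (h.e_mem _)]
  exact h.e_add v w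

theorem Two.commAB (h : H.Two D Vs q e) (a b : Fin 4) :
    Commute (H.bA q a) (H.bB D q b) := by
  have h4 := h.flips.mem_Cz' (d := 4) (by decide)
  have hm := mul_mem (mul_mem h4 (h.q_mem b)) h4
  rw [h.bB_eq, bA]
  show _ * _ = _ * _
  rw [← bar_mul (h.q_mem a) hm, ← bar_mul hm (h.q_mem a), (h.comm a b).eq]

theorem Two.commAE (h : H.Two D Vs q e) (a v : Fin 4) :
    Commute (H.bA q a) (H.bar (e v)) := by
  rw [bA]
  show _ * _ = _ * _
  rw [← bar_mul (h.q_mem a) (h.e_mem v), ← bar_mul (h.e_mem v) (h.q_mem a), (h.e_q v a).eq]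

theorem Two.commFE (h : H.Two D Vs q e) (v : Fin 4) :
    Commute (H.bar (D 4)) (H.bar (e v)) := by
  show _ * _ = _ * _
  rw [← bar_mul (h.flips.mem_Cz' (by decide)) (h.e_mem v),
    ← bar_mul (h.e_mem v) (h.flips.mem_Cz' (by decide)), (h.e_four v).eq]

theorem Two.commBE (h : H.Two D Vs q e) (a v : Fin 4) :
    Commute (H.bB D q a) (H.bar (e v)) :=
  ((h.commFE v).mul_left (show Commute (H.bar (q a)) _ from h.commAE a v)).mul_left (h.commFE v)

theorem Two.kap_add (h : H.Two D Vs q e) (k k' : Kv) :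
    H.kap D q e k * H.kap D q e k' = H.kap D q e (kadd k k') := by
  obtain ⟨a, b, v⟩ := k
  obtain ⟨a', b', v'⟩ := k'
  simp only [kap, kadd]
  rw [← h.relA, ← h.relB, ← h.relE]
  rw [Commute.mul_mul_mul_comm (((h.commAE a' v).mul_left (h.commBE b' v)).symm)
    (H.bA q a * H.bB D q b) (H.bar (e v')),
    Commute.mul_mul_mul_comm (h.commAB a' b).symm (H.bA q a) (H.bB D q b')]

theorem Two.bsig_sq (h : H.Two D Vs q e) (s : Fin 4) : H.bsig D s * H.bsig D s = 1 := by
  have hd : ∀ d ∈ ([3, 4, 7] : List (Fin 8)), H.bar (D d) * H.bar (D d) = 1 := fun d hd => by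
    rw [← bar_mul (h.flips.mem_Cz' hd) (h.flips.mem_Cz' hd), h.flips.sq, bar_one]
  fin_cases s
  · exact one_mul _
  · exact hd 4 (by decide)
  · exact hd 3 (by decide)
  · exact hd 7 (by decide)

theorem Two.bsig_mul (h : H.Two D Vs q e) (s t : Fin 4) :
    H.bsig D s * H.bsig D t = H.bsig D (x4 s t) := by
  have hd : ∀ c d, c ∈ ([3, 4, 7] : List (Fin 8)) → d ∈ ([3, 4, 7] : List (Fin 8)) →
      H.bar (D c) * H.bar (D d) = H.bar (D (dx c d)) := fun c d hc hd => by
    rw [← bar_mul (h.flips.mem_Cz' hc) (h.flips.mem_Cz' hd), h.flips.mul]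
  have hs := h.bsig_sq
  fin_cases s <;> fin_cases t
  · exact one_mul _
  · exact one_mul _
  · exact one_mul _
  · exact one_mul _
  · exact mul_one _
  · exact hs 1
  · exact (hd 4 3 (by decide) (by decide)).trans (by rw [show dx 4 3 = 7 by decide +kernel]; rfl)
  · exact (hd 4 7 (by decide) (by decide)).trans (by rw [show dx 4 7 = 3 by decide +kernel]; rfl)
  · exact mul_one _
  · exact (hd 3 4 (by decide) (by decide)).trans (by rw [show dx 3 4 = 7 by decide +kernel]; rfl)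
  · exact hs 2
  · exact (hd 3 7 (by decide) (by decide)).trans (by rw [show dx 3 7 = 4 by decide +kernel]; rfl)
  · exact mul_one _
  · exact (hd 7 4 (by decide) (by decide)).trans (by rw [show dx 7 4 = 3 by decide +kernel]; rfl)
  · exact (hd 7 3 (by decide) (by decide)).trans (by rw [show dx 7 3 = 4 by decide +kernel]; rfl)
  · exact hs 3

theorem Two.four_kap (h : H.Two D Vs q e) (k : Kv) :
    H.bar (D 4) * H.kap D q e k * H.bar (D 4) = H.kap D q e (k.2.1, k.1, k.2.2) := by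
  obtain ⟨a, b, v⟩ := k
  simp only [kap, bA, bB]
  calc H.bar (D 4) * (H.bar (q a) * (H.bar (D 4) * H.bar (q b) * H.bar (D 4)) * H.bar (e v)) *
        H.bar (D 4)
      = H.bar (D 4) * H.bar (q a) * H.bar (D 4) * H.bar (q b) *
          (H.bar (D 4) * H.bar (e v) * H.bar (D 4)) := by group
    _ = H.bB D q a * H.bA q b * H.bar (e v) := by
        rw [(h.commFE v).eq, mul_assoc (H.bar (e v)), h.four_sq, mul_one]
        rfl
    _ = _ := by rw [(h.commAB b a).symm.eq]; rfl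

theorem Two.seven_kap (h : H.Two D Vs q e) (k : Kv) :
    H.bar (D 7) * H.kap D q e k * H.bar (D 7) = H.kap D q e (al k.1, al k.2.1, al k.2.2) := by
  obtain ⟨a, b, v⟩ := k
  have h4 := h.flips.mem_Cz' (d := 4) (by decide)
  have h3 := h.flips.mem_Cz' (d := 3) (by decide)
  have h7 := h.flips.mem_Cz' (d := 7) (by decide)
  have hJ2 : H.bar (D 7) * H.bar (D 7) = 1 := h.bsig_sq 3
  have hA : ∀ c, H.bar (D 7) * H.bA q c * H.bar (D 7) = H.bA q (al c) := fun c => by
    rw [bA, bA, ← bar_mul h7 (h.q_mem c), ← bar_mul (mul_mem h7 (h.q_mem c)) h7,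
      bar_eq (mul_mem (mul_mem h7 (h.q_mem c)) h7) (h.q_mem _)]
    exact h.reps.alpha c
  have hE : H.bar (D 7) * H.bar (e v) * H.bar (D 7) = H.bar (e (al v)) := by
    rw [← bar_mul h7 (h.e_mem v), ← bar_mul (mul_mem h7 (h.e_mem v)) h7,
      bar_eq (mul_mem (mul_mem h7 (h.e_mem v)) h7) (h.e_mem _),
      show D 7 * e v * D 7 = D 3 * e v * D 3 by
        rw [show D 7 = D 3 * D 4 by rw [h.flips.mul, elem_tables.2.2.1],
          mul_assoc (D 3) (D 4) (e v), (h.e_four v).eq,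
          show D 3 * D 4 = D 4 * D 3 from h.flips.comm 3 4]
        calc D 3 * (e v * D 4) * (D 4 * D 3) = D 3 * (e v * (D 4 * D 4)) * D 3 := by group
          _ = _ := by rw [h.flips.sq, mul_one]]
    exact h.e_three v
  have hc : H.bar (D 7) * H.bar (D 4) = H.bar (D 4) * H.bar (D 7) := by
    rw [← bar_mul h7 h4, ← bar_mul h4 h7, h.flips.comm]
  have hB : ∀ c, H.bar (D 7) * H.bB D q c * H.bar (D 7) = H.bB D q (al c) := fun c => by
    simp only [bB]
    calc H.bar (D 7) * (H.bar (D 4) * H.bar (q c) * H.bar (D 4)) * H.bar (D 7)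
        = (H.bar (D 7) * H.bar (D 4)) * H.bar (q c) * (H.bar (D 4) * H.bar (D 7)) := by group
      _ = (H.bar (D 4) * H.bar (D 7)) * H.bar (q c) * (H.bar (D 7) * H.bar (D 4)) := by rw [hc]
      _ = H.bar (D 4) * (H.bar (D 7) * H.bA q c * H.bar (D 7)) * H.bar (D 4) := by
          rw [bA]
          group
      _ = _ := by rw [hA]; rfl
  simp only [kap]
  calc H.bar (D 7) * (H.bA q a * H.bB D q b * H.bar (e v)) * H.bar (D 7)
      = H.bar (D 7) * H.bA q a * (H.bar (D 7) * H.bar (D 7)) * H.bB D q b *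
          (H.bar (D 7) * H.bar (D 7)) * H.bar (e v) * H.bar (D 7) := by
        rw [hJ2]; group
    _ = (H.bar (D 7) * H.bA q a * H.bar (D 7)) * (H.bar (D 7) * H.bB D q b * H.bar (D 7)) *
          (H.bar (D 7) * H.bar (e v) * H.bar (D 7)) := by group
    _ = _ := by rw [hA, hB, hE]

theorem Two.bsig_kap (h : H.Two D Vs q e) (s : Fin 4) (k : Kv) :
    H.bsig D s * H.kap D q e k * H.bsig D s = H.kap D q e (act s k) := by
  obtain ⟨a, b, v⟩ := k
  fin_cases s
  · exact (mul_one _).trans (one_mul _)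
  · exact h.four_kap _
  · have e3 : H.bar (D 3) = H.bar (D 4) * H.bar (D 7) := by
      rw [← bar_mul (h.flips.mem_Cz' (by decide)) (h.flips.mem_Cz' (by decide)), h.flips.mul,
        show dx 4 7 = 3 by decide +kernel]
    have e3' : H.bar (D 3) = H.bar (D 7) * H.bar (D 4) := by
      rw [← bar_mul (h.flips.mem_Cz' (by decide)) (h.flips.mem_Cz' (by decide)), h.flips.mul,
        show dx 7 4 = 3 by decide +kernel]
    show H.bar (D 3) * _ * H.bar (D 3) = H.kap D q e (al b, al a, al v)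
    nth_rw 1 [e3]
    rw [e3', ← mul_assoc, mul_assoc (H.bar (D 4)) (H.bar (D 7)), mul_assoc (H.bar (D 4)),
      h.seven_kap, h.four_kap]
  · exact h.seven_kap _

theorem Two.phi_mul (h : H.Two D Vs q e) (y y' : Mdl) :
    H.phi D q e y * H.phi D q e y' = H.phi D q e (mmul y y') := by
  obtain ⟨k, s⟩ := y
  obtain ⟨k', s'⟩ := y'
  simp only [phi, mmul]
  calc H.kap D q e k * H.bsig D s * (H.kap D q e k' * H.bsig D s')
      = H.kap D q e k * (H.bsig D s * H.kap D q e k' * H.bsig D s) *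
          ((H.bsig D s)⁻¹ * H.bsig D s') := by group
    _ = _ := by
        rw [h.bsig_kap, h.kap_add, inv_eq_of_mul_eq_one_right (h.bsig_sq s), h.bsig_mul]

theorem Two.phi_one (h : H.Two D Vs q e) : H.phi D q e m1 = 1 := by
  simp only [phi, m1, kap, bA, bB]
  rw [h.reps.one, h.e_zero, bar_one]
  show 1 * (H.bar (D 4) * 1 * H.bar (D 4)) * 1 * 1 = 1
  rw [mul_one, mul_one, mul_one, one_mul, h.four_sq]

theorem Two.kap_eq (h : H.Two D Vs q e) (k : Kv) :
    H.kap D q e k = H.bar (q k.1 * (D 4 * q k.2.1 * D 4) * e k.2.2) := by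
  have hB := h.bB_eq k.2.1
  have hm : D 4 * q k.2.1 * D 4 ∈ H.Cz :=
    mul_mem (mul_mem (h.flips.mem_Cz' (by decide)) (h.q_mem _)) (h.flips.mem_Cz' (by decide))
  rw [kap, bA, hB, bar_mul (mul_mem (h.q_mem _) hm) (h.e_mem _), bar_mul (h.q_mem _) hm]

theorem Two.lift_mem (h : H.Two D Vs q e) (k : Kv) :
    q k.1 * (D 4 * q k.2.1 * D 4) * e k.2.2 ∈ H.Cz :=
  mul_mem (mul_mem (h.q_mem _) (mul_mem (mul_mem (h.flips.mem_Cz' (by decide)) (h.q_mem _))
    (h.flips.mem_Cz' (by decide)))) (h.e_mem _)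

/-- A vector with a nonzero quaternion coordinate has its lifts conjugate. -/
theorem Two.pair_same (h : H.Two D Vs q e) {k : Kv} (hk : k.1 ≠ 0 ∨ k.2.1 ≠ 0) {y : G}
    (hy : y ∈ H.Cz) (hyk : H.bar y = H.kap D q e k) :
    ∃ c ∈ H.Cz, c * y * c⁻¹ = y * H.S 1 := by
  obtain ⟨a, b, v⟩ := k
  set w := q a * (D 4 * q b * D 4) * e v with hw
  have hwC : w ∈ H.Cz := h.lift_mem (a, b, v)
  suffices hsuf : ∃ c ∈ H.Cz, c * w * c⁻¹ = w * H.S 1 by
    obtain ⟨c, hc, hcw⟩ := hsuf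
    have hyw : H.ZEq y w := (bar_eq hy hwC).1 (hyk.trans (h.kap_eq _))
    have hcz : Commute c (H.S 1) := mem_Cz.1 hc
    refine ⟨c, hc, ?_⟩
    rcases hyw with rfl | rfl
    · exact hcw
    · calc c * (w * H.S 1) * c⁻¹ = c * w * (H.S 1 * c⁻¹) := by group
        _ = c * w * c⁻¹ * H.S 1 := by rw [← hcz.inv_left.eq]; group
        _ = _ := by rw [hcw]
  have hex : ∀ c : Fin 4, c ≠ 0 → ∃ d : Fin 4, d ≠ 0 ∧ d ≠ c := by decide
  have hq : ∀ a : Fin 4, a ≠ 0 → ∃ d : Fin 4, q d * q a = q a * q d * H.S 1 := by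
    intro a ha
    obtain ⟨d, hd, hda⟩ := hex a ha
    exact ⟨d, h.reps.noncomm d a hd ha (Ne.symm hda)⟩
  rcases hk with ha | hb
  · obtain ⟨d, hd⟩ := hq a ha
    refine ⟨q d, h.q_mem d, ?_⟩
    have hc : Commute (q d) ((D 4 * q b * D 4) * e v) := (h.comm d b).mul_right (h.e_q v d).symm
    have hz : Commute (H.S 1) ((D 4 * q b * D 4) * e v) := by
      refine (show Commute ((D 4 * q b * D 4) * e v) (H.S 1) from ?_).symm
      exact mem_Cz.1 (mul_mem (mul_mem (mul_mem (h.flips.mem_Cz' (by decide)) (h.q_mem b))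
        (h.flips.mem_Cz' (by decide))) (h.e_mem v))
    rw [hw, mul_assoc (q a)]
    calc q d * (q a * ((D 4 * q b * D 4) * e v)) * (q d)⁻¹
        = (q d * q a) * ((D 4 * q b * D 4) * e v) * (q d)⁻¹ := by group
      _ = q a * q d * (H.S 1 * ((D 4 * q b * D 4) * e v)) * (q d)⁻¹ := by rw [hd]; group
      _ = q a * (q d * ((D 4 * q b * D 4) * e v)) * (H.S 1 * (q d)⁻¹) := by rw [hz.eq]; group
      _ = q a * ((D 4 * q b * D 4) * e v) * (q d * H.S 1 * (q d)⁻¹) := by rw [hc.eq]; group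
      _ = _ := by rw [mem_Cz.1 (h.q_mem d), mul_inv_cancel_right]
  · obtain ⟨d, hd⟩ := hq b hb
    set F := D 4
    have hF2 : F * F = 1 := h.flips.sq 4
    have hFz : Commute F (H.S 1) := h.flips.four_z.1
    set c := F * q d * F
    have hcC : c ∈ H.Cz :=
      mul_mem (mul_mem (h.flips.mem_Cz' (by decide)) (h.q_mem d)) (h.flips.mem_Cz' (by decide))
    refine ⟨c, hcC, ?_⟩
    have hc1 : Commute c (q a) := (h.comm a d).symm
    have hc2 : Commute c (e v) :=
      ((h.e_four v).mul_left (h.e_q v d).symm).mul_left (h.e_four v)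
    have hd' : c * (F * q b * F) = F * q b * F * c * H.S 1 := by
      calc F * q d * F * (F * q b * F) = F * (q d * (F * F) * q b) * F := by group
        _ = F * (q b * q d * H.S 1) * F := by rw [hF2, mul_one, hd]
        _ = F * q b * q d * (H.S 1 * F) := by group
        _ = F * q b * (1 * q d) * F * H.S 1 := by rw [← hFz.eq]; group
        _ = F * q b * ((F * F) * q d) * F * H.S 1 := by rw [hF2]
        _ = _ := by
          show _ = F * q b * F * (F * q d * F) * H.S 1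
          group
    rw [hw]
    calc c * (q a * (F * q b * F) * e v) * c⁻¹
        = (c * q a) * (F * q b * F) * e v * c⁻¹ := by group
      _ = q a * (c * (F * q b * F)) * e v * c⁻¹ := by rw [hc1.eq]; group
      _ = q a * (F * q b * F) * c * (H.S 1 * e v) * c⁻¹ := by rw [hd']; group
      _ = q a * (F * q b * F) * (c * e v) * (H.S 1 * c⁻¹) := by rw [← h.e_z v]; group
      _ = q a * (F * q b * F) * e v * (c * H.S 1 * c⁻¹) := by rw [hc2.eq]; group
      _ = _ := by rw [mem_Cz.1 hcC, mul_inv_cancel_right]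

theorem Two.kap_inj (h : H.Two D Vs q e) {k : Kv} (hv : k.2.2 ∈ Vs)
    (hk : H.kap D q e k = 1) : k = (0, 0, 0) := by
  obtain ⟨a, b, v⟩ := k
  by_cases hab : a = 0 ∧ b = 0
  · obtain ⟨rfl, rfl⟩ := hab
    rw [h.kap_eq, h.reps.one, mul_one, h.flips.sq, one_mul, one_mul,
      bar_eq_one (h.e_mem v)] at hk
    rw [h.e_inj v hv (by rw [ZEq, one_mul]; exact hk)]
  · obtain ⟨c, -, hc⟩ := h.pair_same (k := (a, b, v)) (not_and_or.1 hab) (one_mem _)
      (bar_one.trans hk.symm)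
    rw [mul_one, mul_inv_cancel, one_mul] at hc
    exact absurd hc.symm S_ne_one

theorem Two.phi_inj (h : H.Two D Vs q e) {y y' : Mdl} (hy : y.1.2.2 ∈ Vs) (hy' : y'.1.2.2 ∈ Vs)
    (hyy : H.phi D q e y = H.phi D q e y') : y = y' := by
  obtain ⟨k, s⟩ := y
  obtain ⟨k', s'⟩ := y'
  obtain ⟨h0, hcl⟩ := closed Vs h.vs
  simp only [phi] at hyy
  have hst : H.bsig D (x4 s s') = H.kap D q e (kadd k k') := by
    rw [← h.bsig_mul, ← h.kap_add]
    have hkk : ∀ k, H.kap D q e k * H.kap D q e k = 1 := fun k => by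
      rw [h.kap_add, (act_facts 0 k).2.2.2.1]
      simp only [kap, bA, bB]
      rw [h.reps.one, h.e_zero, bar_one, mul_one, mul_one, one_mul, h.four_sq]
    calc H.bsig D s * H.bsig D s'
        = (H.kap D q e k * H.kap D q e k) * H.bsig D s * H.bsig D s' := by rw [hkk, one_mul]
      _ = H.kap D q e k * (H.kap D q e k * H.bsig D s) * H.bsig D s' := by group
      _ = H.kap D q e k * H.kap D q e k' * (H.bsig D s' * H.bsig D s') := by rw [hyy]; group
      _ = _ := by rw [h.bsig_sq, mul_one]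
  have hs : x4 s s' = 0 := by
    by_contra hne
    obtain ⟨a, b, hab⟩ := act_ne _ hne
    refine hab ?_
    have e1 : H.kap D q e (act (x4 s s') (a, b, 0)) = H.kap D q e (a, b, 0) := by
      rw [← h.bsig_kap, hst, h.kap_add, h.kap_add]
      congr 1
      exact (show ∀ k k' : Kv, kadd (kadd k k') k = k' by decide +kernel) (kadd k k') (a, b, 0)
    have hadd := h.kap_inj (k := kadd (act (x4 s s') (a, b, 0)) (a, b, 0)) ?_ (by
      rw [← h.kap_add, e1, h.kap_add, (act_facts 0 _).2.2.2.1]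
      simp only [kap, bA, bB]
      rw [h.reps.one, h.e_zero, bar_one, mul_one, mul_one, one_mul, h.four_sq])
    · exact (show ∀ k k' : Kv, kadd k k' = (0, 0, 0) → k = k' by decide +kernel) _ _ hadd
    · exact (congrArg (· ∈ Vs) ((show ∀ (t : Fin 4) (a b : Fin 4),
        (kadd (act t (a, b, 0)) (a, b, 0)).2.2 = 0 by decide +kernel) (x4 s s') a b)).mpr h0
  have hk := h.kap_inj (k := kadd k k') (hcl _ hy _ hy').1 (by
    rw [← hst, hs]; rfl)
  exact Prod.ext ((show ∀ k k' : Kv, kadd k k' = (0, 0, 0) → k = k' by decide +kernel) _ _ hk)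
    ((show ∀ s s' : Fin 4, x4 s s' = 0 → s = s' by decide) s s' hs)

/-- The subgroup given by some values of the last coordinate. -/
def Two.sub (h : H.Two D Vs q e) (Ss : List (Fin 4))
    (hSs : (0 : Fin 4) ∈ Ss ∧ ∀ s ∈ Ss, ∀ t ∈ Ss, x4 s t ∈ Ss) : Subgroup H.Xq where
  carrier := {x | ∃ y : Mdl, y.1.2.2 ∈ Vs ∧ y.2 ∈ Ss ∧ H.phi D q e y = x}
  mul_mem' := by
    rintro _ _ ⟨y, hy, hys, rfl⟩ ⟨y', hy', hys', rfl⟩
    refine ⟨_, ?_, hSs.2 _ hys _ hys', (h.phi_mul y y').symm⟩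
    obtain ⟨-, hcl⟩ := closed Vs h.vs
    refine (hcl _ hy _ ?_).1
    rw [(act_facts _ _).2.2.1]
    split
    · exact (hcl _ hy' _ hy').2
    · exact hy'
  one_mem' := ⟨m1, (closed Vs h.vs).1, hSs.1, h.phi_one⟩
  inv_mem' := by
    rintro _ ⟨y, hy, hys, rfl⟩
    refine ⟨minv y, ?_, hys, eq_inv_of_mul_eq_one_right (by
      rw [h.phi_mul, minv_facts, h.phi_one])⟩
    show (act y.2 y.1).2.2 ∈ Vs
    rw [(act_facts _ _).2.2.1]
    split
    · exact ((closed Vs h.vs).2 _ hy _ hy).2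
    · exact hy

theorem Two.mem_sub (h : H.Two D Vs q e) {Ss : List (Fin 4)}
    {hSs : (0 : Fin 4) ∈ Ss ∧ ∀ s ∈ Ss, ∀ t ∈ Ss, x4 s t ∈ Ss} {x : H.Xq} :
    x ∈ h.sub Ss hSs ↔ ∃ y : Mdl, y.1.2.2 ∈ Vs ∧ y.2 ∈ Ss ∧ H.phi D q e y = x := Iff.rfl

theorem Two.card_sub (h : H.Two D Vs q e) {Ss : List (Fin 4)}
    {hSs : (0 : Fin 4) ∈ Ss ∧ ∀ s ∈ Ss, ∀ t ∈ Ss, x4 s t ∈ Ss} :
    Nat.card (h.sub Ss hSs) = 16 * Vs.length * (Finset.univ.filter fun s => s ∈ Ss).card := by
  rw [← card_adm Vs h.vs, ← Finset.card_product, ← Nat.card_eq_finsetCard]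
  refine (Nat.card_congr (Equiv.ofBijective (fun y : {y // y ∈
    (Finset.univ.filter fun k : Kv => k.2.2 ∈ Vs) ×ˢ Finset.univ.filter fun s => s ∈ Ss} =>
    (⟨H.phi D q e y.1, y.1, ?_, ?_, rfl⟩ : h.sub Ss hSs)) ⟨fun a b eq => ?_, fun x => ?_⟩)).symm
  · exact (Finset.mem_filter.1 (Finset.mem_product.1 y.2).1).2
  · exact (Finset.mem_filter.1 (Finset.mem_product.1 y.2).2).2
  · exact Subtype.ext (h.phi_inj (Finset.mem_filter.1 (Finset.mem_product.1 a.2).1).2
      (Finset.mem_filter.1 (Finset.mem_product.1 b.2).1).2 (congrArg Subtype.val eq))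
  · obtain ⟨x, y, hy, hys, rfl⟩ := x
    exact ⟨⟨y, Finset.mem_product.2 ⟨Finset.mem_filter.2 ⟨Finset.mem_univ _, hy⟩,
      Finset.mem_filter.2 ⟨Finset.mem_univ _, hys⟩⟩⟩, rfl⟩

/-- The vectors. -/
def Two.Kb (h : H.Two D Vs q e) : Subgroup H.Xq := h.sub [0] (by decide)

/-- The two-subgroup. -/
def Two.Tb (h : H.Two D Vs q e) : Subgroup H.Xq := h.sub [0, 1, 2, 3] (by decide)

theorem Two.Kb_le_Tb (h : H.Two D Vs q e) : h.Kb ≤ h.Tb := fun _ ⟨y, hy, hys, e⟩ =>
  ⟨y, hy, List.mem_cons.2 (Or.inl (List.mem_singleton.1 hys)), e⟩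

/-- The vectors form the only elementary subgroup of their order. -/
theorem Two.unique_Kb (h : H.Two D Vs q e) {A : Subgroup H.Xq} (hA : A ≤ h.Tb)
    (hcomm : ∀ x ∈ A, ∀ y ∈ A, x * y = y * x) (hcard : Nat.card A = Nat.card h.Kb) :
    A = h.Kb := by
  classical
  haveI : Finite H.Xq := inferInstance
  obtain ⟨h0, hcl⟩ := closed Vs h.vs
  refine eq_of_le_of_card_ge (fun x hx => ?_) hcard.ge
  obtain ⟨y₀, hy₀, -, rfl⟩ := hA hx
  by_contra hne
  have hs₀ : y₀.2 ≠ 0 := fun e => hne ⟨y₀, hy₀, by simp [e], rfl⟩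
  set S : Finset Mdl := Finset.univ.filter fun y => y.1.2.2 ∈ Vs ∧ H.phi D q e y ∈ A with hS
  have hSc : S.card = 16 * Vs.length := by
    rw [← Nat.card_eq_finsetCard, ← (Nat.card_congr (Equiv.ofBijective
      (fun y : {y // y ∈ S} => (⟨H.phi D q e y.1, (Finset.mem_filter.1 y.2).2.2⟩ : A))
      ⟨fun a b eq => Subtype.ext (h.phi_inj (Finset.mem_filter.1 a.2).2.1
          (Finset.mem_filter.1 b.2).2.1 (congrArg Subtype.val eq)), fun a => by
        obtain ⟨y, hy, -, he⟩ := hA a.2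
        exact ⟨⟨y, Finset.mem_filter.2 ⟨Finset.mem_univ _, hy, he ▸ a.2⟩⟩, Subtype.ext he⟩⟩)).symm,
      hcard, Kb, h.card_sub,
      show (Finset.univ.filter fun s : Fin 4 => s ∈ ([0] : List (Fin 4))).card = 1 by decide, mul_one]
  set S0 := S.filter fun y => y.2 = 0 with hS0
  have hfix : ∀ y ∈ S, ∀ y' ∈ S0, act y.2 y'.1 = y'.1 := by
    intro y hy y' hy'
    obtain ⟨hy'S, hy'0⟩ := Finset.mem_filter.1 hy'
    obtain ⟨-, hyv, hyA⟩ := Finset.mem_filter.1 hy
    obtain ⟨-, hy'v, hy'A⟩ := Finset.mem_filter.1 hy'S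
    have heq := hcomm _ hyA _ hy'A
    rw [h.phi_mul, h.phi_mul] at heq
    have := h.phi_inj ?_ ?_ heq
    · exact (show ∀ k k' : Kv, ∀ s : Fin 4, mmul (k, s) (k', 0) = mmul (k', 0) (k, s) →
        act s k' = k' by decide +kernel) y.1 y'.1 y.2 (by
          rwa [show y' = (y'.1, 0) from Prod.ext rfl hy'0] at this)
    · refine (hcl _ hyv _ ?_).1
      rw [(act_facts _ _).2.2.1]
      split
      · exact (hcl _ hy'v _ hy'v).2
      · exact hy'v
    · refine (hcl _ hy'v _ ?_).1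
      rw [(act_facts _ _).2.2.1]
      split
      · exact (hcl _ hyv _ hyv).2
      · exact hyv
  have hfib : ∀ s ∈ S.image Prod.snd, (S.filter fun y => y.2 = s).card ≤ S0.card := by
    intro s hs
    obtain ⟨y₁, hy₁, rfl⟩ := Finset.mem_image.1 hs
    obtain ⟨-, hy₁v, hy₁A⟩ := Finset.mem_filter.1 hy₁
    refine Finset.card_le_card_of_injOn (fun y => mmul y y₁) (fun y hy => ?_) fun a ha b hb e => ?_
    · obtain ⟨hyS, hys⟩ := Finset.mem_filter.1 hy
      obtain ⟨-, hyv, hyA⟩ := Finset.mem_filter.1 hyS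
      refine Finset.mem_filter.2 ⟨Finset.mem_filter.2 ⟨Finset.mem_univ _, (hcl _ hyv _ ?_).1,
        by rw [← h.phi_mul]; exact mul_mem hyA hy₁A⟩, ?_⟩
      · rw [(act_facts _ _).2.2.1]
        split
        · exact (hcl _ hy₁v _ hy₁v).2
        · exact hy₁v
      · show x4 y.2 y₁.2 = 0
        rw [hys, (x4_facts y₁.2 y₁.2 0).2.2.1]
    · exact (show ∀ a b c : Mdl, a.2 = b.2 → mmul a c = mmul b c → a = b by
        intro a b c e1 e2
        obtain ⟨ka, sa⟩ := a
        obtain ⟨kb, sb⟩ := b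
        simp only at e1
        subst e1
        have e3 := congrArg Prod.fst e2
        simp only [mmul] at e3
        exact Prod.ext ((show ∀ k k' m : Kv, kadd k m = kadd k' m → k = k' by
          intro k k' m e
          simp only [kadd, Prod.mk.injEq] at e
          have key : ∀ x y z : Fin 4, x4 x z = x4 y z → x = y := by decide
          exact Prod.ext (key _ _ _ e.1) (Prod.ext (key _ _ _ e.2.1) (key _ _ _ e.2.2))) _ _ _ e3)
          rfl) a b y₁
        ((Finset.mem_filter.1 ha).2.trans (Finset.mem_filter.1 hb).2.symm) e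
  have hle : S.card ≤ S0.card * (S.image Prod.snd).card :=
    Finset.card_le_mul_card_image S S0.card hfib
  have hy₀S : y₀ ∈ S := Finset.mem_filter.2 ⟨Finset.mem_univ _, hy₀, hx⟩
  have hinj : ∀ P : Kv → Prop, ∀ [DecidablePred P], (∀ y ∈ S0, P y.1) →
      S0.card ≤ (Finset.univ.filter fun k : Kv => k.2.2 ∈ Vs ∧ P k).card := by
    intro P _ hP
    refine Finset.card_le_card_of_injOn Prod.fst (fun y hy => ?_) fun a ha b hb e => ?_
    · exact Finset.mem_filter.2 ⟨Finset.mem_univ _,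
        (Finset.mem_filter.1 (Finset.mem_filter.1 hy).1).2.1, hP y hy⟩
    · exact Prod.ext e ((Finset.mem_filter.1 ha).2.trans (Finset.mem_filter.1 hb).2.symm)
  obtain ⟨hb1, hb2⟩ := fix_small Vs h.vs y₀.2 hs₀
  by_cases hex : ∃ y₁ ∈ S, y₁.2 ≠ 0 ∧ y₁.2 ≠ y₀.2
  · obtain ⟨y₁, hy₁, hs1, hs2⟩ := hex
    have h1 := hinj (fun k => act y₀.2 k = k ∧ act y₁.2 k = k)
      fun y hy => ⟨hfix y₀ hy₀S y hy, hfix y₁ hy₁ y hy⟩
    have h2 := hb2 _ hs1 hs2
    have h4 : (S.image Prod.snd).card ≤ 4 := (Finset.card_le_univ _).trans (by simp)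
    have h5 : S.card ≤ 4 * (Finset.univ.filter fun k : Kv =>
        k.2.2 ∈ Vs ∧ act y₀.2 k = k ∧ act y₁.2 k = k).card := by
      calc S.card ≤ S0.card * (S.image Prod.snd).card := hle
        _ ≤ S0.card * 4 := Nat.mul_le_mul_left _ h4
        _ ≤ _ := by rw [mul_comm]; exact Nat.mul_le_mul_left _ h1
    omega
  · push Not at hex
    have h1 := hinj (fun k => act y₀.2 k = k) fun y hy => hfix y₀ hy₀S y hy
    have h4 : (S.image Prod.snd).card ≤ 2 := by
      refine (Finset.card_le_card (t := {0, y₀.2}) fun s hs => ?_).trans Finset.card_le_two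
      obtain ⟨y₁, hy₁, rfl⟩ := Finset.mem_image.1 hs
      by_cases h0' : y₁.2 = 0
      · simp [h0']
      · simp [hex y₁ hy₁ h0']
    have h5 : S.card ≤ 2 * (Finset.univ.filter fun k : Kv =>
        k.2.2 ∈ Vs ∧ act y₀.2 k = k).card := by
      calc S.card ≤ S0.card * (S.image Prod.snd).card := hle
        _ ≤ S0.card * 2 := Nat.mul_le_mul_left _ h4
        _ ≤ _ := by rw [mul_comm]; exact Nat.mul_le_mul_left _ h1
    omega

end Hyp

end CfsgLib.PSpFourRec
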