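import Cfsg.Agent.PSpFourRec.TwoSylow
import Cfsg.Agent.Co3U.Pair

/-!
# The centralizer of the transposition is generated by its local parts
-/

set_option autoImplicit false
set_option maxRecDepth 100000
set_option synthInstance.maxSize 100000
set_option linter.style.haveILetI false
set_option linter.unusedSectionVars false

namespace CfsgLib.PSpFourRec

open CfsgLib.AltNine CfsgLib.PSpFourThree Subgroup TwoModel
open CfsgLib.ThreeSymNine (Mat app mm pmat dmat mono pa pm pinv dig sm nv_nv pa_table app_pmat app_one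
  ext_app allSigns dx du db pd bc mono_tables)

attribute [local instance 10000] List.decidableBAll List.decidableBEx

universe u

theorem el_cent_table : ∀ v : Fin 27, ∀ d : Fin 8, ∀ a : Fin 6,
    av v (app (dmat d) (pa a 0)) = av 0 (app (dmat 0) (pa 1 v)) →
    dx d (pd a 0) = dx 0 (pd 1 d) → pm a 1 = pm 1 a →
    app (mono 0 1) v = v ∧ d ∈ ([0, 3, 4, 7] : List (Fin 8)) ∧ a ∈ ([0, 1] : List (Fin 6)) := by
  decide +kernel

theorem fix_four_table : ∀ d ∈ ([0, 3, 4, 7] : List (Fin 8)), ∀ a ∈ ([0, 1] : List (Fin 6)),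
    (app (mono d a) 4 = 4 → d = 0 ∨ d = 4) ∧ app (mono 0 a) 4 = 4 ∧ app (mono 0 a) 9 = 9 ∧
      app (mono 3 a) 9 = 9 := by decide +kernel

theorem mmul_last : ∀ Vs ∈ vsList, ∀ s : Fin 4, ∀ k k' : Kv, k.2.2 ∈ Vs → k'.2.2 ∈ Vs →
    (kadd k (act s k')).2.2 ∈ Vs := by decide +kernel

theorem line_facts : app (mono 0 1) 9 = 9 ∧ app (mono 0 1) 4 = 4 ∧ app (mono 3 0) 4 = nv 4 ∧
    dx 3 4 = 7 ∧ dx 1 2 = 3 ∧ app (mono 4 0) 9 ≠ 9 := by decide +kernel

namespace Hyp

variable {G : Type u} [Group G] [Finite G] {H : Hyp G} {D : Fin 8 → G}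
  {Vs : List (Fin 4)} {q e : Fin 4 → G}

theorem not_isConj_of {a b : G} (h : ∀ g : G, g * a * g⁻¹ ≠ b) : ¬ IsConj a b :=
  fun hc => let ⟨g, hg⟩ := isConj_iff.1 hc; h g hg

/-- The separations of the involutions. -/
theorem Flips.class_facts (h : H.Flips D) :
    ¬ IsConj (D 4) (D 3) ∧ ¬ IsConj (D 4) (D 4 * H.S 1) ∧ ¬ IsConj (H.S 1) (D 4) ∧
    ¬ IsConj (D 3) (D 4 * H.S 1) ∧ ¬ IsConj (H.S 1) (D 3) ∧ ¬ IsConj (H.S 1) (D 4 * H.S 1) ∧
    ¬ IsConj (H.S 1) (D 7 * H.S 1) ∧ ¬ IsConj (D 3) (D 7 * H.S 1) ∧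
    ¬ IsConj (D 4) (D 7 * H.S 1) ∧ IsConj (D 3 * H.S 1) (H.S 1) := by
  have hf : 9 ∣ Nat.card (centralizer ({D 4} : Set G)) :=
    nine_dvd_fix h.named.2.1 type_tables.2.2.1
  have hz : 9 ∣ Nat.card (centralizer ({H.S 1} : Set G)) :=
    nine_dvd_fix h.named.1 type_tables.2.2.2.1
  refine ⟨not_isConj_of fun g => (not_conj_of_nine hf h.small_g.1 g).1,
    not_isConj_of fun g => (not_conj_of_nine hf h.small_j g).1, not_isConj_of h.z_ne_f,
    not_isConj_of fun g => h.g_ne_j (v := 4) (by decide) h.named.2.2.2.1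
      type_tables.2.2.2.2.2.2.2.1 type_tables.2.2.2.2.2.2.2.2.2.2.2.1 g,
    not_isConj_of fun g => (not_conj_of_nine hz h.small_g.1 g).1,
    not_isConj_of fun g => (not_conj_of_nine hz h.small_j g).1,
    not_isConj_of fun g => (not_conj_of_nine hz h.small_j' g).1,
    not_isConj_of fun g => h.g_ne_j (v := 7) (by decide) h.named.2.2.2.2
      type_tables.2.2.2.2.2.2.2.2.1 type_tables.2.2.2.2.2.2.2.2.2.2.2.2.1 g,
    not_isConj_of fun g => (not_conj_of_nine hf h.small_j' g).1,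
    isConj_iff.2 ⟨D 1, ?_⟩⟩
  have e := h.conj 1 1
  rw [flip_tables.2.2.2.2.2.2.1, mul_inv_eq_iff_eq_mul] at e
  rw [h.inv]
  calc D 1 * (D 3 * H.S 1) * D 1 = D 1 * D 3 * (H.S 1 * D 1) := by group
    _ = D 1 * D 3 * D 2 * H.S 1 := by rw [e]; group
    _ = _ := by
      rw [h.mul, h.mul, show dx (dx 1 3) 2 = 0 by decide +kernel, h.zero, one_mul]

theorem bar_pow {g : G} (hg : g ∈ H.Cz) (n : ℕ) : H.bar (g ^ n) = H.bar g ^ n := by
  induction n with
  | zero => rw [pow_zero, pow_zero, bar_one]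
  | succ n ih => rw [pow_succ, pow_succ, bar_mul (pow_mem hg n) hg, ih]

/-- Conjugate classes give conjugate pairs. -/
theorem bar_pairs {u w : G} (hu : u ∈ H.Cz) (hw : w ∈ H.Cz) {x : H.Xq}
    (h : x * H.bar u * x⁻¹ = H.bar w) :
    (IsConj u w ∧ IsConj (u * H.S 1) (w * H.S 1)) ∨
      (IsConj u (w * H.S 1) ∧ IsConj (u * H.S 1) w) := by
  obtain ⟨c, hc, hcu⟩ := bar_conj hu hw h
  have hcz : c * H.S 1 * c⁻¹ = H.S 1 := by rw [mem_Cz.1 hc, mul_inv_cancel_right]
  have e : ∀ y : G, c * (y * H.S 1) * c⁻¹ = c * y * c⁻¹ * H.S 1 := fun y => by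
    calc c * (y * H.S 1) * c⁻¹ = c * y * c⁻¹ * (c * H.S 1 * c⁻¹) := by group
      _ = _ := by rw [hcz]
  rcases hcu with hcu | hcu
  · exact Or.inl ⟨isConj_iff.2 ⟨c, hcu⟩, isConj_iff.2 ⟨c, by rw [e, hcu]⟩⟩
  · exact Or.inr ⟨isConj_iff.2 ⟨c, hcu⟩,
      isConj_iff.2 ⟨c, by rw [e, hcu, mul_assoc, S_sq, mul_one]⟩⟩

theorem Two.phi_zero (h : H.Two D Vs q e) (v s : Fin 4) :
    H.phi D q e ((0, 0, v), s) = H.bar (e v) * H.bsig D s := by
  simp only [phi, kap, bA, bB]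
  rw [h.reps.one, bar_one, mul_one, one_mul, h.four_sq, one_mul]

/-- An involution outside the vectors is conjugate to a representative. -/
theorem Two.invol_rep (h : H.Two D Vs q e) {y : Mdl} (hy : y.1.2.2 ∈ Vs) (hs : y.2 ≠ 0)
    (h2 : H.phi D q e y * H.phi D q e y = 1) :
    ∃ x : H.Xq, ∃ v ∈ Vs, (y.2 ≠ 1 → v = 0) ∧
      x * H.phi D q e y * x⁻¹ = H.bar (e v) * H.bsig D y.2 := by
  have hyy : mmul y y = m1 := h.phi_inj (mmul_last Vs h.vs y.2 y.1 y.1 hy hy)
    (closed Vs h.vs).1 (by rw [← h.phi_mul, h2, h.phi_one])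
  obtain ⟨k, hk, v, hv, hv0, he⟩ := invol_class Vs h.vs y hy hs hyy
  refine ⟨H.phi D q e (k, 0), v, hv, hv0, ?_⟩
  have hinv : (H.phi D q e (k, 0))⁻¹ = H.phi D q e (k, 0) := inv_eq_of_mul_eq_one_right (by
    rw [h.phi_mul, show mmul (k, 0) (k, 0) = m1 from
      Prod.ext (by show kadd k (act 0 k) = _; rw [(act_facts 0 k).2.1]; exact (act_facts 0 k).2.2.2.1)
        rfl, h.phi_one])
  rw [hinv, h.phi_mul, h.phi_mul, he, h.phi_zero]

/-- The hypothesis on the products with the four group. -/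
def Two.EV (_ : H.Two D Vs q e) : Prop :=
  ∀ v ∈ Vs, v ≠ 0 → IsConj (D 4 * (e v * H.S 1)) (D 3) ∧ ¬ IsConj (D 4 * e v) (H.S 1)

theorem Two.exists_index_two (h : H.Two D Vs q e) (hNK : h.NK) (hev : h.EV) :
    ∃ Y : Subgroup H.Xq, Y.index = 2 ∧ H.bar (D 4) ∉ Y ∧ H.bar (D 3) ∈ Y := by
  classical
  obtain ⟨cfg, cfj, czf, cgj, czg, czj, czj', cgj', cfj', cgz⟩ := h.flips.class_facts
  have h4 := h.flips.mem_Cz' (d := 4) (by decide)
  have h3 := h.flips.mem_Cz' (d := 3) (by decide)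
  have h7 := h.flips.mem_Cz' (d := 7) (by decide)
  have hQi : (h.sub [0, 2] (by decide)).relIndex h.Tb = 2 := by
    have hle : h.sub [0, 2] (by decide) ≤ h.Tb := fun _ ⟨y, hy, _, e⟩ =>
      ⟨y, hy, (show ∀ s : Fin 4, s ∈ ([0, 1, 2, 3] : List (Fin 4)) by decide) _, e⟩
    have e1 := ((h.sub [0, 2] (by decide)).subgroupOf h.Tb).card_mul_index
    rw [Nat.card_congr (subgroupOfEquivOfLe hle).toEquiv, Tb, h.card_sub, h.card_sub,
      show (Finset.univ.filter fun s : Fin 4 => s ∈ ([0, 2] : List (Fin 4))).card = 2 by decide,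
      show (Finset.univ.filter fun s : Fin 4 => s ∈ ([0, 1, 2, 3] : List (Fin 4))).card = 4 by
        decide] at e1
    have hpos : 0 < Vs.length := List.length_pos_of_mem (closed Vs h.vs).1
    rw [show 16 * Vs.length * 4 = 16 * Vs.length * 2 * 2 by ring] at e1
    exact Nat.eq_of_mul_eq_mul_left (by positivity) e1
  have hu₀ : H.bar (D 4) * H.bar (D 4) = 1 := h.four_sq
  obtain ⟨M, -, hM2, hMf, hMin⟩ := CfsgLib.Co3U.exists_transfer_kernel h.Tb
    (h.sub [0, 2] (by decide)) (h.index_odd hNK) hQi hu₀ (by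
      rintro x ⟨⟨k, s⟩, hk, hs, hy⟩
      have hy2 : H.phi D q e (k, s) * H.phi D q e (k, s) = 1 := by
        rw [hy]
        calc x * H.bar (D 4) * x⁻¹ * (x * H.bar (D 4) * x⁻¹)
            = x * (H.bar (D 4) * H.bar (D 4)) * x⁻¹ := by group
          _ = 1 := by rw [hu₀, mul_one, mul_inv_cancel]
      simp only [List.mem_cons, List.not_mem_nil, or_false] at hs
      rcases hs with rfl | rfl
      · -- among the vectors
        rw [show H.phi D q e (k, 0) = H.kap D q e k by simp [phi, bsig]] at hy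
        by_cases hab : k.1 = 0 ∧ k.2.1 = 0
        · obtain ⟨a, b, v⟩ := k
          obtain ⟨rfl, rfl⟩ := hab
          rw [show H.kap D q e (0, 0, v) = H.bar (e v) by
            simp only [kap, bA, bB]
            rw [h.reps.one, bar_one, mul_one, one_mul, h.four_sq, one_mul]] at hy
          by_cases hv : v = 0
          · subst hv
            rw [h.e_zero, bar_one, eq_comm, conj_eq_one_iff, bar_eq_one h4] at hy
            rcases hy with e | e
            · have := h.flips.orderOf_flip (d := 4) (by decide)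
              rw [e, orderOf_one] at this
              omega
            · exact czf (e ▸ IsConj.refl _)
          · obtain ⟨c1, c2⟩ := h.e_conj v hk hv
            rcases bar_pairs h4 (h.e_mem v) hy.symm with ⟨p, -⟩ | ⟨-, p⟩
            · exact cfg (p.trans c1)
            · exact cgj ((p.trans c1).symm)
        · have hw := h.lift_mem k
          rw [h.kap_eq] at hy
          obtain ⟨c, -, hc⟩ := h.pair_same (not_and_or.1 hab) hw (h.kap_eq k).symm
          have hc' : IsConj (q k.1 * (D 4 * q k.2.1 * D 4) * e k.2.2)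
              (q k.1 * (D 4 * q k.2.1 * D 4) * e k.2.2 * H.S 1) := isConj_iff.2 ⟨c, hc⟩
          rcases bar_pairs h4 hw hy.symm with ⟨p, p'⟩ | ⟨p, p'⟩
          · exact cfj (p.trans (hc'.trans p'.symm))
          · exact cfj (p.trans (hc'.symm.trans p'.symm))
      · obtain ⟨x', v, -, hv0, hx'⟩ := h.invol_rep hk (show (2 : Fin 4) ≠ 0 by decide) hy2
        rw [hv0 (show (2 : Fin 4) ≠ 1 by decide), h.e_zero, bar_one, one_mul, hy,
          show H.bsig D 2 = H.bar (D 3) from rfl] at hx'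
        have hxx : (x' * x) * H.bar (D 4) * (x' * x)⁻¹ = H.bar (D 3) := by
          rw [← hx']; group
        rcases bar_pairs h4 h3 hxx with ⟨p, -⟩ | ⟨p, -⟩
        · exact cfg p
        · exact czf ((p.trans cgz).symm))
  refine ⟨M, hM2, hMf, hMin _ ?_ fun x hx => ?_⟩
  · rw [← bar_mul h3 h3, h.flips.sq, bar_one]
  · obtain ⟨⟨k, s⟩, hk, -, hy⟩ := hx
    have hy2 : H.phi D q e (k, s) * H.phi D q e (k, s) = 1 := by
      rw [hy]
      calc x * H.bar (D 3) * x⁻¹ * (x * H.bar (D 3) * x⁻¹)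
          = x * (H.bar (D 3) * H.bar (D 3)) * x⁻¹ := by group
        _ = 1 := by rw [← bar_mul h3 h3, h.flips.sq, bar_one, mul_one, mul_inv_cancel]
    refine ⟨(k, s), hk, ?_, hy⟩
    by_contra hs
    have hs0 : s ≠ 0 := fun e => hs (by simp [e])
    obtain ⟨x', v, hv, hv0, hx'⟩ := h.invol_rep hk hs0 hy2
    rw [hy] at hx'
    simp only at hx' hv0
    have key : ∀ s : Fin 4, s ∉ ([0, 2] : List (Fin 4)) → s = 1 ∨ s = 3 := by decide
    rcases key s hs with rfl | rfl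
    · have hw : H.bar (e v) * H.bsig D 1 = H.bar (D 4 * e v) := by
        rw [bar_mul h4 (h.e_mem v)]
        exact (h.commFE v).eq.symm
      rw [hw] at hx'
      have hxx : (x' * x) * H.bar (D 3) * (x' * x)⁻¹ = H.bar (D 4 * e v) := by
        rw [← hx']; group
      have hm := mul_mem h4 (h.e_mem v)
      by_cases hv' : v = 0
      · subst hv'
        rcases bar_pairs h3 hm hxx with ⟨p, -⟩ | ⟨p, -⟩ <;> rw [h.e_zero, mul_one] at p
        · exact cfg p.symm
        · exact cgj p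
      · obtain ⟨c1, c2⟩ := hev v hv hv'
        rw [← mul_assoc] at c1
        rcases bar_pairs h3 hm hxx with ⟨-, p⟩ | ⟨-, p⟩
        · exact czg ((cgz.symm.trans p).trans c1)
        · exact c2 ((cgz.symm.trans p).symm)
    · rw [hv0 (by decide), h.e_zero, bar_one, one_mul,
        show H.bsig D 3 = H.bar (D 7) from rfl] at hx'
      have hxx : (x' * x) * H.bar (D 3) * (x' * x)⁻¹ = H.bar (D 7) := by rw [← hx']; group
      rcases bar_pairs h3 h7 hxx with ⟨-, p⟩ | ⟨p, -⟩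
      · exact czj' (cgz.symm.trans p)
      · exact cgj' p

theorem Flips.el_mem_Cz (h : H.Flips D) {v : Fin 27} {d : Fin 8} {a : Fin 6}
    (hc : H.el D v d a * H.S 1 = H.S 1 * H.el D v d a) :
    app (mono 0 1) v = v ∧ d ∈ ([0, 3, 4, 7] : List (Fin 8)) ∧ a ∈ ([0, 1] : List (Fin 6)) := by
  have hS : H.S 1 = H.el D 0 0 1 := by rw [el, H.emb_zero, h.zero, one_mul, one_mul]
  rw [hS, h.el_mul, h.el_mul] at hc
  obtain ⟨e1, e2, e3⟩ := h.el_inj hc
  exact el_cent_table v d a e1 e2 e3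

/-- The centralizer of the transposition lies in any subgroup containing its local parts. -/
theorem Two.Cz_le (h : H.Two D Vs q e) (hNK : h.NK) (hev : h.EV) (H₀ : Subgroup G)
    (hN : H.N ⊓ H.Cz ≤ H₀)
    (hparts : ∀ v ∈ ([13, 22, 9, 4] : List (Fin 27)),
      H.Cz ⊓ centralizer ({H.emb v} : Set G) ≤ H₀)
    (h57 : ∀ v ∈ ([13, 22, 9, 4] : List (Fin 27)), ∀ g ∈ H.Cz,
      g * H.emb v = H.emb v * g → orderOf g ≠ 5 ∧ orderOf g ≠ 7) :
    H.Cz ≤ H₀ := by
  classical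
  haveI : Fact (Nat.Prime 3) := ⟨Nat.prime_three⟩
  have hF := h.flips
  obtain ⟨Y, hY2, hYf, hYg⟩ := h.exists_index_two hNK hev
  obtain ⟨Q, hQ, hQN⟩ := hF.sylow_plane (d := 0) (a := 1) (by decide) hF.named.1
  have hmk : Function.Surjective (QuotientGroup.mk' H.zq) := QuotientGroup.mk'_surjective _
  set P0 := Q.mapSurjective hmk with hP0
  set Dbar : Subgroup H.Xq := (P0 : Subgroup H.Xq)
  have hmem : ∀ {x : H.Xq}, x ∈ Dbar ↔ ∃ f ∈ H.Fix (H.S 1), H.bar f = x := by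
    intro x
    show x ∈ ((Q.mapSurjective hmk : Sylow 3 H.Xq) : Subgroup H.Xq) ↔ _
    rw [Sylow.coe_mapSurjective, hQ]
    constructor
    · rintro ⟨g, hg, rfl⟩
      exact ⟨g, mem_subgroupOf.1 hg, bar_mk g⟩
    · rintro ⟨f, hf, rfl⟩
      exact ⟨⟨f, Fix_le_Cz hf⟩, mem_subgroupOf.2 hf, (bar_mk ⟨f, Fix_le_Cz hf⟩).symm⟩
  have hY : ∀ {x y : H.Xq}, x * y ∈ Y ↔ (x ∈ Y ↔ y ∈ Y) := fun {x y} =>
    mul_mem_iff_of_index_two hY2
  have hthree : ∀ x : H.Xq, x ^ 3 = 1 → x ∈ Y := fun x hx => by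
    have h2 : x * x ∈ Y := hY.2 Iff.rfl
    have : x = (x * x)⁻¹ := eq_inv_of_mul_eq_one_left (by rw [← hx, pow_succ', pow_two])
    rw [this]
    exact inv_mem h2
  have hDY : Dbar ≤ Y := fun x hx => by
    obtain ⟨f, hf, rfl⟩ := hmem.1 hx
    refine hthree _ ?_
    rw [pow_succ, pow_two, ← bar_mul (Fix_le_Cz hf) (Fix_le_Cz hf),
      ← bar_mul (mul_mem (Fix_le_Cz hf) (Fix_le_Cz hf)) (Fix_le_Cz hf),
      show f * f * f = 1 by rw [← pow_two, ← pow_succ]; exact H.J_cube hf.1, bar_one]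
  set P : Sylow 3 Y := P0.subtype hDY
  have hPm : ∀ {y : Y}, y ∈ (P : Subgroup Y) ↔ ∃ f ∈ H.Fix (H.S 1), H.bar f = (y : H.Xq) := by
    intro y
    show y ∈ (((P0.subtype hDY : Sylow 3 Y)) : Subgroup Y) ↔ _
    rw [Sylow.coe_subtype, mem_subgroupOf, hmem]
  -- an element of order three has no second lift
  have h3lift : ∀ {g f : G}, g ∈ H.Cz → f ∈ H.Fix (H.S 1) → g ^ 3 = 1 → H.bar g = H.bar f →
      g = f := by
    intro g f hg hf hg3 hgf
    rcases (bar_eq hg (Fix_le_Cz hf)).1 hgf with e | e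
    · exact e
    · exfalso
      have hc : Commute f (H.S 1) := mem_Cz.1 (Fix_le_Cz hf)
      rw [e, hc.mul_pow, H.J_cube hf.1, one_mul, pow_succ, pow_two, S_sq, one_mul] at hg3
      exact S_ne_one hg3
  have hinj : ∀ f ∈ H.Fix (H.S 1), H.bar f = 1 → f = 1 := fun f hf e =>
    h3lift (Fix_le_Cz hf) (one_mem _) (H.J_cube hf.1) (e.trans bar_one.symm)
  have hcard : Nat.card (P : Subgroup Y) = 9 := by
    rw [← type_tables.2.2.2.1, ← H.card_Fix hF.named.1]
    refine (Nat.card_congr (Equiv.ofBijective (fun f : H.Fix (H.S 1) =>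
      (⟨⟨H.bar f, hDY (hmem.2 ⟨f, f.2, rfl⟩)⟩, hPm.2 ⟨f, f.2, rfl⟩⟩ : (P : Subgroup Y)))
      ⟨fun a b eab => ?_, fun y => ?_⟩)).symm
    · exact Subtype.ext (h3lift (Fix_le_Cz a.2) b.2 (H.J_cube a.2.1)
        (congrArg (fun y : (P : Subgroup Y) => ((y : Y) : H.Xq)) eab))
    · obtain ⟨f, hf, hfy⟩ := hPm.1 y.2
      exact ⟨⟨f, hf⟩, Subtype.ext (Subtype.ext hfy)⟩
  have hcube : ∀ a ∈ (P : Subgroup Y), a ^ 3 = 1 := fun a ha => by
    obtain ⟨f, hf, hfa⟩ := hPm.1 ha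
    refine Subtype.ext ?_
    rw [SubmonoidClass.coe_pow, ← hfa, pow_succ, pow_two, ← bar_mul (Fix_le_Cz hf) (Fix_le_Cz hf),
      ← bar_mul (mul_mem (Fix_le_Cz hf) (Fix_le_Cz hf)) (Fix_le_Cz hf),
      show f * f * f = 1 by rw [← pow_two, ← pow_succ]; exact H.J_cube hf.1, bar_one]
    rfl
  have hemb : ∀ v, app (mono 0 1) v = v → H.emb v ∈ H.Fix (H.S 1) := fun v hv =>
    (H.mem_Fix hF.named.1).2 ⟨v, hv, rfl⟩
  have h9F := hemb 9 line_facts.1
  have h4F := hemb 4 line_facts.2.1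
  -- lifts of the normalizer
  have hlift : ∀ n : Y, n ∈ normalizer ((P : Subgroup Y) : Set Y) →
      ∃ v d a, app (mono 0 1) v = v ∧ d ∈ ([0, 3] : List (Fin 8)) ∧
        a ∈ ([0, 1] : List (Fin 6)) ∧ H.el D v d a ∈ H.Cz ∧ H.bar (H.el D v d a) = n := by
    intro n hn
    obtain ⟨g, hg, hgn⟩ := bar_surjective (n : H.Xq)
    have hconj : ∀ (m : Y), m ∈ normalizer ((P : Subgroup Y) : Set Y) → ∀ k ∈ H.Cz,
        H.bar k = m → ∀ f ∈ H.Fix (H.S 1), k * f * k⁻¹ ∈ H.Fix (H.S 1) := by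
      intro m hm k hk hkm f hf
      have hfC := Fix_le_Cz hf
      obtain ⟨f', hf', he⟩ := hPm.1 ((mem_normalizer_iff.1 hm
        ⟨H.bar f, hDY (hmem.2 ⟨f, hf, rfl⟩)⟩).1 (hPm.2 ⟨f, hf, rfl⟩))
      rw [h3lift (mul_mem (mul_mem hk hfC) (inv_mem hk)) hf' (by
        rw [conj_pow, H.J_cube hf.1, mul_one, mul_inv_cancel]) (by
        rw [he, bar_mul (mul_mem hk hfC) (inv_mem hk), bar_mul hk hfC, bar_inv hk, hkm]
        rfl)]
      exact hf'
    have hgN : g ∈ H.N := by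
      refine hQN ⟨g, hg⟩ (mem_normalizer_iff.2 fun y => ?_)
      rw [hQ, mem_subgroupOf, mem_subgroupOf]
      refine ⟨fun hy => hconj n hn g hg hgn y hy, fun hy => ?_⟩
      have := hconj n⁻¹ (inv_mem hn) g⁻¹ (inv_mem hg) (by rw [bar_inv hg, hgn]; rfl) _ hy
      rwa [show g⁻¹ * ((⟨g, hg⟩ * y * ⟨g, hg⟩⁻¹ : H.Cz) : G) * g⁻¹⁻¹ = (y : G) by
        simp [mul_assoc]] at this
    obtain ⟨v, d, a, rfl⟩ := hF.mem_N_iff.1 hgN
    obtain ⟨hv, hd, ha⟩ := hF.el_mem_Cz (mem_Cz.1 hg)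
    refine ⟨v, d, a, hv, ?_, ha, hg, hgn⟩
    have hvC := Fix_le_Cz (hemb v hv)
    have hbd : H.bar (H.el D v d a) = H.bar (H.emb v) * H.bar (D d) := by
      have hDC : D d ∈ H.Cz := by
        simp only [List.mem_cons, List.not_mem_nil, or_false] at hd
        rcases hd with rfl | rfl | rfl | rfl
        · rw [hF.zero]; exact one_mem _
        all_goals exact hF.mem_Cz' (by decide)
      have hS : H.bar (H.S a) = 1 := by
        simp only [List.mem_cons, List.not_mem_nil, or_false] at ha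
        rcases ha with rfl | rfl
        · rw [H.S_zero, bar_one]
        · exact bar_z
      have hSC : H.S a ∈ H.Cz := by
        simp only [List.mem_cons, List.not_mem_nil, or_false] at ha
        rcases ha with rfl | rfl
        · rw [H.S_zero]; exact one_mem _
        · exact mem_Cz.2 rfl
      rw [el, bar_mul (mul_mem hvC hDC) hSC, bar_mul hvC hDC, hS, mul_one]
    have hdY : H.bar (D d) ∈ Y := by
      have hvY : H.bar (H.emb v) ∈ Y := hDY (hmem.2 ⟨_, hemb v hv, rfl⟩)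
      have := n.2
      rw [← hgn, hbd] at this
      exact (hY.1 this).1 hvY
    simp only [List.mem_cons, List.not_mem_nil, or_false] at hd ⊢
    rcases hd with rfl | rfl | rfl | rfl
    · exact Or.inl rfl
    · exact Or.inr rfl
    · exact absurd hdY hYf
    · exfalso
      refine hYf ?_
      rw [← line_facts.2.2.2.1, ← hF.mul, bar_mul (hF.mem_Cz' (by decide))
        (hF.mem_Cz' (by decide))] at hdY
      exact (hY.1 hdY).1 hYg
  set M : Subgroup Y := ((H₀.subgroupOf H.Cz).map (QuotientGroup.mk' H.zq)).subgroupOf Y with hM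
  have hMmem : ∀ {g : G} (y : Y), g ∈ H.Cz → g ∈ H₀ → H.bar g = y → y ∈ M := by
    intro g y hg hg0 hgy
    exact mem_subgroupOf.2 ⟨⟨g, hg⟩, mem_subgroupOf.2 hg0, (bar_mk ⟨g, hg⟩).symm.trans hgy⟩
  -- elements centralizing an element of the plane
  have hcent : ∀ (v : Fin 27), app (mono 0 1) v = v → ∀ y : Y,
      (y : H.Xq) * H.bar (H.emb v) = H.bar (H.emb v) * y →
      ∃ g ∈ H.Cz, H.bar g = y ∧ g * H.emb v = H.emb v * g := by
    intro v hv y hy
    obtain ⟨g, hg, hgy⟩ := bar_surjective (y : H.Xq)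
    refine ⟨g, hg, hgy, mul_inv_eq_iff_eq_mul.1 (h3lift
      (mul_mem (mul_mem hg (Fix_le_Cz (hemb v hv))) (inv_mem hg)) (hemb v hv)
      (by rw [conj_pow, H.emb_cube, mul_one, mul_inv_cancel]) ?_)⟩
    rw [bar_mul (mul_mem hg (Fix_le_Cz (hemb v hv))) (inv_mem hg),
      bar_mul hg (Fix_le_Cz (hemb v hv)), bar_inv hg, hgy, hy, mul_inv_cancel_right]
  have hline : ∀ d ∈ (P : Subgroup Y), d ≠ 1 → ∀ y : Y, y * d = d * y →
      ∃ r ∈ ([13, 22, 9, 4] : List (Fin 27)), ∃ g ∈ H.Cz, H.bar g = y ∧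
        g * H.emb r = H.emb r * g := by
    intro d hd hd1 y hy
    obtain ⟨f, hf, hfd⟩ := hPm.1 hd
    obtain ⟨v, hv, rfl⟩ := mem_Fix_swap hF hf
    have hv0 : v ≠ 0 := fun e => hd1 (Subtype.ext (by
      rw [← hfd, e, H.emb_zero, bar_one]; rfl))
    obtain ⟨g, hg, hgy, hgv⟩ := hcent v hv y (by
      rw [hfd]; exact congrArg Subtype.val hy)
    obtain ⟨r, hr, hvr⟩ := plane_tables.2.2.2.2.2.2.2.2.2.2.1 v hv hv0
    refine ⟨r, hr, g, hg, hgy, ?_⟩
    rcases hvr with rfl | rfl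
    · exact hgv
    · rw [H.emb_nv] at hgv
      exact (Commute.inv_right_iff.1 hgv)
  have htop : M = ⊤ := by
    refine eq_top_of_transfer P hcard (fun a ha b hb => ?_) hcube
      (e := ⟨H.bar (H.emb 9), hDY (hmem.2 ⟨_, h9F, rfl⟩)⟩)
      (u := ⟨H.bar (H.emb 4), hDY (hmem.2 ⟨_, h4F, rfl⟩)⟩)
      (hPm.2 ⟨_, h9F, rfl⟩) (fun e => ?_) (hPm.2 ⟨_, h4F, rfl⟩) (fun e => ?_)
      (fun n hn => ?_) ⟨⟨H.bar (D 3), hYg⟩, ?_⟩ (fun y hy => ?_) (fun d hd hd1 => ?_) M
      (fun n hn => ?_) (fun d hd hd1 y hy => ?_)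
    · obtain ⟨f, hf, hfa⟩ := hPm.1 ha
      obtain ⟨f', hf', hfb⟩ := hPm.1 hb
      refine Subtype.ext ?_
      rw [Subgroup.coe_mul, Subgroup.coe_mul, ← hfa, ← hfb,
        ← bar_mul (Fix_le_Cz hf) (Fix_le_Cz hf'), ← bar_mul (Fix_le_Cz hf') (Fix_le_Cz hf),
        H.J_comm hf.1 hf'.1]
    · have := hinj _ h9F (congrArg Subtype.val e)
      rw [← H.emb_zero] at this
      exact absurd (H.emb_inj this) (by decide)
    · have := hinj _ h4F (congrArg Subtype.val e)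
      rw [← H.emb_zero] at this
      exact absurd (H.emb_inj this) (by decide)
    · obtain ⟨v, d, a, hv, hd, ha, hC, hn'⟩ := hlift n hn
      refine Subtype.ext ?_
      show (n : H.Xq) * H.bar (H.emb 9) * (n : H.Xq)⁻¹ = H.bar (H.emb 9)
      have h9C := Fix_le_Cz h9F
      rw [← hn', ← bar_inv hC, ← bar_mul hC h9C, ← bar_mul (mul_mem hC h9C) (inv_mem hC),
        hF.el_ind v d a 9]
      congr 2
      simp only [List.mem_cons, List.not_mem_nil, or_false] at hd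
      obtain ⟨-, -, k0, k3⟩ := fix_four_table 0 (by decide) a ha
      rcases hd with rfl | rfl
      · exact k0
      · exact k3
    · refine Subtype.ext ?_
      show H.bar (D 3) * H.bar (H.emb 4) * (H.bar (D 3))⁻¹ = (H.bar (H.emb 4))⁻¹
      have h3 := hF.mem_Cz' (d := 3) (by decide)
      have h4C := Fix_le_Cz h4F
      rw [← bar_inv h3, ← bar_inv h4C, ← bar_mul h3 h4C, ← bar_mul (mul_mem h3 h4C) (inv_mem h3),
        hF.ind_flip 3, line_facts.2.2.1, H.emb_nv]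
    · rw [mem_centralizer_singleton_iff] at hy
      obtain ⟨g, hg, hgy, hg4⟩ := hcent 4 line_facts.2.1 y (congrArg Subtype.val hy)
      obtain ⟨v, d, a, rfl⟩ := hF.mem_N_iff.1
        (hF.four_le (v := 4) (by decide) (mem_centralizer_singleton_iff.2 hg4))
      obtain ⟨hv, hd, ha⟩ := hF.el_mem_Cz (mem_Cz.1 hg)
      have h44 : app (mono d a) 4 = 4 := H.emb_inj (by
        rw [← hF.el_ind v d a 4, hg4, mul_inv_cancel_right])
      have hvC := Fix_le_Cz (hemb v hv)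
      have hSC : H.S a ∈ H.Cz ∧ H.bar (H.S a) = 1 := by
        simp only [List.mem_cons, List.not_mem_nil, or_false] at ha
        rcases ha with rfl | rfl
        · rw [H.S_zero]; exact ⟨one_mem _, bar_one⟩
        · exact ⟨mem_Cz.2 rfl, bar_z⟩
      have hd' := (fix_four_table d hd a ha).1 h44
      rcases hd' with rfl | rfl
      · refine hPm.2 ⟨_, hemb v hv, ?_⟩
        rw [← hgy, el, hF.zero, mul_one, bar_mul hvC hSC.1, hSC.2, mul_one]
      · exfalso
        have h4' := hF.mem_Cz' (d := 4) (by decide)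
        have := y.2
        rw [← hgy, el, bar_mul (mul_mem hvC h4') hSC.1, bar_mul hvC h4', hSC.2, mul_one] at this
        exact hYf ((hY.1 this).1 (hDY (hmem.2 ⟨_, hemb v hv, rfl⟩)))
    · have key : ∀ p : ℕ, p.Prime → Nat.Coprime p 2 →
          p ∣ Nat.card (centralizer ({d} : Set Y)) →
          ∃ r ∈ ([13, 22, 9, 4] : List (Fin 27)), ∃ g ∈ H.Cz,
            g * H.emb r = H.emb r * g ∧ orderOf g = p := by
        intro p hp hp2 hdvd
        haveI := Fact.mk hp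
        obtain ⟨y, hy⟩ := exists_prime_orderOf_dvd_card' (G := centralizer ({d} : Set Y)) p hdvd
        obtain ⟨r, hr, g, hg, hgy, hgr⟩ := hline d hd hd1 y (mem_centralizer_singleton_iff.1 y.2)
        have hyq : orderOf (H.bar g) = p := by rw [hgy, orderOf_coe, orderOf_coe, hy]
        refine ⟨r, hr, g ^ 2, pow_mem hg 2, (Commute.pow_left hgr 2).eq, ?_⟩
        refine orderOf_eq_prime ?_ fun e => ?_
        · have hp' : H.bar (g ^ p) = 1 := by
            rw [bar_pow hg, ← hyq, pow_orderOf_eq_one]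
          rw [← pow_mul, mul_comm, pow_mul]
          rcases (bar_eq_one (pow_mem hg p)).1 hp' with e | e <;> rw [e]
          · exact one_pow 2
          · rw [pow_two, S_sq]
        · have h2 : H.bar g ^ 2 = 1 := by
            rw [pow_two, ← bar_mul hg hg, ← pow_two, e, bar_one]
          have := orderOf_dvd_of_pow_eq_one h2
          rw [hyq] at this
          exact hp.one_lt.ne' (hp2.eq_one_of_dvd this)
      constructor <;> intro hdvd
      · obtain ⟨r, hr, g, hg, hgr, h5⟩ := key 5 (by norm_num) (by norm_num) hdvd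
        exact (h57 r hr g hg hgr).1 h5
      · obtain ⟨r, hr, g, hg, hgr, h7⟩ := key 7 (by norm_num) (by norm_num) hdvd
        exact (h57 r hr g hg hgr).2 h7
    · obtain ⟨v, d, a, -, -, -, hC, hn'⟩ := hlift n hn
      exact hMmem n hC (hN ⟨hF.el_mem v d a, hC⟩) hn'
    · obtain ⟨r, hr, g, hg, hgy, hgr⟩ := hline d hd hd1 y (mem_centralizer_singleton_iff.1 hy)
      exact hMmem y hg (hparts r hr ⟨hg, mem_centralizer_singleton_iff.2 hgr⟩) hgy
  intro g hg
  set M' : Subgroup H.Xq := (H₀.subgroupOf H.Cz).map (QuotientGroup.mk' H.zq)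
  have hYM : Y ≤ M' := fun x hx => by
    have : (⟨x, hx⟩ : Y) ∈ M := htop ▸ mem_top _
    exact mem_subgroupOf.1 this
  have h4' := hF.mem_Cz' (d := 4) (by decide)
  have hf : H.bar (D 4) ∈ M' :=
    ⟨⟨D 4, h4'⟩, mem_subgroupOf.2 (hN ⟨hF.mem_N 4, h4'⟩), (bar_mk ⟨D 4, h4'⟩).symm⟩
  have hgM : H.bar g ∈ M' := by
    by_cases hgY : H.bar g ∈ Y
    · exact hYM hgY
    · have h2 : H.bar g * H.bar (D 4) ∈ Y := hY.2 ⟨fun h' => absurd h' hgY, fun h' => absurd h' hYf⟩
      have := mul_mem (hYM h2) (inv_mem hf)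
      rwa [mul_inv_cancel_right] at this
  obtain ⟨k, hk, hkg⟩ := hgM
  have hz0 : H.S 1 ∈ H₀ := hN ⟨hF.named.1.mem_N, mem_Cz.2 rfl⟩
  rcases (bar_eq hg k.2).1 (hkg.symm.trans (bar_mk k).symm) with e | e
  · rw [e]; exact hk
  · rw [e]; exact mul_mem hk hz0

end Hyp

end CfsgLib.PSpFourRec
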