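import Cfsg.Agent.PSpFourRec.Model

/-!
# A model of a Sylow two-subgroup of the centralizer of the transposition, modulo the transposition

An element is `((a, b, v), s)`: `a`, `b`, `v` run over groups of order four and `s` over the four
group acting on them.
-/

set_option autoImplicit false
set_option maxRecDepth 100000
set_option synthInstance.maxSize 4000
set_option synthInstance.maxHeartbeats 400000

namespace CfsgLib.PSpFourRec.TwoModel

attribute [local instance 10000] List.decidableBAll List.decidableBEx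

/-- Addition in a group of exponent two and order four. -/
def x4 (a b : Fin 4) : Fin 4 := ![![0, 1, 2, 3], ![1, 0, 3, 2], ![2, 3, 0, 1], ![3, 2, 1, 0]] a b

/-- The transvection fixing `1`. -/
def al (a : Fin 4) : Fin 4 := ![0, 1, 3, 2] a

/-- The rotation. -/
def rho (a : Fin 4) : Fin 4 := ![0, 2, 3, 1] a

/-- The vectors. -/
abbrev Kv : Type := Fin 4 × Fin 4 × Fin 4

/-- The elements. -/
abbrev Mdl : Type := Kv × Fin 4

/-- Addition of vectors. -/
def kadd (k k' : Kv) : Kv := (x4 k.1 k'.1, x4 k.2.1 k'.2.1, x4 k.2.2 k'.2.2)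

/-- The action. -/
def act (s : Fin 4) (k : Kv) : Kv :=
  ![k, (k.2.1, k.1, k.2.2), (al k.2.1, al k.1, al k.2.2), (al k.1, al k.2.1, al k.2.2)] s

/-- The product. -/
def mmul (y y' : Mdl) : Mdl := (kadd y.1 (act y.2 y'.1), x4 y.2 y'.2)

/-- The inverse. -/
def minv (y : Mdl) : Mdl := (act y.2 y.1, y.2)

/-- The neutral element. -/
def m1 : Mdl := ((0, 0, 0), 0)

/-- The two sets of values of the last coordinate. -/
def vsList : List (List (Fin 4)) := [[0], [0, 1, 2, 3]]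

theorem x4_facts : ∀ a b c : Fin 4, x4 a b = x4 b a ∧ x4 (x4 a b) c = x4 a (x4 b c) ∧
    x4 a a = 0 ∧ x4 0 a = a ∧ x4 a 0 = a ∧ al (al a) = a ∧ (al a = 0 → a = 0) ∧
    al (x4 a b) = x4 (al a) (al b) := by decide +kernel

theorem closed : ∀ Vs ∈ vsList, (0 : Fin 4) ∈ Vs ∧ ∀ a ∈ Vs, ∀ b ∈ Vs,
    x4 a b ∈ Vs ∧ al a ∈ Vs := by decide +kernel

theorem act_facts : ∀ s : Fin 4, ∀ k : Kv, act s (act s k) = k ∧ act 0 k = k ∧
    (act s k).2.2 = (if s = 2 ∨ s = 3 then al k.2.2 else k.2.2) ∧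
    kadd k k = (0, 0, 0) ∧ kadd (0, 0, 0) k = k := by decide +kernel

theorem act_ne : ∀ s : Fin 4, s ≠ 0 → ∃ a b : Fin 4, act s (a, b, 0) ≠ (a, b, 0) := by
  decide +kernel

theorem minv_facts : ∀ y : Mdl, mmul y (minv y) = m1 := by decide +kernel

/-- The fixed vectors are few. -/
theorem fix_small : ∀ Vs ∈ vsList, ∀ s : Fin 4, s ≠ 0 →
    2 * (Finset.univ.filter fun k : Kv => k.2.2 ∈ Vs ∧ act s k = k).card < 16 * Vs.length ∧
    ∀ s' : Fin 4, s' ≠ 0 → s' ≠ s →
      4 * (Finset.univ.filter fun k : Kv => k.2.2 ∈ Vs ∧ act s k = k ∧ act s' k = k).card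
        < 16 * Vs.length := by decide +kernel

theorem card_adm : ∀ Vs ∈ vsList,
    (Finset.univ.filter fun k : Kv => k.2.2 ∈ Vs).card = 16 * Vs.length := by decide +kernel

/-- The involutions outside the vectors. -/
theorem invol_class : ∀ Vs ∈ vsList, ∀ y : Mdl, y.1.2.2 ∈ Vs → y.2 ≠ 0 → mmul y y = m1 →
    ∃ k : Kv, k.2.2 ∈ Vs ∧ ∃ v ∈ Vs, (y.2 ≠ 1 → v = 0) ∧
      mmul (mmul (k, 0) y) (k, 0) = ((0, 0, v), y.2) := by decide +kernel

/-- The centralizer of the vectors. -/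
theorem centre_vec : ∀ y : Mdl, (∀ a b : Fin 4, mmul y ((a, b, 0), 0) = mmul ((a, b, 0), 0) y) →
    y.2 = 0 := by decide +kernel

/-- A central class. -/
theorem central_pair : ∀ y : Mdl, mmul y ((1, 1, 0), 0) = mmul ((1, 1, 0), 0) y := by
  decide +kernel

theorem rho_trans : ∀ a : Fin 4, a ≠ 0 → a = 1 ∨ rho a = 1 ∨ rho (rho a) = 1 := by decide +kernel

end CfsgLib.PSpFourRec.TwoModel
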