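import Cfsg.Agent.PSpFourRec.LocalZ2
import Cfsg.Agent.PSpFourRec.TwoModel

/-!
# Representatives in the quaternion group for the classes modulo the transposition
-/

set_option autoImplicit false
set_option maxRecDepth 100000
set_option synthInstance.maxSize 100000
set_option linter.style.haveILetI false
set_option linter.unusedSectionVars false

namespace CfsgLib.PSpFourRec

open CfsgLib.AltNine CfsgLib.PSpFourThree Subgroup TwoModel
open CfsgLib.ThreeSymNine (Mat app mm pmat dmat mono pa pm pinv dig sm nv_nv pa_table app_pmat app_one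
  ext_app allSigns dx du db pd bc mono_tables)

attribute [local instance 10000] List.decidableBAll List.decidableBEx

universe u

/-- A list of representatives. -/
def qL (t w w' : T) (a : Fin 4) : T := ![t1, t, w, w'] a

theorem qP_reps : ∀ t : T, qP t → tsq t ≠ t1 →
    ∃ w : T, tmul (tE 22) t = tmul w (tE 22) ∧ qP w ∧
    ∃ w' : T, tmul (tE 22) w = tmul w' (tE 22) ∧ qP w' ∧
      (∀ a b : Fin 4, tmul (qL t w w' a) (qL t w w' b) = qL t w w' (x4 a b) ∨
        tmul (qL t w w' a) (qL t w w' b) = tmul (qL t w w' (x4 a b)) (tS 1)) ∧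
      (tmul (tE 22) w' = tmul t (tE 22) ∨ tmul (tE 22) w' = tmul (tmul t (tS 1)) (tE 22)) ∧
      (∀ u : T, qP u → ∃ a : Fin 4, u = qL t w w' a ∨ u = tmul (qL t w w' a) (tS 1)) ∧
      (∀ a b : Fin 4, a ≠ 0 → b ≠ 0 → b ≠ a → tmul (qL t w w' a) (qL t w w' b) =
        tmul (tmul (qL t w w' b) (qL t w w' a)) (tS 1)) ∧
      (∀ a : Fin 4, a ≠ 0 → tsq (qL t w w' a) = tS 1) := by decide +kernel

namespace Hyp

variable {G : Type u} [Group G] [Finite G] {H : Hyp G} {D : Fin 8 → G}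

/-- Equality up to the transposition. -/
def ZEq (H : Hyp G) (x y : G) : Prop := x = y ∨ x = y * H.S 1

theorem ZEq.refl (x : G) : H.ZEq x x := Or.inl rfl

/-- Representatives of the classes of the quaternion group. -/
structure Reps (H : Hyp G) (D : Fin 8 → G) (q : Fin 4 → G) : Prop where
  flips : H.Flips D
  mem : ∀ a, q a ∈ H.Q1
  one : q 0 = 1
  add : ∀ a b, H.ZEq (q a * q b) (q (x4 a b))
  alpha : ∀ a, H.ZEq (D 7 * q a * D 7) (q (al a))
  rot : ∀ a, H.ZEq (H.emb 22 * q a * (H.emb 22)⁻¹) (q (rho a))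
  cover : ∀ y ∈ H.Q1, ∃ a, H.ZEq y (q a)
  noncomm : ∀ a b : Fin 4, a ≠ 0 → b ≠ 0 → b ≠ a → q a * q b = q b * q a * H.S 1
  sq : ∀ a : Fin 4, a ≠ 0 → q a * q a = H.S 1

theorem Flips.exists_reps (h : H.Flips D) : ∃ q, H.Reps D q := by
  obtain ⟨hjz, hjx, hja, hjQ⟩ := h.seven
  set a := H.emb 22 with ha
  have haz : Commute a (H.S 1) := (plane_comm (H := H) plane_tables.1).2
  have hax : Commute a H.x := (plane_comm (H := H) plane_tables.1).1
  have ha3 : a * a * a = 1 := by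
    rw [← pow_two, ← pow_succ]; exact H.emb_cube 22
  have hconj : ∀ y : G, D 7 * (a * y * a⁻¹) * D 7 = a⁻¹ * (D 7 * y * D 7) * a := fun y => by
    calc D 7 * (a * y * a⁻¹) * D 7
        = (D 7 * a * D 7) * (D 7 * y * D 7) * (D 7 * a * D 7)⁻¹ := by
          simp only [mul_inv_rev, h.inv, ← mul_assoc]
          rw [mul_assoc (D 7 * a) (D 7) (D 7), h.sq, mul_one,
            mul_assoc (D 7 * a * y) (D 7) (D 7), h.sq, mul_one]
      _ = _ := by rw [hja, inv_inv]
  -- a class fixed by the sign change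
  obtain ⟨t₀, ht₀, hne₀⟩ : ∃ t : T, qP t ∧ tsq t ≠ t1 := by decide +kernel
  obtain ⟨w₀, e₁, hw₀, w₀', e₂, hw₀', -, -, hcov₀, -, -⟩ := qP_reps t₀ ht₀ hne₀
  have hw1 : H.par w₀ = a * H.par t₀ * a⁻¹ := by
    rw [eq_mul_inv_iff_mul_eq, ha, show H.emb 22 = H.par (tE 22) from rfl, ← H.par_mul,
      ← H.par_mul, e₁]
  have hw2 : H.par w₀' = a * H.par w₀ * a⁻¹ := by
    rw [eq_mul_inv_iff_mul_eq, ha, show H.emb 22 = H.par (tE 22) from rfl, ← H.par_mul,
      ← H.par_mul, e₂]
  obtain ⟨u, hu, hud⟩ : ∃ u, H.par u = D 7 * H.par t₀ * D 7 ∧ qP u := by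
    obtain ⟨u, hu, hud⟩ := hjQ _ ⟨t₀, ht₀, rfl⟩
    exact ⟨u, hud, hu⟩
  obtain ⟨c, hc⟩ := hcov₀ u hud
  have hc' : H.ZEq (D 7 * H.par t₀ * D 7) (H.par (qL t₀ w₀ w₀' c)) := by
    rcases hc with e | e
    · exact Or.inl (by rw [← hu, e])
    · exact Or.inr (by rw [← hu, e, H.par_mul]; rfl)
  have hex : ∃ t : T, qP t ∧ tsq t ≠ t1 ∧ H.ZEq (D 7 * H.par t * D 7) (H.par t) := by
    have hc4 : c = 0 ∨ c = 1 ∨ c = 2 ∨ c = 3 :=
      (by decide : ∀ c : Fin 4, c = 0 ∨ c = 1 ∨ c = 2 ∨ c = 3) c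
    have hzc : ∀ x : G, a * (x * H.S 1) * a⁻¹ = a * x * a⁻¹ * H.S 1 := fun x => by
      calc a * (x * H.S 1) * a⁻¹ = a * x * (H.S 1 * a⁻¹) := by group
        _ = _ := by rw [← haz.inv_left.eq]; group
    have hzc' : ∀ x : G, a⁻¹ * (x * H.S 1) * a = a⁻¹ * x * a * H.S 1 := fun x => by
      calc a⁻¹ * (x * H.S 1) * a = a⁻¹ * x * (H.S 1 * a) := by group
        _ = _ := by rw [← haz.eq]; group
    rcases hc4 with rfl | rfl | rfl | rfl
    · exfalso
      have hmem : D 7 * H.par t₀ * D 7 ∈ zpowers (H.S 1) := by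
        rcases hc' with e | e <;> rw [e, show qL t₀ w₀ w₀' 0 = t1 from rfl, H.par_one]
        · exact one_mem _
        · rw [one_mul]; exact mem_zpowers _
      have hb : H.par t₀ = D 7 * (D 7 * H.par t₀ * D 7) * D 7 := by
        rw [← mul_assoc, ← mul_assoc, h.sq, one_mul, mul_assoc, h.sq, mul_one]
      rcases mem_zpowers_z.1 hmem with e | e
      · rw [e, mul_one, h.sq, ← H.par_one] at hb
        exact hne₀ (by rw [H.par_inj hb]; decide +kernel)
      · rw [e, hjz, mul_assoc, h.sq, mul_one] at hb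
        exact hne₀ (by rw [H.par_inj hb]; exact qP_facts.2.2.2.1)
    · exact ⟨t₀, ht₀, hne₀, hc'⟩
    · -- the square of the rotation
      have hw' : tsq w₀' ≠ t1 := fun e => hne₀ (H.par_inj (by
        have e' := congrArg H.par e
        rw [tsq, H.par_mul, H.par_one, hw2, hw1] at e'
        rw [tsq, H.par_mul, H.par_one]
        calc H.par t₀ * H.par t₀ = a⁻¹ * a⁻¹ * ((a * (a * H.par t₀ * a⁻¹) * a⁻¹) *
              (a * (a * H.par t₀ * a⁻¹) * a⁻¹)) * a * a := by group
          _ = _ := by rw [e']; group))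
      have hL : qL t₀ w₀ w₀' 2 = w₀ := rfl
      rw [hL, hw1] at hc'
      refine ⟨w₀', hw₀', hw', ?_⟩
      rw [hw2, hw1, hconj, hconj]
      rcases hc' with e | e
      · left; rw [e]
        calc a⁻¹ * (a⁻¹ * (a * H.par t₀ * a⁻¹) * a) * a = a⁻¹ * H.par t₀ * a := by group
          _ = a⁻¹ * (a * a * a) * H.par t₀ * (a * a * a)⁻¹ * a := by rw [ha3]; group
          _ = _ := by group
      · right; rw [e, hzc', hzc']
        congr 1
        calc a⁻¹ * (a⁻¹ * (a * H.par t₀ * a⁻¹) * a) * a = a⁻¹ * H.par t₀ * a := by group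
          _ = a⁻¹ * (a * a * a) * H.par t₀ * (a * a * a)⁻¹ * a := by rw [ha3]; group
          _ = _ := by group
    · have hw' : tsq w₀ ≠ t1 := fun e => hne₀ (H.par_inj (by
        have e' := congrArg H.par e
        rw [tsq, H.par_mul, H.par_one, hw1] at e'
        rw [tsq, H.par_mul, H.par_one]
        calc H.par t₀ * H.par t₀ = a⁻¹ * ((a * H.par t₀ * a⁻¹) * (a * H.par t₀ * a⁻¹)) * a := by
              group
          _ = _ := by rw [e']; group))
      have hL : qL t₀ w₀ w₀' 3 = w₀' := rfl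
      rw [hL, hw2, hw1] at hc'
      refine ⟨w₀, hw₀, hw', ?_⟩
      rw [hw1, hconj]
      rcases hc' with e | e
      · left; rw [e]; group
      · right; rw [e, hzc']
        congr 1
        group
  obtain ⟨t, ht, hne, hfix⟩ := hex
  obtain ⟨w, e₁', hw, w', e₂', hw', hadd, hrot, hcov, hnc, hsq⟩ := qP_reps t ht hne
  have hp1 : H.par w = a * H.par t * a⁻¹ := by
    rw [eq_mul_inv_iff_mul_eq, ha, show H.emb 22 = H.par (tE 22) from rfl, ← H.par_mul,
      ← H.par_mul, e₁']
  have hp2 : H.par w' = a * H.par w * a⁻¹ := by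
    rw [eq_mul_inv_iff_mul_eq, ha, show H.emb 22 = H.par (tE 22) from rfl, ← H.par_mul,
      ← H.par_mul, e₂']
  have hp3 : H.ZEq (a * H.par w' * a⁻¹) (H.par t) := by
    rcases hrot with e | e
    · left
      rw [mul_inv_eq_iff_eq_mul, ha, show H.emb 22 = H.par (tE 22) from rfl, ← H.par_mul,
        ← H.par_mul, e]
    · right
      rw [mul_inv_eq_iff_eq_mul, ha, show H.emb 22 = H.par (tE 22) from rfl,
        show H.S 1 = H.par (tS 1) from rfl, ← H.par_mul, ← H.par_mul, ← H.par_mul, e]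
  have hmap : ∀ {x y : G} (g : G), Commute g (H.S 1) → H.ZEq x y →
      H.ZEq (g * x * g⁻¹) (g * y * g⁻¹) := by
    intro x y g hg hxy
    rcases hxy with e | e
    · exact Or.inl (by rw [e])
    · refine Or.inr ?_
      rw [e]
      calc g * (y * H.S 1) * g⁻¹ = g * y * (H.S 1 * g⁻¹) := by group
        _ = _ := by rw [← hg.inv_left.eq]; group
  have hqP : ∀ c, qP (qL t w w' c) := by
    have key : ∀ c : Fin 4, c = 0 ∨ c = 1 ∨ c = 2 ∨ c = 3 := by decide
    intro c
    rcases key c with rfl | rfl | rfl | rfl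
    · exact qP_facts.1
    · exact ht
    · exact hw
    · exact hw'
  refine ⟨fun c => H.par (qL t w w' c),
    { flips := h
      mem := fun c => ⟨_, hqP c, rfl⟩
      one := H.par_one
      add := fun c d => ?_
      alpha := fun c => ?_
      rot := fun c => ?_
      cover := fun y hy => ?_
      noncomm := fun c d hc hd hdc => ?_
      sq := fun c hc => ?_ }⟩
  · rcases hadd c d with e | e
    · exact Or.inl (by rw [← H.par_mul, e])
    · exact Or.inr (by rw [← H.par_mul, e, H.par_mul]; rfl)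
  · have key : ∀ c : Fin 4, c = 0 ∨ c = 1 ∨ c = 2 ∨ c = 3 := by decide
    rcases key c with rfl | rfl | rfl | rfl
    · refine Or.inl ?_
      show D 7 * H.par t1 * D 7 = H.par t1
      rw [H.par_one, mul_one, h.sq]
    · exact hfix
    · show H.ZEq (D 7 * H.par w * D 7) (H.par w')
      rw [hp1, hconj, hp2, hp1]
      have h1 := hmap a⁻¹ haz.inv_left hfix
      rw [inv_inv] at h1
      rwa [show a * (a * H.par t * a⁻¹) * a⁻¹ = a⁻¹ * H.par t * a by
        calc a * (a * H.par t * a⁻¹) * a⁻¹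
            = a⁻¹ * ((a * a * a) * H.par t * (a * a * a)⁻¹) * a := by group
          _ = _ := by rw [ha3]; group]
    · show H.ZEq (D 7 * H.par w' * D 7) (H.par w)
      rw [hp2, hp1, hconj, hconj]
      have h1 := hmap (a⁻¹ * a⁻¹) (haz.inv_left.mul_left haz.inv_left) hfix
      rw [show a⁻¹ * a⁻¹ = a by
        calc a⁻¹ * a⁻¹ = (a * a * a) * a⁻¹ * a⁻¹ := by rw [ha3, one_mul]
          _ = a := by group] at h1
      rwa [show a⁻¹ * (a⁻¹ * (D 7 * H.par t * D 7) * a) * a =
          a * (D 7 * H.par t * D 7) * a⁻¹ by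
        calc a⁻¹ * (a⁻¹ * (D 7 * H.par t * D 7) * a) * a
            = a * ((a * a * a)⁻¹ * (D 7 * H.par t * D 7) * (a * a * a)) * a⁻¹ := by group
          _ = _ := by rw [ha3]; group]
  · have key : ∀ c : Fin 4, c = 0 ∨ c = 1 ∨ c = 2 ∨ c = 3 := by decide
    rcases key c with rfl | rfl | rfl | rfl
    · refine Or.inl ?_
      show a * H.par t1 * a⁻¹ = H.par t1
      rw [H.par_one, mul_one, mul_inv_cancel]
    · exact Or.inl hp1.symm
    · exact Or.inl hp2.symm
    · exact hp3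
  · obtain ⟨u, hu, rfl⟩ := hy
    obtain ⟨c, e | e⟩ := hcov u hu
    · exact ⟨c, Or.inl (by rw [e])⟩
    · exact ⟨c, Or.inr (by rw [e, H.par_mul]; rfl)⟩
  · show H.par _ * H.par _ = H.par _ * H.par _ * H.par (tS 1)
    rw [← H.par_mul, ← H.par_mul, ← H.par_mul, hnc c d hc hd hdc]
  · show H.par _ * H.par _ = H.par (tS 1)
    rw [← H.par_mul]
    exact congrArg H.par (hsq c hc)

end Hyp

end CfsgLib.PSpFourRec
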