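import Cfsg.Agent.PSpFourRec.TwoFrame

/-!
# The two-subgroup is a Sylow subgroup of the centralizer of the transposition
-/

set_option autoImplicit false
set_option maxRecDepth 100000
set_option synthInstance.maxSize 100000
set_option linter.style.haveILetI false
set_option linter.unusedSectionVars false

namespace CfsgLib.PSpFourRec

open CfsgLib.AltNine CfsgLib.PSpFourThree Subgroup TwoModel
open CfsgLib.ThreeSymNine (Mat app mm pmat dmat mono pa pm pinv dig sm nv_nv pa_table app_pmat app_one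
  ext_app allSigns dx du db pd bc mono_tables)

attribute [local instance 10000] List.decidableBAll List.decidableBEx

universe u

theorem zP_split : ∀ t : T, zP t → ∃ v : Fin 27, app (mono 0 1) v = v ∧
    qP (tmul t (tE v)) := by decide +kernel

theorem kadd_comm : ∀ k k' : Kv, kadd k k' = kadd k' k := by decide +kernel

namespace Hyp

variable {G : Type u} [Group G] [Finite G] {H : Hyp G} {D : Fin 8 → G}
  {Vs : List (Fin 4)} {q e : Fin 4 → G}

theorem Fix_le_Cz : H.Fix (H.S 1) ≤ H.Cz := inf_le_right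

theorem Two.kap_mem (h : H.Two D Vs q e) {k : Kv} (hk : k.2.2 ∈ Vs) :
    H.kap D q e k ∈ h.Kb :=
  ⟨(k, 0), hk, List.mem_singleton_self _, by simp [phi, bsig]⟩

theorem Two.mem_Kb (h : H.Two D Vs q e) {x : H.Xq} :
    x ∈ h.Kb ↔ ∃ k : Kv, k.2.2 ∈ Vs ∧ H.kap D q e k = x := by
  constructor
  · rintro ⟨⟨k, s⟩, hk, hs, rfl⟩
    rw [List.mem_singleton] at hs
    simp only at hs
    subst hs
    exact ⟨k, hk, by simp [phi, bsig]⟩
  · rintro ⟨k, hk, rfl⟩
    exact h.kap_mem hk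

theorem Two.Kb_comm (h : H.Two D Vs q e) {x y : H.Xq} (hx : x ∈ h.Kb) (hy : y ∈ h.Kb) :
    x * y = y * x := by
  obtain ⟨k, -, rfl⟩ := h.mem_Kb.1 hx
  obtain ⟨k', -, rfl⟩ := h.mem_Kb.1 hy
  rw [h.kap_add, h.kap_add, kadd_comm]

theorem Two.bsig_mem (h : H.Two D Vs q e) (s : Fin 4) : H.bsig D s ∈ h.Tb := by
  refine ⟨((0, 0, 0), s), (closed Vs h.vs).1,
    (show ∀ s : Fin 4, s ∈ ([0, 1, 2, 3] : List (Fin 4)) by decide) s, ?_⟩
  show H.kap D q e (0, 0, 0) * H.bsig D s = _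
  simp only [kap, bA, bB]
  rw [h.reps.one, h.e_zero, bar_one, mul_one, mul_one, one_mul, h.four_sq, one_mul]

theorem Two.bsig_conj_Kb (h : H.Two D Vs q e) (s : Fin 4) {x : H.Xq} (hx : x ∈ h.Kb) :
    H.bsig D s * x * H.bsig D s ∈ h.Kb := by
  obtain ⟨k, hk, rfl⟩ := h.mem_Kb.1 hx
  rw [h.bsig_kap]
  refine h.kap_mem ?_
  exact (congrArg (· ∈ Vs) (act_facts s k).2.2.1).mpr (by
    split
    · exact ((closed Vs h.vs).2 _ hk _ hk).2
    · exact hk)

theorem Two.Kb_le_normalizer (h : H.Two D Vs q e) : h.Tb ≤ normalizer (h.Kb : Set H.Xq) := by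
  refine fun g hg => CfsgLib.Signalizer.le_normalizer_of_conj_mem (A := h.Tb) ?_ hg
  rintro _ ⟨⟨k, s⟩, hk, -, rfl⟩ y hy
  have h1 := h.kap_mem (k := k) hk
  have h2 := h.bsig_conj_Kb s hy
  show H.kap D q e k * H.bsig D s * y * (H.kap D q e k * H.bsig D s)⁻¹ ∈ h.Kb
  rw [mul_inv_rev, inv_eq_of_mul_eq_one_right (h.bsig_sq s),
    show H.kap D q e k * H.bsig D s * y * (H.bsig D s * (H.kap D q e k)⁻¹) =
      H.kap D q e k * (H.bsig D s * y * H.bsig D s) * (H.kap D q e k)⁻¹ by group]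
  exact mul_mem (mul_mem h1 h2) (inv_mem h1)

/-- The normalizer of the vectors is as in the model. -/
def Two.NK (h : H.Two D Vs q e) : Prop :=
  ∀ n ∈ normalizer (h.Kb : Set H.Xq),
    ∃ k ∈ h.Kb, ∃ d ∈ H.Fix (H.S 1), ∃ s, n = k * H.bar d * H.bsig D s

theorem Two.isPGroup_Tb (h : H.Two D Vs q e) : IsPGroup 2 h.Tb := by
  have hc : Nat.card h.Tb = 16 * Vs.length * 4 := by
    rw [Tb, h.card_sub]
    congr 1
  rcases List.mem_cons.1 h.vs with e | e
  · exact IsPGroup.of_card (n := 6) (by rw [hc, e]; rfl)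
  · rw [List.mem_singleton] at e
    exact IsPGroup.of_card (n := 8) (by rw [hc, e]; rfl)

theorem Two.index_odd (h : H.Two D Vs q e) (hNK : h.NK) : Odd h.Tb.index := by
  haveI : Fact (Nat.Prime 2) := ⟨Nat.prime_two⟩
  obtain ⟨R, hR⟩ := h.isPGroup_Tb.exists_le_sylow
  suffices hRT : (R : Subgroup H.Xq) ≤ h.Tb by
    rw [le_antisymm hR hRT]
    exact Nat.not_even_iff_odd.1 fun hev => R.not_dvd_index (even_iff_two_dvd.1 hev)
  by_contra hne
  have hlt : h.Tb.subgroupOf (R : Subgroup H.Xq) < ⊤ :=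
    lt_top_iff_ne_top.2 fun e => hne (subgroupOf_eq_top.1 e)
  haveI := R.2.isNilpotent
  obtain ⟨⟨n, hnR⟩, hnn, hnT⟩ := SetLike.exists_of_lt
    (Group.normalizerCondition_of_isNilpotent _ hlt)
  have hconj : ∀ t ∈ h.Tb, n * t * n⁻¹ ∈ h.Tb := fun t ht =>
    ((mem_normalizer_iff.1 hnn) ⟨t, hR ht⟩).1 ht
  have hA : h.Kb.map (MulAut.conj n).toMonoidHom = h.Kb := by
    refine h.unique_Kb ?_ ?_ ?_
    · rintro _ ⟨x, hx, rfl⟩
      exact hconj x (h.Kb_le_Tb hx)
    · rintro _ ⟨x, hx, rfl⟩ _ ⟨y, hy, rfl⟩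
      rw [← map_mul, ← map_mul, h.Kb_comm hx hy]
    · exact (Nat.card_congr (h.Kb.equivMapOfInjective _ (MulAut.conj n).injective).toEquiv).symm
  have hnK : n ∈ normalizer (h.Kb : Set H.Xq) := mem_normalizer_iff.2 fun x => by
    constructor
    · intro hx
      rw [← hA]
      exact ⟨x, hx, rfl⟩
    · intro hx
      rw [← hA] at hx
      obtain ⟨y, hy, he⟩ := hx
      have : y = x := (MulAut.conj n).injective he
      exact this ▸ hy
  obtain ⟨k, hk, d, hd, s, rfl⟩ := hNK n hnK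
  have hkT := h.Kb_le_Tb hk
  have hsT := h.bsig_mem s
  have hdR : H.bar d ∈ (R : Subgroup H.Xq) := by
    have := mul_mem (mul_mem (inv_mem (hR hkT)) hnR) (inv_mem (hR hsT))
    rwa [show k⁻¹ * (k * H.bar d * H.bsig D s) * (H.bsig D s)⁻¹ = H.bar d by group] at this
  obtain ⟨m, hm⟩ := R.2 ⟨_, hdR⟩
  have hdC : d ∈ H.Cz := Fix_le_Cz hd
  have h3 : H.bar d ^ 3 = 1 := by
    rw [pow_succ, pow_two, ← bar_mul hdC hdC, ← bar_mul (mul_mem hdC hdC) hdC,
      show d * d * d = 1 by rw [← pow_two, ← pow_succ]; exact H.J_cube hd.1, bar_one]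
  have h1 : H.bar d = 1 := orderOf_eq_one_iff.1 (Nat.eq_one_of_dvd_coprimes
    ((Nat.Coprime.pow_left m (by norm_num : Nat.Coprime 2 3)))
    (orderOf_dvd_of_pow_eq_one (congrArg Subtype.val hm)) (orderOf_dvd_of_pow_eq_one h3))
  refine hnT (mem_subgroupOf.2 ?_)
  show k * H.bar d * H.bsig D s ∈ h.Tb
  rw [h1, mul_one]
  exact mul_mem hkT hsT

theorem Two.bar_Q1_mem (h : H.Two D Vs q e) {u : G} (hu : u ∈ H.Q1) :
    H.bar u ∈ h.Kb ∧ H.bar (D 4 * u * D 4) ∈ h.Kb := by
  obtain ⟨a, ha⟩ := h.reps.cover u hu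
  have huC : u ∈ H.Cz := mem_Cz.2 (Q1_cent hu).2
  have e1 : H.bar u = H.bar (q a) := (bar_eq huC (h.q_mem a)).2 ha
  have h4 := h.flips.mem_Cz' (d := 4) (by decide)
  have h0 := (closed Vs h.vs).1
  constructor
  · refine h.mem_Kb.2 ⟨(a, 0, 0), h0, ?_⟩
    rw [e1]
    simp only [kap, bA, bB]
    rw [h.reps.one, h.e_zero, bar_one, mul_one, mul_one, h.four_sq, mul_one]
  · refine h.mem_Kb.2 ⟨(0, a, 0), h0, ?_⟩
    rw [bar_mul (mul_mem h4 huC) h4, bar_mul h4 huC, e1]
    simp only [kap, bA, bB]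
    rw [h.reps.one, h.e_zero, bar_one, one_mul, mul_one]

theorem Two.fix_conj_four (h : H.Two D Vs q e) {d : G} (hd : d ∈ H.Fix (H.S 1)) :
    D 4 * d * D 4 ∈ H.Fix (H.S 1) := by
  obtain ⟨v, hv, rfl⟩ := mem_Fix_swap h.flips hd
  rw [h.flips.four_emb]
  exact (H.mem_Fix h.flips.named.1).2 ⟨_, (qP_conj_four v hv).1, rfl⟩

/-- When the conjugate quaternion group is the complement, the normalizer is as in the model. -/
theorem Two.nk_of_core (h : H.Two D [0] q e) {O : Subgroup G} (hC : H.Core D O)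
    (hO : H.Q2 D = O) : h.NK := by
  intro n hn
  have hF := h.flips
  have h4 := hF.mem_Cz' (d := 4) (by decide)
  obtain ⟨g, hg, rfl⟩ := bar_surjective n
  -- conjugates of the elements of the quaternion group
  have hin : ∀ u ∈ H.Q1, g * u * g⁻¹ ∈ H.Q1 ∨ g * u * g⁻¹ ∈ H.Q2 D := by
    intro u hu
    have huC : u ∈ H.Cz := mem_Cz.2 (Q1_cent hu).2
    have hz2 : H.S 1 ∈ H.Q2 D := hF.mem_Q2.2 (by
      rw [hF.four_z.1, mul_assoc, hF.sq, mul_one]; exact S_mem_Q1)
    have hmem := (mem_normalizer_iff.1 hn _).1 (h.bar_Q1_mem hu).1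
    rw [← bar_inv hg, ← bar_mul hg huC, ← bar_mul (mul_mem hg huC) (inv_mem hg),
      h.mem_Kb] at hmem
    obtain ⟨⟨a, b, v⟩, hv, hk⟩ := hmem
    rw [List.mem_singleton] at hv
    simp only at hv
    subst hv
    set y := g * u * g⁻¹ with hy
    have hyC : y ∈ H.Cz := mul_mem (mul_mem hg huC) (inv_mem hg)
    rw [h.kap_eq, eq_comm, bar_eq hyC (h.lift_mem (a, b, 0))] at hk
    simp only [h.e_zero, mul_one] at hk
    have hqQ : ∀ c, D 4 * q c * D 4 ∈ H.Q2 D := fun c => hF.mem_Q2.2 (by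
      rw [hF.conj_four]; exact h.reps.mem c)
    by_cases ha : a = 0
    · subst ha
      rw [h.reps.one, one_mul] at hk
      right
      rcases hk with e | e <;> rw [e]
      · exact hqQ b
      · exact mul_mem (hqQ b) hz2
    · by_cases hb : b = 0
      · subst hb
        rw [h.reps.one, mul_one, hF.sq, mul_one] at hk
        left
        rcases hk with e | e <;> rw [e]
        · exact h.reps.mem a
        · exact mul_mem (h.reps.mem a) S_mem_Q1
      · exfalso
        have hzc : ∀ {w : G}, w ∈ H.Cz → Commute w (H.S 1) := fun hw => mem_Cz.1 hw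
        have hbb : D 4 * q b * D 4 * (D 4 * q b * D 4) = H.S 1 := by
          calc D 4 * q b * D 4 * (D 4 * q b * D 4) = D 4 * (q b * (D 4 * D 4) * q b) * D 4 := by
                group
            _ = D 4 * H.S 1 * D 4 := by rw [hF.sq, mul_one, h.reps.sq b hb]
            _ = _ := by rw [hF.four_z.1, mul_assoc, hF.sq, mul_one]
        have hy2 : y * y = 1 := by
          have e1 : q a * (D 4 * q b * D 4) * (q a * (D 4 * q b * D 4)) = 1 := by
            rw [(h.comm a b).symm.mul_mul_mul_comm, h.reps.sq a ha, hbb, S_sq]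
          rcases hk with e | e <;> rw [e]
          · exact e1
          · have hcm : Commute (q a * (D 4 * q b * D 4)) (H.S 1) :=
              hzc (mul_mem (h.q_mem a) (mul_mem (mul_mem h4 (h.q_mem b)) h4))
            rw [hcm.symm.mul_mul_mul_comm, e1, S_sq, one_mul]
        have hu2 : u * u = 1 := by
          calc u * u = g⁻¹ * (y * y) * g := by rw [hy]; group
            _ = 1 := by rw [hy2]; group
        rcases Q1_sq hu with e | e | e
        · rw [e, mul_one, mul_inv_cancel] at hy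
          rw [hy] at hk
          refine ha (congrArg (fun k : Kv => k.1) (h.kap_inj (k := (a, b, 0))
            (List.mem_singleton_self _) ?_))
          rw [h.kap_eq, h.e_zero, mul_one, ← bar_one, bar_eq
            (mul_mem (h.q_mem a) (mul_mem (mul_mem h4 (h.q_mem b)) h4)) (one_mem _)]
          rcases hk with e' | e'
          · exact Or.inl e'.symm
          · right
            rw [one_mul]
            calc q a * (D 4 * q b * D 4)
                = q a * (D 4 * q b * D 4) * H.S 1 * (H.S 1)⁻¹ := by group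
              _ = _ := by rw [← e', one_mul, inv_eq_of_mul_eq_one_right S_sq]
        · rw [e, mem_Cz.1 hg, mul_inv_cancel_right] at hy
          rw [hy] at hk
          refine ha (congrArg (fun k : Kv => k.1) (h.kap_inj (k := (a, b, 0))
            (List.mem_singleton_self _) ?_))
          rw [h.kap_eq, h.e_zero, mul_one, ← bar_one, bar_eq
            (mul_mem (h.q_mem a) (mul_mem (mul_mem h4 (h.q_mem b)) h4)) (one_mem _)]
          rcases hk with e' | e'
          · exact Or.inr (by rw [one_mul]; exact e'.symm)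
          · exact Or.inl ((mul_eq_right.1 e'.symm))
        · exact S_ne_one (e.symm.trans hu2)
  -- all conjugates lie in one of them
  have hone : (∀ u ∈ H.Q1, g * u * g⁻¹ ∈ H.Q1) ∨ ∀ u ∈ H.Q1, g * u * g⁻¹ ∈ H.Q2 D := by
    by_contra hc
    push Not at hc
    obtain ⟨⟨u₁, hu₁, h1⟩, u₂, hu₂, h2⟩ := hc
    have h1' := (hin u₁ hu₁).resolve_left h1
    have h2' := (hin u₂ hu₂).resolve_right h2
    have e : g * (u₁ * u₂) * g⁻¹ = g * u₁ * g⁻¹ * (g * u₂ * g⁻¹) := by group
    rcases hin _ (mul_mem hu₁ hu₂) with h3 | h3 <;> rw [e] at h3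
    · exact h1 ((mul_mem_cancel_right h2').1 h3)
    · exact h2 ((mul_mem_cancel_left h1').1 h3)
  -- elements normalizing the quaternion group
  have key : ∀ g₁ : G, g₁ ∈ H.Cz → (∀ u ∈ H.Q1, g₁ * u * g₁⁻¹ ∈ H.Q1) →
      ∃ k ∈ h.Kb, ∃ d ∈ H.Fix (H.S 1), ∃ s, H.bar g₁ = k * H.bar d * H.bsig D s := by
    intro g₁ hg₁ hnorm
    obtain ⟨o, ho, c, hcx, hcz, hgc⟩ := hC.normalizer_Q1 (mem_Cz.1 hg₁) hnorm
    obtain ⟨t, ht, rfl⟩ := exists_par hcx hcz
    obtain ⟨v, hv, hu⟩ := zP_split t ht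
    have hdF : (H.emb v)⁻¹ ∈ H.Fix (H.S 1) :=
      inv_mem ((H.mem_Fix hF.named.1).2 ⟨v, hv, rfl⟩)
    set u := H.par (tmul t (tE v))
    have huQ : u ∈ H.Q1 := ⟨_, hu, rfl⟩
    have htu : H.par t = u * (H.emb v)⁻¹ := by
      show _ = H.par (tmul t (tE v)) * _
      rw [H.par_mul]
      exact (mul_inv_cancel_right _ _).symm
    have hoC : o ∈ H.Cz := mem_Cz.2 (hC.comm_z ho)
    have huC : u ∈ H.Cz := mem_Cz.2 (Q1_cent huQ).2
    have hdC := Fix_le_Cz hdF
    have hoK : H.bar o ∈ h.Kb := by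
      have := (h.bar_Q1_mem (hF.mem_Q2.1 (hO ▸ ho))).2
      rwa [hF.conj_four] at this
    refine ⟨H.bar o * H.bar u, mul_mem hoK (h.bar_Q1_mem huQ).1, _, hdF, ?_⟩
    rcases hgc with e | e
    · refine ⟨0, ?_⟩
      rw [e, htu, show H.bsig D 0 = 1 from rfl, mul_one, bar_mul hoC (mul_mem huC hdC),
        bar_mul huC hdC, mul_assoc]
    · refine ⟨3, ?_⟩
      rw [e, htu, show H.bsig D 3 = H.bar (D 7) from rfl,
        bar_mul (mul_mem hoC (mul_mem huC hdC)) (hF.mem_Cz' (by decide)),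
        bar_mul hoC (mul_mem huC hdC), bar_mul huC hdC]
      simp only [mul_assoc]
  rcases hone with h1 | h1
  · exact key g hg h1
  · obtain ⟨k, hk, d, hd, s, hks⟩ := key (D 4 * g) (mul_mem h4 hg) fun u hu => by
      have := hF.mem_Q2.1 (h1 u hu)
      rwa [show D 4 * (g * u * g⁻¹) * D 4 = D 4 * g * u * (D 4 * g)⁻¹ by
        rw [mul_inv_rev, hF.inv]; group] at this
    have hdC := Fix_le_Cz hd
    refine ⟨H.bar (D 4) * k * H.bar (D 4), h.bsig_conj_Kb 1 hk, _, h.fix_conj_four hd,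
      x4 1 s, ?_⟩
    rw [← h.bsig_mul, show H.bsig D 1 = H.bar (D 4) from rfl, bar_mul (mul_mem h4 hdC) h4,
      bar_mul h4 hdC]
    calc H.bar g = H.bar (D 4) * H.bar (D 4) * H.bar g := by rw [h.four_sq, one_mul]
      _ = H.bar (D 4) * H.bar (D 4 * g) := by rw [bar_mul h4 hg, mul_assoc]
      _ = H.bar (D 4) * k * (H.bar (D 4) * H.bar (D 4)) * H.bar d *
            (H.bar (D 4) * H.bar (D 4)) * H.bsig D s := by rw [hks, h.four_sq]; group
      _ = _ := by group

end Hyp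

end CfsgLib.PSpFourRec
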