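import Cfsg.Agent.PSpFourRec.Full
import Cfsg.Agent.PSpFourRec.Inv
import Cfsg.Agent.PSpFourRec.Six

/-!
# The full monomial automizer: the types of involutions
-/

set_option autoImplicit false
set_option maxRecDepth 100000
set_option synthInstance.maxSize 100000
set_option linter.style.haveILetI false
set_option linter.unusedSectionVars false

namespace CfsgLib.PSpFourRec

open CfsgLib.AltNine CfsgLib.PSpFourThree Subgroup
open CfsgLib.ThreeSymNine (Mat app mm pmat dmat mono pa pm pinv dig sm nv_nv pa_table app_pmat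
  app_one ext_app allSigns dx du db pd bc mono_tables)

attribute [local instance 10000] List.decidableBAll List.decidableBEx

universe u

theorem wt_two : ∀ d ∈ allSigns, ∀ a : Fin 6, app (mono d a) 4 ≠ 13 ∧ app (mono d a) 4 ≠ 9 ∧
    app (mono d a) 9 ≠ 4 ∧ app (mono d a) 9 ≠ 13 ∧ app (mono d a) 9 ≠ 26 ∧
    app (mono d a) 9 ≠ 8 := by decide +kernel

theorem stab_two_sq : ∀ d ∈ allSigns, ∀ a : Fin 6, app (mono d a) 4 = 4 →
    mm (mono d a) (mono d a) = pmat 0 := by decide +kernel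

theorem six_commuting : ∀ σ : Equiv.Perm (Fin 6), σ ^ 3 = 1 →
    σ * (Equiv.swap 0 1 * Equiv.swap 3 4) = (Equiv.swap 0 1 * Equiv.swap 3 4) * σ → σ = 1 := by
  decide +kernel

theorem mid_class : ∀ d ∈ allSigns, ∀ a : Fin 6, ∀ v : Fin 27,
    (v = app (mono d a) 13 → zd v 0 ≠ 0 ∧ zd v 1 ≠ 0 ∧ zd v 2 ≠ 0) := by decide +kernel

theorem type_tables : mono 4 0 = dmat 4 ∧ mono 3 0 = dmat 3 ∧
    (Finset.univ.filter fun v => app (mono 4 0) v = v).card = 9 ∧
    (Finset.univ.filter fun v => app (mono 0 1) v = v).card = 9 ∧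
    app (mono 4 0) 4 = 4 ∧ app (mono 0 1) 4 = 4 ∧
    app (mono 3 0) 9 = 9 ∧ app (mono 4 1) 4 = 4 ∧ app (mono 7 1) 7 = 7 ∧
    app (mono 0 1) 13 = 13 ∧
    (∀ v, app (mono 3 0) v = v → ∃ k : Fin 3, v = sm k 9) ∧
    (∀ v, app (mono 4 1) v = v → ∃ k : Fin 3, v = sm k 4) ∧
    (∀ v, app (mono 7 1) v = v → ∃ k : Fin 3, v = sm k 7) ∧
    (∀ v, app (mono 4 0) v = v → zd v 2 = 0) := by decide +kernel

theorem commuting_four : ∀ e ∈ ([(4, 0), (0, 1)] : List (Fin 8 × Fin 6)), ∀ d ∈ allSigns,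
    ∀ a : Fin 6, (∀ v ∈ ([1, 3, 9] : List (Fin 27)),
      app (mono d a) (app (mono e.1 e.2) v) = app (mono e.1 e.2) (app (mono d a) v)) →
      ∀ v, app (mono d a) (app (mono d a) (app (mono d a) (app (mono d a) v))) = v := by
  decide +kernel

namespace Hyp

variable {G : Type u} [Group G] [Finite G] {H : Hyp G} {D : Fin 8 → G}

/-- The involutions named in the normalizer. -/
theorem Flips.named (h : H.Flips D) :
    H.Induces (H.S 1) (mono 0 1) ∧ H.Induces (D 4) (mono 4 0) ∧ H.Induces (D 3) (mono 3 0) ∧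
    H.Induces (D 4 * H.S 1) (mono 4 1) ∧ H.Induces (D 7 * H.S 1) (mono 7 1) := by
  have hS : H.Induces (H.S 1) (mono 0 1) := by
    have := h.el_ind 0 0 1
    rwa [el, H.emb_zero, h.zero, one_mul, one_mul] at this
  have hD : ∀ d, H.Induces (D d) (mono d 0) := fun d => by
    have := h.el_ind 0 d 0
    rwa [el, H.emb_zero, one_mul, H.S_zero, mul_one] at this
  have hDS : ∀ d a, H.Induces (D d * H.S a) (mono d a) := fun d a => by
    have := h.el_ind 0 d a
    rwa [el, H.emb_zero, one_mul] at this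
  exact ⟨hS, hD 4, hD 3, hDS 4 1, hDS 7 1⟩

theorem Signs.cube_of_pow {v : Fin 27} {X : List (Fin 27)} (hX : X = [v])
    (h4 : ∀ M, H.Stab X M → ∀ w, app M (app M (app M (app M w))) = w) {R : Subgroup G}
    (hR : IsPGroup 3 R) (hRC : R ≤ centralizer ({H.emb v} : Set G)) : ∀ q ∈ R, q ^ 3 = 1 := by
  haveI : Fact (Nat.Prime 3) := ⟨Nat.prime_three⟩
  obtain ⟨Q, hQ⟩ := H.sylow_C' X h4
  have hRC' : R ≤ H.C X := by rwa [hX, H.C_singleton]
  obtain ⟨S, hS⟩ :=
    (hR.of_equiv (subgroupOfEquivOfLe hRC').symm : IsPGroup 3 (R.subgroupOf (H.C X))).exists_le_sylow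
  obtain ⟨c, hc⟩ := MulAction.exists_smul_eq (H.C X) S Q
  intro q hq
  have : c * ⟨q, hRC' hq⟩ * c⁻¹ ∈ (Q : Subgroup (H.C X)) := by
    rw [← hc, Sylow.coe_subgroup_smul]
    exact ⟨⟨q, hRC' hq⟩, hS (show (⟨q, hRC' hq⟩ : H.C X) ∈ R.subgroupOf (H.C X) from hq), rfl⟩
  rw [hQ] at this
  have h3 : ((c : G) * q * (c : G)⁻¹) ^ 3 = 1 := H.J_cube this
  rw [conj_pow, conj_eq_one_iff] at h3
  exact h3

/-- If an element of order three of `C(t)` centralizing a fixed vector lies in its line, the line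
is a Sylow subgroup of `C(t)`. -/
theorem sylow_line {t : G} {w : Fin 27} (hw : w ≠ 0) (htw : t * H.emb w = H.emb w * t)
    (h4 : ∀ M, H.Stab [w] M → ∀ v, app M (app M (app M (app M v))) = v)
    (honly : ∀ q : G, q * t = t * q → q * H.emb w = H.emb w * q → q ^ 3 = 1 →
      q ∈ zpowers (H.emb w)) :
    ¬ 9 ∣ Nat.card (centralizer ({t} : Set G)) ∧
    ∀ q : G, q * t = t * q → orderOf q = 3 →
      ∃ c : G, c * t = t * c ∧ c * q * c⁻¹ ∈ zpowers (H.emb w) := by
  haveI : Fact (Nat.Prime 3) := ⟨Nat.prime_three⟩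
  set C := centralizer ({t} : Set G) with hC
  have hwC : H.emb w ∈ C := mem_centralizer_singleton_iff.2 htw.symm
  set w' : C := ⟨H.emb w, hwC⟩
  have hw3 : orderOf w' = 3 := by
    rw [orderOf_mk]
    exact orderOf_eq_prime (H.emb_cube w) fun e => hw (H.emb_inj (e.trans H.emb_zero.symm))
  have hp : IsPGroup 3 (zpowers w') := IsPGroup.of_card (n := 1) (by
    rw [Nat.card_zpowers, hw3, pow_one])
  obtain ⟨Q, hQ⟩ := hp.exists_le_sylow
  have hQeq : (Q : Subgroup C) = zpowers w' := by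
    refine le_antisymm ?_ hQ
    by_contra hne
    have hlt : (zpowers w').subgroupOf (Q : Subgroup C) < ⊤ :=
      lt_top_iff_ne_top.2 fun e => hne (subgroupOf_eq_top.1 e)
    haveI := Q.2.isNilpotent
    obtain ⟨⟨g, hgQ⟩, hgn, hgP⟩ := SetLike.exists_of_lt
      (Group.normalizerCondition_of_isNilpotent _ hlt)
    have hgw : g * w' * g⁻¹ ∈ zpowers w' :=
      ((mem_normalizer_iff.1 hgn) ⟨w', hQ (mem_zpowers w')⟩).1 (mem_zpowers w')
    obtain ⟨k, hk⟩ := Q.2 ⟨g, hgQ⟩
    have hk' : g ^ 3 ^ k = 1 := congrArg Subtype.val hk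
    have hcomm : g * w' = w' * g := by
      have hw2 : ∀ z ∈ zpowers w', z = 1 ∨ z = w' ∨ z = w'⁻¹ := by
        intro z hz
        obtain ⟨n, hn, rfl⟩ := (mem_zpowers_iff.1 hz).elim fun i hi =>
          (⟨(i % 3).toNat, by omega, by
            rw [← hi, ← zpow_natCast, Int.toNat_of_nonneg (by omega), ← zpow_mod_orderOf w' i, hw3]
            rfl⟩ : ∃ n, n < 3 ∧ w' ^ n = z)
        interval_cases n
        · exact Or.inl (pow_zero _)
        · exact Or.inr (Or.inl (pow_one _))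
        · refine Or.inr (Or.inr (eq_inv_of_mul_eq_one_left ?_))
          rw [← pow_succ, show 2 + 1 = orderOf w' by rw [hw3], pow_orderOf_eq_one]
      rcases hw2 _ hgw with h | h | h
      · rw [conj_eq_one_iff] at h
        rw [h, orderOf_one] at hw3
        omega
      · exact mul_inv_eq_iff_eq_mul.1 h
      · exfalso
        have hi : ∀ n : ℕ, MulAut.conj (g ^ (2 * n + 1)) w' = w'⁻¹ := by
          intro n
          induction n with
          | zero => simpa using h
          | succ n ih =>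
            rw [show 2 * (n + 1) + 1 = 2 * n + 1 + 1 + 1 by ring, pow_succ, pow_succ, map_mul,
              map_mul, MulAut.mul_apply, MulAut.mul_apply, MulAut.conj_apply g w', h, map_inv,
              MulAut.conj_apply g w', h, inv_inv, ih]
        obtain ⟨n, hn⟩ := (show Odd (3 ^ k) from Odd.pow (by decide))
        have h1 := hi n
        rw [← hn, hk', map_one, MulAut.one_apply] at h1
        have h2 : w' * w' = 1 := mul_eq_one_iff_eq_inv.2 h1
        have h3 := orderOf_dvd_of_pow_eq_one ((pow_two w').trans h2)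
        rw [hw3] at h3
        norm_num at h3
    have hgc : (g : G) ^ 3 = 1 := by
      refine Signs.cube_of_pow (v := w) (X := [w]) rfl h4 (R := zpowers (g : G)) ?_ ?_ _
        (mem_zpowers _)
      · refine fun x => ⟨k, Subtype.ext ?_⟩
        obtain ⟨i, hi⟩ := mem_zpowers_iff.1 x.2
        rw [SubmonoidClass.coe_pow, ← hi, ← zpow_natCast, ← zpow_mul, mul_comm, zpow_mul,
          zpow_natCast, show (g : G) ^ 3 ^ k = 1 from congrArg Subtype.val hk', one_zpow]
        rfl
      · rw [zpowers_le, mem_centralizer_singleton_iff]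
        exact congrArg Subtype.val hcomm
    obtain ⟨i, hi⟩ := honly g (mem_centralizer_singleton_iff.1 g.2) (congrArg Subtype.val hcomm) hgc
    exact hgP ⟨i, Subtype.ext hi⟩
  refine ⟨fun h9 => ?_, fun q hq hq3 => ?_⟩
  · have h := (Q : Subgroup C).card_mul_index
    have hnd := Q.not_dvd_index
    rw [hQeq, Nat.card_zpowers, hw3] at h
    rw [hQeq] at hnd
    rw [← h] at h9
    exact hnd (Nat.dvd_of_mul_dvd_mul_left (by norm_num : 0 < 3) h9)
  · let q' : C := ⟨q, mem_centralizer_singleton_iff.2 hq⟩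
    have hp' : IsPGroup 3 (zpowers q') := IsPGroup.of_card (n := 1) (by
      rw [Nat.card_zpowers, orderOf_mk, hq3, pow_one])
    obtain ⟨R, hR⟩ := hp'.exists_le_sylow
    obtain ⟨c, hc⟩ := MulAction.exists_smul_eq C R Q
    have : c * q' * c⁻¹ ∈ (Q : Subgroup C) := by
      rw [← hc, Sylow.coe_subgroup_smul]
      exact ⟨q', hR (mem_zpowers q'), rfl⟩
    rw [hQeq] at this
    obtain ⟨i, hi⟩ := this
    exact ⟨c, mem_centralizer_singleton_iff.1 c.2, i, by
      simpa using congrArg Subtype.val hi⟩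

theorem Signs.C_four_of (hs : H.Signs allSigns) {v : Fin 27} {d : Fin 8} {a : Fin 6}
    (hd : d ∈ allSigns) (hv : app (mono d a) 4 = v) : centralizer ({H.emb v} : Set G) ≤ H.N := by
  rw [← hv]
  exact H.cent_le_transport (hs.mem hd a) ((H.C_singleton 4).symm.le.trans hs.C_four)

/-- The only elements of order three centralizing a wedge and its involution. -/
theorem only_four (hs : H.Signs allSigns) {t : G} {T : Mat} (hT : H.Induces t T) {v : Fin 27}
    (hv : centralizer ({H.emb v} : Set G) ≤ H.N)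
    (hsq : ∀ M, H.Stab [v] M → mm M M = pmat 0)
    (hline : ∀ w, app T w = w → ∃ k : Fin 3, w = sm k v) {q : G} (hqt : q * t = t * q)
    (hqv : q * H.emb v = H.emb v * q) (hq3 : q ^ 3 = 1) : q ∈ zpowers (H.emb v) := by
  obtain ⟨M, hM⟩ := H.exists_induces_of_mem (hv (mem_centralizer_singleton_iff.2 hqv))
  have hst : H.Stab [v] M := hM.stab (H.C_singleton v ▸ mem_centralizer_singleton_iff.2 hqv)
  have h2 : q * q ∈ H.J := H.mem_J_of_induces_one (hsq M hst ▸ hM.mul hM)
  have hqJ : q ∈ H.J := by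
    rw [show q = (q * q)⁻¹ by
      refine eq_inv_of_mul_eq_one_left ?_
      rw [← hq3, pow_succ', pow_two]]
    exact inv_mem h2
  obtain ⟨w, rfl⟩ : ∃ w, H.emb w = q := hqJ
  obtain ⟨k, rfl⟩ := hline w (H.emb_inj (by
    rw [← hT, ← hqt, mul_inv_cancel_right]))
  rw [H.emb_sm]
  exact pow_mem (mem_zpowers _) _

/-- In both cases, the only elements of order three centralizing the basis vector and the product
of the first two sign changes. -/
theorem only_nine (h : H.Flips D) {q : G} (hqt : q * D 3 = D 3 * q)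
    (hqv : q * H.emb 9 = H.emb 9 * q) (hq3 : q ^ 3 = 1) : q ∈ zpowers (H.emb 9) := by
  rcases h.signs.C_nine with hA | ⟨L, hL, ⟨φ₀⟩⟩
  · obtain ⟨M, hM⟩ := H.exists_induces_of_mem (hA (show q ∈ H.C [9] from H.mem_C.2 fun v hv => by
      rw [List.mem_singleton.1 hv]; exact hqv))
    have hst : H.Stab [9] M := hM.stab (H.mem_C.2 fun v hv => by
      rw [List.mem_singleton.1 hv]; exact hqv)
    have h4 := CfsgLib.ThreeSymNine.nine_tables.2.1 M
      (h.signs.stab [9] _ CfsgLib.ThreeSymNine.nine_tables.1 hst)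
    have h44 : q * q * (q * q) ∈ H.J := H.mem_J_of_induces_one fun v => by
      rw [(hM.mul hM).comp (hM.mul hM), hM.app_mm hM, hM.app_mm hM, h4.2.1 v, app_pmat,
        pa_table.1 v]
    have hqJ : q ∈ H.J := by
      rwa [show q = q * q * (q * q) by
        calc q = q ^ 3 * q := by rw [hq3, one_mul]
          _ = _ := by rw [pow_succ, pow_two]; group]
    obtain ⟨w, rfl⟩ : ∃ w, H.emb w = q := hqJ
    obtain ⟨k, rfl⟩ := type_tables.2.2.2.2.2.2.2.2.2.2.1 w (H.emb_inj (by
      rw [← h.named.2.2.1, ← hqt, mul_inv_cancel_right]))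
    rw [H.emb_sm]
    exact pow_mem (mem_zpowers _) _
  · obtain ⟨φ, hX⟩ := h.exists_six hL φ₀
    exact hX.only_nine_six hqt hqv hq3

theorem Flips.stab_four (h : H.Flips D) {v : Fin 27} (hv : v ∈ ([4, 7] : List (Fin 27))) :
    ∀ M, H.Stab [v] M → mm M M = pmat 0 := by
  intro M hM
  obtain ⟨d, hd, a, rfl⟩ := (h.signs M).1 hM.1
  exact (show ∀ d : Fin 8, ∀ a : Fin 6, ∀ v ∈ ([4, 7] : List (Fin 27)),
    app (mono d a) v = v → mm (mono d a) (mono d a) = pmat 0 by decide +kernel) d a v hv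
      (hM.2 v List.mem_cons_self)

theorem sq_four {v : Fin 27} (h2 : ∀ M, H.Stab [v] M → mm M M = pmat 0) :
    ∀ M, H.Stab [v] M → ∀ w, app M (app M (app M (app M w))) = w := by
  intro M hM w
  obtain ⟨g, hg⟩ := hM.1
  refine H.emb_inj ?_
  have h1 : H.Induces (g * g) (pmat 0) := h2 M hM ▸ hg.mul hg
  rw [← hg, ← hg, ← hg, ← hg]
  calc g * (g * (g * (g * H.emb w * g⁻¹) * g⁻¹) * g⁻¹) * g⁻¹
      = (g * g) * ((g * g) * H.emb w * (g * g)⁻¹) * (g * g)⁻¹ := by group
    _ = H.emb w := by rw [h1, h1, app_pmat, app_pmat, pa_table.1, pa_table.1]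

theorem Flips.four_le (h : H.Flips D) {v : Fin 27} (hv : v ∈ ([4, 7] : List (Fin 27))) :
    centralizer ({H.emb v} : Set G) ≤ H.N := by
  simp only [List.mem_cons, List.not_mem_nil, or_false] at hv
  rcases hv with rfl | rfl
  · exact h.signs.C_four_of (d := 0) (a := 0) (by decide) (by decide +kernel)
  · exact h.signs.C_four_of (d := 2) (a := 0) (by decide) (by decide +kernel)

/-- The involutions with a fixed line of the second type. -/
theorem Flips.small_u (h : H.Flips D) {t : G} {T : Mat} {v : Fin 27}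
    (hv : v ∈ ([4, 7] : List (Fin 27))) (hT : H.Induces t T) (hfix : app T v = v)
    (hline : ∀ w, app T w = w → ∃ k : Fin 3, w = sm k v) :
    ¬ 9 ∣ Nat.card (centralizer ({t} : Set G)) ∧
    ∀ q : G, q * t = t * q → orderOf q = 3 →
      ∃ c : G, c * t = t * c ∧ c * q * c⁻¹ ∈ zpowers (H.emb v) := by
  have hv0 : v ≠ 0 := fun e => by subst e; simp at hv
  have hc : t * H.emb v = H.emb v * t := by
    have := hT v
    rw [hfix] at this
    exact mul_inv_eq_iff_eq_mul.1 this
  exact sylow_line hv0 hc (sq_four (h.stab_four hv)) fun q h1 h2 h3 =>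
    only_four h.signs hT (h.four_le hv) (h.stab_four hv) hline h1 h2 h3

/-- The product of the first two sign changes. -/
theorem Flips.small_g (h : H.Flips D) :
    ¬ 9 ∣ Nat.card (centralizer ({D 3} : Set G)) ∧
    ∀ q : G, q * D 3 = D 3 * q → orderOf q = 3 →
      ∃ c : G, c * D 3 = D 3 * c ∧ c * q * c⁻¹ ∈ zpowers (H.emb 9) := by
  refine sylow_line (by decide) ?_ (fun M hM => ?_) fun q h1 h2 h3 => only_nine h h1 h2 h3
  · have := h.named.2.2.1 9
    rw [type_tables.2.2.2.2.2.2.1] at this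
    exact mul_inv_eq_iff_eq_mul.1 this
  · exact (CfsgLib.ThreeSymNine.nine_tables.2.1 M
      (h.signs.stab [9] _ CfsgLib.ThreeSymNine.nine_tables.1 hM)).2.1

theorem Flips.small_j (h : H.Flips D) :
    ¬ 9 ∣ Nat.card (centralizer ({D 4 * H.S 1} : Set G)) :=
  (h.small_u (v := 4) (by decide) h.named.2.2.2.1 type_tables.2.2.2.2.2.2.2.1
    type_tables.2.2.2.2.2.2.2.2.2.2.2.1).1

theorem Flips.small_j' (h : H.Flips D) :
    ¬ 9 ∣ Nat.card (centralizer ({D 7 * H.S 1} : Set G)) :=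
  (h.small_u (v := 7) (by decide) h.named.2.2.2.2 type_tables.2.2.2.2.2.2.2.2.1
    type_tables.2.2.2.2.2.2.2.2.2.2.2.2.1).1

/-- An involution fixing a plane with an element of weight two has a Sylow subgroup of order
nine. -/
theorem Flips.sylow_plane (h : H.Flips D) {t : G} {d : Fin 8} {a : Fin 6}
    (he : (d, a) ∈ ([(4, 0), (0, 1)] : List (Fin 8 × Fin 6))) (ht : H.Induces t (mono d a)) :
    ∃ Q : Sylow 3 (centralizer {t}), (Q : Subgroup (centralizer {t})) =
        (H.Fix t).subgroupOf (centralizer {t}) ∧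
      ∀ n ∈ normalizer ((Q : Subgroup (centralizer {t})) : Set (centralizer {t})),
        (n : G) ∈ H.N := by
  refine H.sylow_centralizer ht ⟨4, ?_, h.signs.C_four⟩ fun M hM hc => ?_
  · simp only [List.mem_cons, List.not_mem_nil, or_false, Prod.mk.injEq] at he
    rcases he with ⟨rfl, rfl⟩ | ⟨rfl, rfl⟩
    · exact type_tables.2.2.2.2.1
    · exact type_tables.2.2.2.2.2.1
  · obtain ⟨d', hd', a', rfl⟩ := (h.signs M).1 hM
    exact commuting_four _ he d' hd' a' fun v _ => hc v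

theorem nine_dvd_fix {t : G} {T : Mat} (hT : H.Induces t T)
    (h9 : (Finset.univ.filter fun v => app T v = v).card = 9) :
    9 ∣ Nat.card (centralizer ({t} : Set G)) := by
  rw [← h9, ← H.card_Fix hT]
  exact card_dvd_of_le fun g hg => hg.2

theorem not_conj_of_card {a b : G} (h : Nat.card (centralizer ({a} : Set G)) ≠
    Nat.card (centralizer ({b} : Set G))) (g : G) : g * a * g⁻¹ ≠ b := by
  rintro rfl
  refine h (Nat.card_congr ((MulAut.conj g).toEquiv.subtypeEquiv fun y => ?_))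
  show y ∈ centralizer ({a} : Set G) ↔ g * y * g⁻¹ ∈ centralizer ({g * a * g⁻¹} : Set G)
  rw [mem_centralizer_singleton_iff, mem_centralizer_singleton_iff]
  constructor
  · intro e
    calc g * y * g⁻¹ * (g * a * g⁻¹) = g * (y * a) * g⁻¹ := by group
      _ = g * (a * y) * g⁻¹ := by rw [e]
      _ = _ := by group
  · intro e
    calc y * a = g⁻¹ * (g * y * g⁻¹ * (g * a * g⁻¹)) * g := by group
      _ = g⁻¹ * (g * a * g⁻¹ * (g * y * g⁻¹)) * g := by rw [e]
      _ = _ := by group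

/-- The involutions with nine in the centralizer order and those without are not conjugate. -/
theorem not_conj_of_nine {a b : G} (ha : 9 ∣ Nat.card (centralizer ({a} : Set G)))
    (hb : ¬ 9 ∣ Nat.card (centralizer ({b} : Set G))) (g : G) :
    g * a * g⁻¹ ≠ b ∧ g * b * g⁻¹ ≠ a :=
  ⟨not_conj_of_card (fun e => hb (e ▸ ha)) g, not_conj_of_card (fun e => hb (e.symm ▸ ha)) g⟩

/-- The transposition and the single sign change are not conjugate. -/
theorem Flips.z_ne_f (h : H.Flips D) (g : G) : g * H.S 1 * g⁻¹ ≠ D 4 := by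
  intro hg
  haveI : Fact (Nat.Prime 3) := ⟨Nat.prime_three⟩
  obtain ⟨Q, hQ, -⟩ := h.sylow_plane (d := 4) (a := 0) (by decide) h.named.2.1
  have hx : H.x * H.S 1 = H.S 1 * H.x := by
    have := h.named.1 13
    rw [type_tables.2.2.2.2.2.2.2.2.2.1] at this
    exact (mul_inv_eq_iff_eq_mul.1 this).symm
  have hy : g * H.x * g⁻¹ ∈ centralizer ({D 4} : Set G) := by
    rw [mem_centralizer_singleton_iff, ← hg]
    calc g * H.x * g⁻¹ * (g * H.S 1 * g⁻¹) = g * (H.x * H.S 1) * g⁻¹ := by group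
      _ = g * (H.S 1 * H.x) * g⁻¹ := by rw [hx]
      _ = _ := by group
  let y : centralizer ({D 4} : Set G) := ⟨_, hy⟩
  have hp : IsPGroup 3 (zpowers y) := by
    refine IsPGroup.of_card (n := 1) ?_
    rw [Nat.card_zpowers, pow_one, orderOf_mk]
    refine orderOf_eq_prime ?_ fun e => ?_
    · rw [conj_pow, Hyp.x, H.emb_cube, mul_one, mul_inv_cancel]
    · rw [conj_eq_one_iff, ← H.emb_zero] at e
      exact absurd (H.emb_inj e) (by decide)
  obtain ⟨R, hR⟩ := hp.exists_le_sylow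
  obtain ⟨c, hc⟩ := MulAction.exists_smul_eq (centralizer ({D 4} : Set G)) R Q
  have hmem : c * y * c⁻¹ ∈ (Q : Subgroup (centralizer ({D 4} : Set G))) := by
    rw [← hc, Sylow.coe_subgroup_smul]
    exact ⟨y, hR (mem_zpowers y), rfl⟩
  rw [hQ] at hmem
  obtain ⟨w, hw, hwe⟩ := (H.mem_Fix h.named.2.1).1 (mem_subgroupOf.1 hmem)
  obtain ⟨M, hM, hMw⟩ := H.fusion_app (v := 13) (w := w) (g := (c : G) * g) (by
    rw [← hwe]
    show (c : G) * g * H.x * ((c : G) * g)⁻¹ = (c : G) * (g * H.x * g⁻¹) * (c : G)⁻¹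
    group)
  obtain ⟨d, hd, a, rfl⟩ := (h.signs M).1 hM
  exact (mid_class d hd a w hMw.symm).2.2 (type_tables.2.2.2.2.2.2.2.2.2.2.2.2.2 w hw)

/-- The two sorts of fixed lines give different classes. -/
theorem Flips.g_ne_j (h : H.Flips D) {t : G} {T : Mat} {v : Fin 27}
    (hv : v ∈ ([4, 7] : List (Fin 27))) (hT : H.Induces t T) (hfix : app T v = v)
    (hline : ∀ w, app T w = w → ∃ k : Fin 3, w = sm k v) (g : G) : g * D 3 * g⁻¹ ≠ t := by
  intro hg
  have hv0 : v ≠ 0 := fun e => by subst e; simp at hv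
  have hw : H.emb 9 * D 3 = D 3 * H.emb 9 := by
    have := h.named.2.2.1 9
    rw [type_tables.2.2.2.2.2.2.1] at this
    exact (mul_inv_eq_iff_eq_mul.1 this).symm
  have h3 : orderOf (g * H.emb 9 * g⁻¹) = 3 := by
    haveI : Fact (Nat.Prime 3) := ⟨Nat.prime_three⟩
    refine orderOf_eq_prime ?_ fun e => ?_
    · rw [conj_pow, H.emb_cube, mul_one, mul_inv_cancel]
    · rw [conj_eq_one_iff, ← H.emb_zero] at e
      exact absurd (H.emb_inj e) (by decide)
  obtain ⟨c, -, i, hi⟩ := (h.small_u hv hT hfix hline).2 (g * H.emb 9 * g⁻¹) (by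
    rw [← hg]
    calc g * H.emb 9 * g⁻¹ * (g * D 3 * g⁻¹) = g * (H.emb 9 * D 3) * g⁻¹ := by group
      _ = g * (D 3 * H.emb 9) * g⁻¹ := by rw [hw]
      _ = _ := by group) h3
  have he : c * g * H.emb 9 * (c * g)⁻¹ = H.emb v ^ i := by
    rw [show H.emb v ^ i = c * (g * H.emb 9 * g⁻¹) * c⁻¹ from hi]; group
  have hk : ∃ k : Fin 3, H.emb v ^ i = H.emb (sm k v) := by
    refine ⟨⟨(i % 3).toNat, by omega⟩, ?_⟩
    rw [H.emb_sm, ← zpow_natCast, Int.toNat_of_nonneg (by omega)]
    conv_lhs => rw [← Int.emod_add_ediv_mul i 3, zpow_add, mul_comm _ (3 : ℤ), zpow_mul,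
      show (3 : ℤ) = ((3 : ℕ) : ℤ) from rfl, zpow_natCast, H.emb_cube, one_zpow, mul_one]
    rfl
  obtain ⟨k, hk⟩ := hk
  rw [hk] at he
  obtain ⟨M, hM, hMv⟩ := H.fusion_app he
  obtain ⟨d, hd, a, rfl⟩ := (h.signs M).1 hM
  exact (show ∀ d : Fin 8, ∀ a : Fin 6, ∀ v ∈ ([4, 7] : List (Fin 27)), ∀ k : Fin 3,
    app (mono d a) 9 ≠ sm k v by decide +kernel) d a v hv k hMv

end Hyp

end CfsgLib.PSpFourRec
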